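import Cfsg.Agent.OddOrder.BG3.Frobenius
import Cfsg.Agent.OddOrder.BG1Stab
import Cfsg.Agent.Coprime.Action
import Cfsg.Agent.Solvable.Fitting
import Mathlib.GroupTheory.NoncommCoprod
import Mathlib.GroupTheory.Abelianization.Defs

/-!
# BG 3.7: Frobenius groups acting on p-groups, and nilpotency of solvable Frobenius kernels
-/

set_option autoImplicit false
set_option linter.style.haveILetI false

namespace CfsgLib.OddOrder

open Subgroup Stab

variable {X : Type*} [Group X] [Finite X]

omit [Finite X] in
/-- The join of two commuting nilpotent subgroups is nilpotent. -/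
theorem isNilpotent_sup_of_commute {A B : Subgroup X} (hA : Group.IsNilpotent A)
    (hB : Group.IsNilpotent B) (h : A ≤ centralizer (B : Set X)) :
    Group.IsNilpotent ↥(A ⊔ B) := by
  have hc : ∀ (a : A) (b : B), Commute (A.subtype a) (B.subtype b) := fun a b =>
    ((mem_centralizer_iff.1 (h a.2)) b b.2).symm
  have hr : (MonoidHom.noncommCoprod A.subtype B.subtype hc).range = A ⊔ B := by
    rw [MonoidHom.noncommCoprod_range, range_subtype, range_subtype]
  haveI := hA
  haveI := hB
  haveI : Group.IsNilpotent (MonoidHom.noncommCoprod A.subtype B.subtype hc).range :=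
    Group.nilpotent_of_surjective (MonoidHom.noncommCoprod A.subtype B.subtype hc).rangeRestrict
      (MonoidHom.rangeRestrict_surjective _)
  exact Group.nilpotent_of_surjective (MulEquiv.subgroupCongr hr).toMonoidHom
    (MulEquiv.subgroupCongr hr).surjective

/-- BG 3.1, iterated along the Frattini series: if `K R` is Frobenius and acts on the `ℓ`-group `P`
with `C_P(R) = 1`, `#K` prime to `ℓ` and `#R` prime to `#P`, then `K` centralizes `P`. -/
theorem le_centralizer_pGroup_of_frobenius_action {ℓ : ℕ} [Fact ℓ.Prime] {K R P : Subgroup X}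
    (hP : IsPGroup ℓ P) (hRK : R ≤ normalizer (K : Set X))
    (hKP : K ≤ normalizer (P : Set X)) (hRP : R ≤ normalizer (P : Set X))
    (hfpf : ∀ r ∈ R, r ≠ 1 → K ⊓ centralizer ({r} : Set X) = ⊥)
    (hKl : (Nat.card K).Coprime ℓ) (hRcop : (Nat.card R).Coprime (Nat.card P))
    (hfix : P ⊓ centralizer (R : Set X) = ⊥) :
    K ≤ centralizer (P : Set X) := by
  let N := normalizer (P : Set X)
  let ab : MulAut P →* MulAut (Abelianization P) :=
    { toFun := fun e => e.abelianizationCongr
      map_one' := MulEquiv.ext fun x =>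
        DFunLike.congr_fun (Abelianization.map_id (G := P)) x
      map_mul' := fun e f => MulEquiv.ext fun x =>
        (Abelianization.map_map_apply (f := f.toMonoidHom) (g := e.toMonoidHom) (x := x)).symm }
  letI : MulDistribMulAction N (Abelianization P) :=
    MulDistribMulAction.compHom _ (ab.comp (normalizerMonoidHom P))
  have hof : ∀ (n : N) (x : P), n • (Abelianization.of x : Abelianization P) =
      Abelianization.of (normalizerMonoidHom P n x) := fun n x => rfl
  haveI : Finite (Abelianization P) := Quotient.finite _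
  have hKV : (Nat.card (K.subgroupOf N)).Coprime (Nat.card (Abelianization P)) := by
    rw [Nat.card_congr (subgroupOfEquivOfLe hKP).toEquiv]
    obtain ⟨n, hn⟩ := IsPGroup.iff_card.1 hP
    have hd : Nat.card (Abelianization P) ∣ ℓ ^ n := hn ▸ Subgroup.card_quotient_dvd_card _
    exact (hKl.pow_right n).coprime_dvd_right hd
  have hPnil : Group.IsNilpotent P := hP.isNilpotent
  have hcom : ∀ k ∈ K, ∀ x : P, k * x * k⁻¹ * (x : X)⁻¹ ∈ (commutator P).map P.subtype := by
    intro k hk x
    have h := smul_eq_self_of_frobenius (X := N) (V := Abelianization P) (K.subgroupOf N)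
      (R.subgroupOf N) ?_ ?_ hKV ?_ (k := ⟨k, hKP hk⟩) (mem_subgroupOf.2 hk) (Abelianization.of x)
    · rw [hof, ← div_eq_one, ← map_div, ← MonoidHom.mem_ker, Abelianization.ker_of] at h
      exact ⟨_, h, by simp [div_eq_mul_inv]⟩
    · intro r hr
      rw [mem_subgroupOf] at hr
      rw [mem_normalizer_iff]
      intro m
      simp only [mem_subgroupOf, Subgroup.coe_mul, Subgroup.coe_inv]
      exact mem_normalizer_iff.1 (hRK hr) m
    · intro r hr hr1 m hm hcomm
      have hmem : (m : X) ∈ K ⊓ centralizer ({(r : X)} : Set X) :=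
        ⟨mem_subgroupOf.1 hm, mem_centralizer_iff.2 fun y hy => by
          rw [Set.mem_singleton_iff.1 hy]; exact (congrArg Subtype.val hcomm).symm⟩
      rw [hfpf r (mem_subgroupOf.1 hr) fun h => hr1 (Subtype.ext h), mem_bot] at hmem
      exact Subtype.ext hmem
    · intro w hw
      obtain ⟨⟨y, hy⟩, rfl⟩ := QuotientGroup.mk'_surjective (commutator P) w
      let D : Subgroup X := (commutator P).map P.subtype
      have hDP : D ≤ P := map_subtype_le _
      have hRD : R ≤ normalizer (D : Set X) := by
        rw [le_normalizer_iff]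
        exact fun r hr x hx => map_subtype_conj_mem _ (hRP hr) hx
      have hsol : Group.IsSolvable D :=
        Group.isSolvable_of_isSolvable_injective (Subgroup.inclusion_injective hDP)
      obtain ⟨c, hc, hcD⟩ := Coprime.exists_fixed_mem_coset hRD
        (hRcop.coprime_dvd_right (Subgroup.card_dvd_of_le hDP)) (Or.inr hsol) (k := y) fun r hr => by
          have h := hw ⟨r, hRP hr⟩ (mem_subgroupOf.2 hr)
          change (⟨r, hRP hr⟩ : N) • (Abelianization.of (⟨y, hy⟩ : P) : Abelianization P) =
            Abelianization.of (⟨y, hy⟩ : P) at h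
          rw [hof, eq_comm, ← inv_mul_eq_one, ← map_inv, ← map_mul, ← MonoidHom.mem_ker,
            Abelianization.ker_of] at h
          exact ⟨_, h, by simp [mul_assoc]⟩
      have hcP : c ∈ P := by simpa using P.mul_mem hy (hDP hcD)
      have hc1 : c ∈ P ⊓ centralizer (R : Set X) := ⟨hcP, hc⟩
      rw [hfix, mem_bot] at hc1
      subst hc1
      rw [mul_one] at hcD
      show Abelianization.of (⟨y, hy⟩ : P) = 1
      rw [← MonoidHom.mem_ker, Abelianization.ker_of]
      obtain ⟨z, hz, hze⟩ := inv_mem hcD
      rw [inv_inv] at hze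
      exact (show z = ⟨y, hy⟩ from Subtype.ext hze) ▸ hz
  refine Coprime.le_centralizer_of_commutator_le_frattini hKP ?_ ?_
  · obtain ⟨n, hn⟩ := IsPGroup.iff_card.1 hP
    exact (hKl.pow_right n).coprime_dvd_right (hn ▸ Subgroup.card_subgroup_dvd_card _)
  · have hle : commutator P ≤ frattini P := by
      rw [commutator_eq_closure, closure_le]
      rintro _ ⟨a, b, rfl⟩
      exact (frattini_facts hP).1 a b
    refine (commutator_le.2 fun x hx k hk => ?_).trans (map_mono hle)
    have h := inv_mem (hcom k hk ⟨x, hx⟩)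
    simpa [commutatorElement_def, mul_assoc] using h

/-- BG 3.7: a solvable group with a fixed point free automorphism of prime order is nilpotent. -/
theorem isNilpotent_of_prime_fpf {K R : Subgroup X} (hsolv : Group.IsSolvable K)
    (hRK : R ≤ normalizer (K : Set X)) (hR : (Nat.card R).Prime)
    (hfix : K ⊓ centralizer (R : Set X) = ⊥) : Group.IsNilpotent K := by
  haveI := hsolv
  haveI : Fact (Nat.card R).Prime := ⟨hR⟩
  have hfpf : ∀ r ∈ R, r ≠ 1 → K ⊓ centralizer ({r} : Set X) = ⊥ := by
    intro r hr hr1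
    have hgen : zpowers r = R := Subgroup.eq_of_le_of_card_ge (zpowers_le.2 hr) (by
      rcases (Nat.dvd_prime hR).1 (Subgroup.card_dvd_of_le (zpowers_le.2 hr)) with h | h
      · exact absurd (zpowers_eq_bot.1 (Subgroup.card_eq_one.1 h)) hr1
      · rw [h])
    rw [← hfix, ← hgen, zpowers_eq_closure, centralizer_closure]
  have hcop : (Nat.card R).Coprime (Nat.card K) := by
    rw [hR.coprime_iff_not_dvd]
    intro hdvd
    letI : MulAction R K :=
      MulAction.compHom K ((normalizerMonoidHom K).comp (inclusion hRK))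
    have hact : ∀ (r : R) (k : K), ((r • k : K) : X) = (r : X) * k * (r : X)⁻¹ := fun r k => rfl
    have h := (IsPGroup.of_card (n := 1) (pow_one _).symm : IsPGroup (Nat.card R) R).card_modEq_card_fixedPoints (α := K)
    have h1 : Nat.card (MulAction.fixedPoints R K) = 1 := by
      rw [Nat.card_eq_one_iff_unique]
      refine ⟨⟨fun a b => ?_⟩, ⟨⟨1, fun r => Subtype.ext (by rw [hact]; simp)⟩⟩⟩
      have key : ∀ c : MulAction.fixedPoints R K, (c : K) = 1 := fun c => by
        have hm : ((c : K) : X) ∈ K ⊓ centralizer (R : Set X) :=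
          ⟨(c : K).2, mem_centralizer_iff.2 fun r hr => by
            have h' := congrArg Subtype.val (c.2 ⟨r, hr⟩)
            rw [hact] at h'
            exact mul_inv_eq_iff_eq_mul.1 h'⟩
        rw [hfix, mem_bot] at hm
        exact Subtype.ext hm
      exact Subtype.ext ((key a).trans (key b).symm)
    rw [h1] at h
    have h0 : Nat.card K % Nat.card R = 0 := Nat.mod_eq_zero_of_dvd hdvd
    rw [Nat.ModEq, h0, Nat.one_mod_eq_one.2 hR.ne_one] at h
    exact zero_ne_one h
  -- every Sylow subgroup centralizes the cores for the other primes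
  have hcent : ∀ (q ℓ : ℕ) [Fact q.Prime] [Fact ℓ.Prime], q ≠ ℓ → ∀ S : Sylow q K,
      (S : Subgroup K) ≤ centralizer (Cfsg.pCore ℓ K : Set K) := by
    intro q ℓ hq hl hne S
    obtain ⟨S₀, hS₀⟩ := Coprime.exists_invariant_sylow hRK hcop (Or.inr hsolv) q
    haveI := Solvable.pCore_characteristic (G := K) ℓ
    haveI := Solvable.pCore_normal (G := K) ℓ
    have hnorm : ∀ H : Subgroup X, H ≤ normalizer (K : Set X) →
        H ≤ normalizer (((Cfsg.pCore ℓ K).map K.subtype : Subgroup X) : Set X) := by
      intro H hH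
      rw [le_normalizer_iff]
      exact fun r hr x hx => map_subtype_conj_mem _ (hH hr) hx
    have hl' := le_centralizer_pGroup_of_frobenius_action (ℓ := ℓ)
      (K := (S₀ : Subgroup K).map K.subtype) (R := R) (P := (Cfsg.pCore ℓ K).map K.subtype)
      ((Solvable.isPGroup_pCore (G := K) ℓ).map _) hS₀
      (hnorm _ ((map_subtype_le _).trans le_normalizer)) (hnorm _ hRK)
      (fun r hr hr1 => le_bot_iff.1 ((inf_le_inf_right _ (map_subtype_le _)).trans (hfpf r hr hr1).le))
      ?_ ?_ (le_bot_iff.1 ((inf_le_inf_right _ (map_subtype_le _)).trans hfix.le))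
    · intro s hs
      obtain ⟨g, rfl⟩ := MulAction.exists_smul_eq K S₀ S
      rw [Sylow.coe_subgroup_smul, Coprime.mem_conj_smul] at hs
      rw [mem_centralizer_iff]
      intro y hy
      have hy' : g⁻¹ * y * g ∈ Cfsg.pCore ℓ K := by
        simpa using (Solvable.pCore_normal (G := K) ℓ).conj_mem y hy g⁻¹
      have h1 := (mem_centralizer_iff.1 (hl' (mem_map_of_mem K.subtype hs))) _
        (mem_map_of_mem K.subtype hy')
      rw [← map_mul, ← map_mul] at h1
      have h2 := congrArg (fun z => g * z * g⁻¹) (K.subtype_injective h1)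
      simpa [mul_assoc] using h2
    · obtain ⟨n, hn⟩ := IsPGroup.iff_card.1 S₀.2
      rw [Subgroup.card_map_of_injective K.subtype_injective]
      exact hn ▸ ((Nat.coprime_primes hq.out hl.out).2 hne).pow_left n
    · rw [Subgroup.card_map_of_injective K.subtype_injective]
      exact hcop.coprime_dvd_right (Subgroup.card_subgroup_dvd_card _)
  by_contra hnil
  haveI := Solvable.fittingSubgroup_normal (G := K)
  have hF : Cfsg.fittingSubgroup K ≠ ⊤ := fun h => hnil (by
    haveI := Solvable.fittingSubgroup_isNilpotent (G := K)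
    exact Group.nilpotent_of_surjective
      ((MulEquiv.subgroupCongr h).trans Subgroup.topEquiv).toMonoidHom
      ((MulEquiv.subgroupCongr h).trans Subgroup.topEquiv).surjective)
  haveI : Nontrivial (K ⧸ Cfsg.fittingSubgroup K) := QuotientGroup.nontrivial_iff.2 hF
  obtain ⟨M, hMn, hMne, hmin⟩ := Solvable.exists_minimal_normal (G := K ⧸ Cfsg.fittingSubgroup K)
  haveI := hMn
  obtain ⟨q, hq, hMq⟩ := Solvable.exists_isPGroup_of_minimal_normal hMne hmin
  haveI : Fact q.Prime := ⟨hq⟩
  set W := M.comap (QuotientGroup.mk' (Cfsg.fittingSubgroup K)) with hW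
  haveI hWn : W.Normal := hMn.comap _
  have hFW : Cfsg.fittingSubgroup K ≤ W := fun x hx => by
    rw [hW, mem_comap, QuotientGroup.mk'_apply, (QuotientGroup.eq_one_iff x).2 hx]; exact one_mem M
  let S : Sylow q W := Classical.arbitrary _
  obtain ⟨T, hT⟩ := (S.2.map W.subtype).exists_le_sylow
  set S' : Subgroup K := (S : Subgroup W).map W.subtype with hS'
  have hS'W : S' ≤ W := map_subtype_le _
  set F' : Subgroup K :=
    ⨆ ℓ : {p : Nat.Primes // (p : ℕ) ≠ q}, Cfsg.pCore (ℓ.1 : ℕ) K with hF'
  have hF'F : F' ≤ Cfsg.fittingSubgroup K := iSup_le fun ℓ => by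
    haveI : Fact (ℓ.1 : ℕ).Prime := ⟨ℓ.1.2⟩
    exact Solvable.pCore_le_fittingSubgroup _
  have hS'F' : S' ≤ centralizer (F' : Set K) := by
    rw [le_centralizer_iff, hF']
    exact iSup_le fun ℓ => le_centralizer_iff.1 (hT.trans (by
      haveI : Fact (ℓ.1 : ℕ).Prime := ⟨ℓ.1.2⟩
      exact hcent q _ (Ne.symm ℓ.2) T))
  have hFq : Cfsg.pCore q K ≤ S' := by
    have hle : Cfsg.pCore q K ≤ W :=
      (Solvable.pCore_le_fittingSubgroup q).trans hFW
    haveI := Solvable.pCore_normal (G := K) q
    have := IsPGroup.le_sylow_of_normal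
      ((Solvable.isPGroup_pCore q).of_equiv (subgroupOfEquivOfLe hle).symm :
        IsPGroup q ((Cfsg.pCore q K).subgroupOf W)) S
    exact fun x hx => ⟨⟨x, hle hx⟩, this (mem_subgroupOf.2 hx), rfl⟩
  have hWeq : W = S' ⊔ F' := by
    refine le_antisymm ?_ (sup_le hS'W (hF'F.trans hFW))
    have hFle : Cfsg.fittingSubgroup K ≤ S' ⊔ F' := by
      rw [Solvable.fittingSubgroup_eq_iSup]
      refine iSup_le fun ℓ => ?_
      by_cases h : (ℓ : ℕ) = q
      · rw [h]; exact hFq.trans le_sup_left
      · exact le_trans (le_iSup (fun ℓ : {p : Nat.Primes // (p : ℕ) ≠ q} => Cfsg.pCore (ℓ.1 : ℕ) K) ⟨ℓ, h⟩)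
          le_sup_right
    set U := (S' ⊔ F').subgroupOf W with hU
    have h1 : U.index ∣ (S : Subgroup W).index := index_dvd_of_le fun x hx =>
      mem_subgroupOf.2 (le_sup_left (b := F') (mem_map_of_mem W.subtype hx))
    have h2 : U.index ∣ ((Cfsg.fittingSubgroup K).subgroupOf W).index :=
      index_dvd_of_le fun x hx => mem_subgroupOf.2 (hFle (mem_subgroupOf.1 hx))
    have h3 : ((Cfsg.fittingSubgroup K).subgroupOf W).index = Nat.card M := by
      let f : W →* M := ((QuotientGroup.mk' (Cfsg.fittingSubgroup K)).comp W.subtype).codRestrict M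
        fun x => x.2
      have hsurj : Function.Surjective f := fun m => by
        obtain ⟨k, hk⟩ := QuotientGroup.mk'_surjective (Cfsg.fittingSubgroup K) m
        exact ⟨⟨k, by rw [hW, mem_comap, hk]; exact m.2⟩, Subtype.ext hk⟩
      have hker : f.ker = (Cfsg.fittingSubgroup K).subgroupOf W := by
        ext x
        rw [MonoidHom.mem_ker, mem_subgroupOf, Subtype.ext_iff]
        exact QuotientGroup.eq_one_iff _
      rw [← hker, index_ker, MonoidHom.range_eq_top.2 hsurj, card_top]
    obtain ⟨n, hn⟩ := IsPGroup.iff_card.1 hMq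
    rw [h3, hn] at h2
    have h4 : (q ^ n).Coprime (S : Subgroup W).index :=
      ((hq.coprime_iff_not_dvd).2 S.not_dvd_index).pow_left n
    have h5 : U.index = 1 := Nat.dvd_one.1 (h4 ▸ Nat.dvd_gcd h2 h1)
    rw [index_eq_one, hU, subgroupOf_eq_top] at h5
    exact h5
  have hWnil : Group.IsNilpotent W := by
    have hF'nil : Group.IsNilpotent F' := by
      haveI := Solvable.fittingSubgroup_isNilpotent (G := K)
      exact Group.nilpotent_of_surjective (subgroupOfEquivOfLe hF'F).toMonoidHom
        (subgroupOfEquivOfLe hF'F).surjective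
    have := isNilpotent_sup_of_commute (X := K) (S.2.map W.subtype).isNilpotent hF'nil hS'F'
    rwa [← hWeq] at this
  apply hMne
  have hWF : W ≤ Cfsg.fittingSubgroup K := Solvable.le_fittingSubgroup hWnil
  have : W.map (QuotientGroup.mk' (Cfsg.fittingSubgroup K)) = M :=
    map_comap_eq_self_of_surjective (QuotientGroup.mk'_surjective _) M
  rw [← this, Subgroup.map_eq_bot_iff, QuotientGroup.ker_mk']
  exact hWF

end CfsgLib.OddOrder
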