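import Cfsg.Agent.PLength.Basic
import Cfsg.Agent.OddOrder.BG6Fusion

/-!
# Criteria for `p`-length one
-/

set_option autoImplicit false
set_option linter.style.haveILetI false

namespace CfsgLib.OddOrder

open Subgroup Cfsg CfsgLib.PLength
open CfsgLib.PLocal (relIndex_comap_of_surjective)

variable {G : Type*} [Group G] [Finite G] {p : ℕ} [Fact p.Prime]

/-- Without a normal `p'`-subgroup, `p`-length one puts a Sylow `p`-subgroup in `O_p`. -/
theorem sylow_le_pCore_of_pLength_one (h0 : pPrimeCore p G = ⊥) (h : PLengthLE p 1 G)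
    (S : Sylow p G) : (S : Subgroup G) ≤ pCore p G := by
  have h1 := pPrimeCore_sup_sylow h S
  rw [h0, bot_sup_eq] at h1
  haveI : (S : Subgroup G).Normal := h1 ▸ pPrimePCore_normal' p
  exact CfsgLib.PLocal.le_pCore S.isPGroup'

/-- A normal Sylow `p`-subgroup gives `p`-length one. -/
theorem pLengthLE_one_of_sylow_le_pCore (S : Sylow p G) (h : (S : Subgroup G) ≤ pCore p G) :
    PLengthLE p 1 G := by
  have hQ : PLengthLE p 0 (G ⧸ pCore p G) := by
    rw [pLengthLE_zero_iff, ← index_eq_card]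
    exact ((Fact.out : p.Prime).coprime_iff_not_dvd.2 fun hd =>
      S.not_dvd_index (hd.trans (index_dvd_of_le h))).symm
  exact pLengthLE_extension (a := 1) (b := 0) (pCore p G)
    (pLengthLE_one_of_isPGroup (CfsgLib.PLocal.isPGroup_pCore p G)) hQ

/-- `p`-length one lifts along a normal `p`-subgroup `N` with `O_{p'}(G/N) = 1`. -/
theorem pLengthLE_one_of_pGroup_quotient (N : Subgroup G) [N.Normal] (hN : IsPGroup p N)
    (h0 : pPrimeCore p (G ⧸ N) = ⊥) (h : PLengthLE p 1 (G ⧸ N)) : PLengthLE p 1 G := by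
  let S : Sylow p G := default
  have hsurj := QuotientGroup.mk'_surjective N
  refine pLengthLE_one_of_sylow_le_pCore S ?_
  rw [← CfsgLib.PLocal.comap_pCore_quotient N hN, ← map_le_iff_le_comap]
  exact sylow_le_pCore_of_pLength_one h0 h (S.mapSurjective hsurj)

/-- `p`-length one passes to subdirect products. -/
theorem pLengthLE_one_of_inf_eq_bot (A B : Subgroup G) [A.Normal] [B.Normal] (hAB : A ⊓ B = ⊥)
    (hA : PLengthLE p 1 (G ⧸ A)) (hB : PLengthLE p 1 (G ⧸ B)) : PLengthLE p 1 G := by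
  obtain ⟨U, hU, hU3⟩ := exists_series hA
  obtain ⟨V, hV, hV3⟩ := exists_series hB
  let U' : ℕ → Subgroup G := fun i => (U i).comap (QuotientGroup.mk' A)
  let V' : ℕ → Subgroup G := fun i => (V i).comap (QuotientGroup.mk' B)
  have hU' : ∀ i, (U' i).relIndex (U' (i + 1)) = (U i).relIndex (U (i + 1)) := fun i =>
    relIndex_comap_of_surjective (QuotientGroup.mk'_surjective A) _ _
  have hV' : ∀ i, (V' i).relIndex (V' (i + 1)) = (V i).relIndex (V (i + 1)) := fun i =>
    relIndex_comap_of_surjective (QuotientGroup.mk'_surjective B) _ _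
  have hd : ∀ i, (U' i ⊓ V' i).relIndex (U' (i + 1) ⊓ V' (i + 1)) ∣
      (U i).relIndex (U (i + 1)) * (V i).relIndex (V (i + 1)) := by
    intro i
    haveI : (U' i).Normal := (hU.normal i).comap _
    haveI : (V' i).Normal := (hV.normal i).comap _
    have hle : U' i ⊓ V' i ≤ U' i ⊓ V' (i + 1) := inf_le_inf_left _ (comap_mono (hV.mono i))
    have hle' : U' i ⊓ V' (i + 1) ≤ U' (i + 1) ⊓ V' (i + 1) :=
      inf_le_inf_right _ (comap_mono (hU.mono i))
    rw [← relIndex_mul_relIndex _ _ _ hle hle', mul_comm ((U i).relIndex _), ← hU', ← hV']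
    refine mul_dvd_mul ?_ ?_
    · rw [show U' i ⊓ V' i = V' i ⊓ (U' i ⊓ V' (i + 1)) by
        rw [inf_left_comm, inf_of_le_left (comap_mono (hV.mono i) : V' i ≤ V' (i + 1))],
        inf_relIndex_right]
      exact CfsgLib.PLocal.relIndex_dvd_of_le_right_of_normal _ inf_le_right
    · rw [show U' i ⊓ V' (i + 1) = U' i ⊓ (U' (i + 1) ⊓ V' (i + 1)) by
        rw [← inf_assoc, inf_of_le_left (comap_mono (hU.mono i) : U' i ≤ U' (i + 1))],
        inf_relIndex_right]
      exact CfsgLib.PLocal.relIndex_dvd_of_le_right_of_normal _ inf_le_left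
  refine pLengthLE_of_series (W := fun i => U' i ⊓ V' i) ⟨?_, fun i => ?_, fun i => ?_,
    fun i hi => ?_, fun i hi => ?_⟩ ?_
  · show (U 0).comap _ ⊓ (V 0).comap _ = ⊥
    rw [hU.zero, hV.zero, MonoidHom.comap_bot, MonoidHom.comap_bot, QuotientGroup.ker_mk',
      QuotientGroup.ker_mk', hAB]
  · haveI : (U' i).Normal := (hU.normal i).comap _
    haveI : (V' i).Normal := (hV.normal i).comap _
    infer_instance
  · exact inf_le_inf (comap_mono (hU.mono i)) (comap_mono (hV.mono i))
  · exact ((hU.coprime i hi).mul_left (hV.coprime i hi)).coprime_dvd_left (hd i)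
  · obtain ⟨a, ha⟩ := hU.ppow i hi
    obtain ⟨b, hb⟩ := hV.ppow i hi
    have h' := hd i
    rw [ha, hb, ← pow_add] at h'
    obtain ⟨j, -, hj⟩ := (Nat.dvd_prime_pow (Fact.out : p.Prime)).1 h'
    exact ⟨j, hj⟩
  · show (U _).comap _ ⊓ (V _).comap _ = ⊤
    rw [hU3, hV3, comap_top, comap_top, inf_idem]

end CfsgLib.OddOrder
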