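import Cfsg.Agent.OddOrder.BG3.Config36
import Cfsg.Agent.OddOrder.BG3.PLengthOne
import Cfsg.Agent.PLocal.PSolvable

/-!
# BG 3.6: `[H, R]` has `p`-length one
-/

set_option autoImplicit false
set_option linter.style.haveILetI false

namespace CfsgLib.OddOrder

open Subgroup Cfsg CfsgLib.PLength
open scoped commutatorElement Pointwise

universe u

variable {X : Type u} [Group X] [Finite X]

/-- The image of `↥H` in `X / N` is `H / (H ∩ N)`. -/
noncomputable def quotientMapEquiv (H N : Subgroup X) [N.Normal] :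
    H ⧸ N.subgroupOf H ≃* H.map (QuotientGroup.mk' N) :=
  (QuotientGroup.quotientMulEquivOfEq (by
      ext x
      rw [MonoidHom.mem_ker, mem_subgroupOf, ← Subtype.coe_inj]
      exact (QuotientGroup.eq_one_iff (x : X)).symm :
      N.subgroupOf H = ((QuotientGroup.mk' N).subgroupMap H).ker)).trans
    (QuotientGroup.quotientKerEquivOfSurjective _ ((QuotientGroup.mk' N).subgroupMap_surjective H))

/-- The step: `H = [H, R]`, and every proper quotient has `p`-length one. -/
theorem pLengthLE_one_step {p : ℕ} [Fact p.Prime] (H R R₀ : Subgroup X) [H.Normal]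
    (htop : H ⊔ R = ⊤) (hsolv : Group.IsSolvable H) (hodd : Odd (Nat.card H))
    (hcop : (Nat.card R).Coprime (Nat.card H)) (hR₀ : R₀ ≤ R) (hr : (Nat.card R₀).Prime)
    (hr2 : Nat.card R₀ ≠ 2) (heq : ⁅H, R⁆ = H)
    (hZ : IsZGroup ↥(H ⊓ centralizer (R₀ : Set X)))
    (hquot : ∀ N : Subgroup X, [N.Normal] → N ≤ H → N ≠ ⊥ →
      PLengthLE p 1 (H ⧸ N.subgroupOf H)) : PLengthLE p 1 H := by
  classical
  haveI := hsolv
  haveI := hZ
  -- a prime to `p` group
  by_cases hpH : ¬ p ∣ Nat.card H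
  · exact pLengthLE_mono zero_le_one (pLengthLE_zero_iff.2
      ((Fact.out : p.Prime).coprime_iff_not_dvd.2 hpH).symm)
  rw [not_not] at hpH
  have hp2 : p ≠ 2 := fun h => by
    have := hodd.of_dvd_nat hpH
    rw [h] at this
    exact absurd this (by decide)
  have hrH : (Nat.card R₀).Coprime (Nat.card H) := hcop.coprime_dvd_left (card_dvd_of_le hR₀)
  have hrp : Nat.card R₀ ≠ p := fun h =>
    hr.not_dvd_one (hrH ▸ Nat.dvd_gcd dvd_rfl (h ▸ hpH))
  -- characteristic subgroups of `H`
  have hchar : ∀ (K : Subgroup H), K.Characteristic → (K.map H.subtype).Normal := fun K hK => by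
    haveI := hK
    exact ConjAct.normal_of_characteristic_of_normal
  have hsub : ∀ K : Subgroup H, (K.map H.subtype).subgroupOf H = K := fun K =>
    comap_map_eq_self_of_injective H.subtype_injective K
  have hne : ∀ K : Subgroup H, K ≠ ⊥ → K.map H.subtype ≠ ⊥ := fun K hK h =>
    hK ((map_eq_bot_iff_of_injective _ H.subtype_injective).1 h)
  have hchQ : ∀ (K : Subgroup H) [K.Normal], K.Characteristic → K ≠ ⊥ →
      PLengthLE p 1 (H ⧸ K) := by
    intro K _ hK hK1
    haveI := hchar K hK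
    exact pLengthLE_congr (QuotientGroup.quotientMulEquivOfEq (hsub K))
      (hquot (K.map H.subtype) (map_subtype_le K) (hne K hK1))
  -- no normal `p'`-subgroup
  by_cases h0 : pPrimeCore p H = ⊥
  swap
  · exact pLengthLE_extension (a := 0) (b := 1) (pPrimeCore p H)
      (pLengthLE_zero_iff.2 (CfsgLib.PLocal.coprime_card_pPrimeCore p H))
      (hchQ (pPrimeCore p H) inferInstance h0)
  set V₀ := pCore p H with hV₀
  have hHH : centralizer (V₀ : Set H) ≤ V₀ :=
    CfsgLib.PLocal.centralizer_pCore_le CfsgLib.PLocal.isPSolvable_of_isSolvable h0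
  have hV₀p : IsPGroup p V₀ := CfsgLib.PLocal.isPGroup_pCore p H
  -- reduce to elementary abelian `O_p`
  by_cases hfrat : frattini V₀ = ⊥
  swap
  · set Φ := (frattini V₀).map V₀.subtype with hΦ
    haveI : V₀.Normal := inferInstance
    haveI hΦn : Φ.Normal := ConjAct.normal_of_characteristic_of_normal
    have hΦc : Φ.Characteristic := by
      rw [characteristic_iff_map_eq]
      intro e
      have hV : V₀.map e.toMonoidHom = V₀ := CfsgLib.PLocal.map_pCore_equiv e
      let e' : V₀ ≃* V₀ := (e.subgroupMap V₀).trans (MulEquiv.subgroupCongr hV)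
      have hc : (frattini V₀).map e'.toMonoidHom = frattini V₀ :=
        characteristic_iff_map_eq.1 inferInstance e'
      rw [hΦ]
      conv_rhs => rw [← hc]
      rw [map_map, map_map]
      rfl
    have hΦp : IsPGroup p Φ := (hV₀p.to_subgroup _).map _
    refine pLengthLE_one_of_pGroup_quotient Φ hΦp ?_ (hchQ Φ hΦc fun h =>
      hfrat ((map_eq_bot_iff_of_injective _ V₀.subtype_injective).1 h))
    -- `O_{p'}(H / Φ) = 1`
    set T₁ := pPrimeCore p (H ⧸ Φ) with hT₁
    set T := T₁.comap (QuotientGroup.mk' Φ) with hT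
    haveI hTn : T.Normal := (inferInstance : T₁.Normal).comap _
    have hΦT : Φ ≤ T := fun x hx => by
      rw [hT, mem_comap, QuotientGroup.mk'_apply, (QuotientGroup.eq_one_iff x).2 hx]; exact one_mem _
    have hTV : T ⊓ V₀ ≤ Φ := by
      intro x hx
      rw [← QuotientGroup.eq_one_iff (N := Φ), ← mem_bot,
        ← CfsgLib.PLocal.eq_bot_of_isPGroup_of_coprime (G := H ⧸ Φ)
          ((hV₀p.to_le inf_le_right).map (QuotientGroup.mk' Φ) :
            IsPGroup p ((T ⊓ V₀).map (QuotientGroup.mk' Φ)))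
          (CfsgLib.PLocal.coprime_card_of_le (by
            rintro _ ⟨y, hy, rfl⟩; exact hy.1) (CfsgLib.PLocal.coprime_card_pPrimeCore p (H ⧸ Φ)))]
      exact mem_map_of_mem _ hx
    obtain ⟨C, hC⟩ := Subgroup.exists_right_complement'_of_coprime (N := Φ.subgroupOf T) (by
      rw [Nat.card_congr (subgroupOfEquivOfLe hΦT).toEquiv]
      show (Nat.card Φ).Coprime (Φ.relIndex T)
      rw [CfsgLib.PLength.relIndex_comap_mk']
      obtain ⟨n, hn⟩ := IsPGroup.iff_card.1 hΦp
      rw [hn]
      exact ((CfsgLib.PLocal.coprime_card_pPrimeCore p (H ⧸ Φ)).symm).pow_left n)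
    set C' := C.map T.subtype with hC'
    have hC'p : (Nat.card C').Coprime p := by
      rw [hC', card_map_of_injective T.subtype_injective, ← hC.symm.index_eq_card]
      show (Φ.relIndex T).Coprime p
      rw [CfsgLib.PLength.relIndex_comap_mk']
      exact CfsgLib.PLocal.coprime_card_pPrimeCore p (H ⧸ Φ)
    have hC'V : C' ≤ centralizer (V₀ : Set H) := by
      refine Coprime.le_centralizer_of_commutator_le_frattini
        (by rw [normalizer_eq_top]; exact le_top) ?_ ?_
      · obtain ⟨n, hn⟩ := IsPGroup.iff_card.1 hV₀p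
        exact (hC'p.pow_right n).coprime_dvd_right (hn ▸ card_subgroup_dvd_card _)
      · refine le_trans ?_ hTV
        exact le_inf ((commutator_mono le_rfl (map_subtype_le C)).trans (commutator_le_right _ _))
          (commutator_le_left _ _)
    have hC'bot : C' = ⊥ := CfsgLib.PLocal.eq_bot_of_isPGroup_of_coprime
      (hV₀p.to_le (hC'V.trans hHH)) hC'p
    have hCbot : C = ⊥ := (map_eq_bot_iff_of_injective _ T.subtype_injective).1 hC'bot
    have h1 := hC.symm.index_eq_card
    rw [hCbot, Subgroup.card_bot] at h1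
    have h2 : Φ.relIndex T = 1 := h1
    rw [CfsgLib.PLength.relIndex_comap_mk'] at h2
    exact Subgroup.card_eq_one.1 h2
  haveI hV₀c : IsMulCommutative V₀ := ⟨⟨fun a b => by
    have := (Stab.frattini_facts hV₀p).1 a b
    rwa [hfrat, mem_bot, commutatorElement_eq_one_iff_mul_comm] at this⟩⟩
  have hV₀pow : ∀ v ∈ V₀, v ^ p = 1 := fun v hv => by
    have := (Stab.frattini_facts hV₀p).2.1 ⟨v, hv⟩
    rw [hfrat, mem_bot] at this
    exact congrArg Subtype.val this
  -- pass to the ambient group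
  set V := V₀.map H.subtype with hVdef
  haveI hVn : V.Normal := hchar V₀ inferInstance
  have hVH : V ≤ H := map_subtype_le _
  have hVp : IsPGroup p V := hV₀p.map _
  have hVpow : ∀ v ∈ V, v ^ p = 1 := by
    rintro _ ⟨v, hv, rfl⟩
    rw [← map_pow, hV₀pow v hv, map_one]
  have hVc : IsMulCommutative V := ⟨⟨by
    rintro ⟨_, a, ha, rfl⟩ ⟨_, b, hb, rfl⟩
    exact Subtype.ext (congrArg (fun z : H => (z : X))
      (congrArg Subtype.val (hV₀c.is_comm.comm ⟨a, ha⟩ ⟨b, hb⟩)))⟩⟩
  have hCV : H ⊓ centralizer (V : Set X) ≤ V := fun x hx =>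
    ⟨⟨x, hx.1⟩, hHH (mem_centralizer_iff.2 fun y hy => Subtype.ext
      (mem_centralizer_iff.1 hx.2 y (mem_map_of_mem _ hy))), rfl⟩
  have hV1 : V₀ ≠ ⊥ := fun h => by
    have htop' : (⊤ : Subgroup H) ≤ ⊥ := by
      intro x _
      rw [← h]
      exact hHH (mem_centralizer_iff.2 fun y hy => by rw [h] at hy; simp [mem_bot.1 hy])
    have hd := card_dvd_of_le htop'
    rw [card_top, Subgroup.card_bot] at hd
    exact (Fact.out : p.Prime).not_dvd_one (hpH.trans hd)
  have hq := hchQ V₀ inferInstance hV1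
  -- `U / V = O_{p'}(H / V)`
  set U₀ := (pPrimeCore p (H ⧸ V₀)).comap (QuotientGroup.mk' V₀) with hU₀
  by_cases hU₀V : U₀ ≤ V₀
  · refine pLengthLE_one_of_pGroup_quotient V₀ hV₀p ?_ hq
    rw [eq_bot_iff, ← map_comap_eq_self_of_surjective (QuotientGroup.mk'_surjective V₀)
      (pPrimeCore p (H ⧸ V₀))]
    exact (map_mono hU₀V).trans ((Subgroup.map_eq_bot_iff _).2 (QuotientGroup.ker_mk' V₀).ge).le
  have hV₀U : V₀ ≤ U₀ := fun x hx => by
    rw [hU₀, mem_comap, QuotientGroup.mk'_apply, (QuotientGroup.eq_one_iff x).2 hx]; exact one_mem _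
  set U := U₀.map H.subtype with hUdef
  haveI hU₀c : U₀.Characteristic := by
    rw [characteristic_iff_map_le]
    intro e
    have hV : V₀.map e.toMonoidHom = V₀ := CfsgLib.PLocal.map_pCore_equiv e
    let ē : (H ⧸ V₀) ≃* (H ⧸ V₀) := QuotientGroup.congr V₀ V₀ e hV
    rintro _ ⟨x, hx, rfl⟩
    rw [hU₀, mem_comap]
    have h1 : ē (QuotientGroup.mk' V₀ x) ∈ (pPrimeCore p (H ⧸ V₀)).map ē.toMonoidHom :=
      mem_map_of_mem _ hx
    rw [CfsgLib.PLocal.map_pPrimeCore_equiv ē] at h1
    exact h1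
  haveI hUn : U.Normal := hchar U₀ hU₀c
  have hVU : V ≤ U := map_mono hV₀U
  have hUH : U ≤ H := map_subtype_le _
  haveI : Group.IsSolvable U := Coprime.isSolvable_of_le hUH
  have hVUidx : (V.relIndex U).Coprime p := by
    rw [hVdef, hUdef, relIndex_map_map_of_injective _ _ H.subtype_injective, hU₀,
      CfsgLib.PLength.relIndex_comap_mk']
    exact CfsgLib.PLocal.coprime_card_pPrimeCore p _
  obtain ⟨nV, hnV⟩ := IsPGroup.iff_card.1 hVp
  haveI : (V.subgroupOf U).Normal := hVn.subgroupOf U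
  obtain ⟨Q₀, hQ₀⟩ := Subgroup.exists_right_complement'_of_coprime (N := V.subgroupOf U) (by
    rw [Nat.card_congr (subgroupOfEquivOfLe hVU).toEquiv, hnV]
    exact hVUidx.symm.pow_left nV)
  set Q₁ := Q₀.map U.subtype with hQ₁
  have hQ₁p : (Nat.card Q₁).Coprime p := by
    rw [hQ₁, card_map_of_injective U.subtype_injective, ← hQ₀.symm.index_eq_card]
    exact hVUidx
  have hVQ₁ : V ⊔ Q₁ = U := by
    have h := congrArg (Subgroup.map U.subtype) hQ₀.sup_eq_top
    rwa [Subgroup.map_sup, map_subgroupOf_eq_of_le hVU, ← MonoidHom.range_eq_map,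
      range_subtype] at h
  have hnormV : ∀ A : Subgroup X, A ≤ normalizer (V : Set X) := fun A => by
    rw [normalizer_eq_top]; exact le_top
  have hVQc : ∀ A : Subgroup X, (Nat.card A).Coprime p → (Nat.card V).Coprime (Nat.card A) :=
    fun A hA => hnV ▸ hA.symm.pow_left nV
  -- complements of `V` in `U` are conjugate
  have hconj : ∀ A : Subgroup X, (Nat.card A).Coprime p → V ⊔ A = U →
      ∀ g : X, ∃ v ∈ V, MulAut.conj v • A = MulAut.conj g • A := by
    intro A hA hAU g
    refine Coprime.exists_conj_eq_of_sup_eq (hnormV A) (hnormV _) (hVQc A hA)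
      (Coprime.card_conj_smul g A) ?_ (Or.inl (Coprime.isSolvable_of_le hVU))
    have h1 : MulAut.conj g • (V ⊔ A) = MulAut.conj g • V ⊔ MulAut.conj g • A :=
      Subgroup.map_sup _ _ _
    rw [hAU, Coprime.conj_smul_eq_self (by rw [normalizer_eq_top]; exact mem_top g),
      Coprime.conj_smul_eq_self (by rw [normalizer_eq_top]; exact mem_top g)] at h1
    rw [hAU]; exact h1
  obtain ⟨g₀, hg₀, hRQ⟩ := Coprime.exists_invariant_conj
    (show R ≤ normalizer (U : Set X) by rw [normalizer_eq_top]; exact le_top)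
    (hcop.coprime_dvd_right (card_dvd_of_le hUH)) (Or.inr inferInstance) Q₁ fun a _ => by
      obtain ⟨v, hv, hva⟩ := hconj Q₁ hQ₁p hVQ₁ a
      exact ⟨v, hVU hv, hva.symm⟩
  set Q := MulAut.conj g₀ • Q₁ with hQ
  have hQp : (Nat.card Q).Coprime p := by rw [hQ, Coprime.card_conj_smul]; exact hQ₁p
  have hVQ : V ⊔ Q = U := by
    have h1 : MulAut.conj g₀ • (V ⊔ Q₁) = MulAut.conj g₀ • V ⊔ MulAut.conj g₀ • Q₁ :=
      Subgroup.map_sup _ _ _
    rw [hVQ₁, Coprime.conj_smul_eq_self (by rw [normalizer_eq_top]; exact mem_top g₀),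
      Coprime.conj_smul_eq_self (by rw [normalizer_eq_top]; exact mem_top g₀)] at h1
    exact h1.symm
  have hQH : Q ≤ H := (le_sup_right.trans hVQ.le).trans hUH
  have hVQb : V ⊓ Q = ⊥ := Coprime.inf_eq_bot_of_coprime (hVQc Q hQp)
  have hfaith : Q ⊓ centralizer (V : Set X) = ⊥ :=
    le_bot_iff.1 ((le_inf ((le_inf (inf_le_left.trans hQH) inf_le_right).trans hCV)
      inf_le_left).trans hVQb.le)
  set N := H ⊓ normalizer (Q : Set X) with hN
  have hVN : H ≤ V ⊔ N := by
    intro h hh
    obtain ⟨v, hv, hvh⟩ := hconj Q hQp hVQ h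
    have hmem : v⁻¹ * h ∈ N := by
      refine ⟨H.mul_mem (H.inv_mem (hVH hv)) hh, ?_⟩
      show v⁻¹ * h ∈ normalizer (Q : Set X)
      rw [Coprime.mem_normalizer_iff_conj_smul_eq, ← Coprime.conj_smul_conj_smul, ← hvh,
        Coprime.conj_smul_conj_smul, inv_mul_cancel, map_one, one_smul]
    rw [← mul_inv_cancel_left v h]
    exact mul_mem_sup hv hmem
  have hRN : R ≤ normalizer (N : Set X) := fun a ha => by
    rw [mem_normalizer_iff]
    intro x
    refine and_congr ⟨fun hx => (inferInstance : H.Normal).conj_mem x hx a, fun hx => ?_⟩ ?_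
    · have := (inferInstance : H.Normal).conj_mem _ hx a⁻¹
      simpa [mul_assoc] using this
    · exact mem_normalizer_iff.1 (le_normalizer (hRQ ha)) x
  -- `X = V N R`
  have hgen : ∀ A : Subgroup X, V ≤ normalizer (A : Set X) → N ≤ normalizer (A : Set X) →
      R ≤ normalizer (A : Set X) → A.Normal := fun A h1 h2 h3 =>
    normalizer_eq_top_iff.1 (top_le_iff.1 (htop.ge.trans (sup_le (hVN.trans (sup_le h1 h2)) h3)))
  set CV := V ⊓ centralizer (Q : Set X) with hCVdef
  set DV := ⁅V, Q⁆ with hDVdef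
  have hDVV : DV ≤ V := commutator_le_left _ _
  have hnQ : ∀ A : Subgroup X, A ≤ normalizer (Q : Set X) →
      A ≤ normalizer (CV : Set X) ∧ A ≤ normalizer (DV : Set X) := by
    intro A hA
    refine ⟨fun a ha => ?_, fun a ha => ?_⟩
    · have h1 : ∀ b ∈ normalizer (Q : Set X), ∀ x ∈ CV, b * x * b⁻¹ ∈ CV := by
        intro b hb x hx
        refine ⟨hVn.conj_mem x hx.1 b, mem_centralizer_iff.2 fun y hy => ?_⟩
        have hy' : b⁻¹ * y * b ∈ Q := by
          have := (mem_normalizer_iff.1 (inv_mem hb) y).1 hy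
          simpa using this
        have h1 := mem_centralizer_iff.1 hx.2 _ hy'
        calc y * (b * x * b⁻¹) = b * ((b⁻¹ * y * b) * x) * b⁻¹ := by group
          _ = b * (x * (b⁻¹ * y * b)) * b⁻¹ := by rw [h1]
          _ = b * x * b⁻¹ * y := by group
      refine mem_normalizer_iff.2 fun x => ⟨h1 a (hA ha) x, fun hx => ?_⟩
      have := h1 a⁻¹ (inv_mem (hA ha)) _ hx
      simpa [mul_assoc] using this
    · rw [mem_normalizer_iff_map_conj_eq, map_commutator,
        mem_normalizer_iff_map_conj_eq.1 (hnormV A ha), mem_normalizer_iff_map_conj_eq.1 (hA ha)]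
  have hVab : ∀ A : Subgroup X, A ≤ V → V ≤ normalizer (A : Set X) := fun A hA v hv => by
    have hc : ∀ x ∈ V, v * x * v⁻¹ = x := fun x hx =>
      mul_inv_eq_iff_eq_mul.2 (congrArg Subtype.val (hVc.is_comm.comm ⟨v, hv⟩ ⟨x, hx⟩))
    refine mem_normalizer_iff.2 fun x => ⟨fun hx => (hc x (hA hx)).symm ▸ hx, fun hx => ?_⟩
    have hx' : x ∈ V := by
      have := hVn.conj_mem _ (hA hx) v⁻¹
      simpa [mul_assoc] using this
    rwa [hc x hx'] at hx
  haveI hCVn : CV.Normal := hgen CV (hVab CV inf_le_left) (hnQ N inf_le_right).1 (hnQ R hRQ).1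
  haveI hDVn : DV.Normal := hgen DV (hVab DV hDVV) (hnQ N inf_le_right).2 (hnQ R hRQ).2
  haveI := hVc
  have hCD : CV ⊓ DV = ⊥ :=
    Coprime.inf_centralizer_inf_commutator_eq_bot (hnormV Q) (hVQc Q hQp).symm
  have hQ1 : Q ≠ ⊥ := fun h => hU₀V (by
    have : U ≤ V := by rw [← hVQ, h, sup_bot_eq]
    exact (map_le_map_iff_of_injective H.subtype_injective).1 this)
  have hDV1 : DV ≠ ⊥ := by
    intro h
    have hle : Q ≤ centralizer (V : Set X) :=
      le_centralizer_iff.1 (commutator_eq_bot_iff_le_centralizer.1 h)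
    exact hQ1 (le_bot_iff.1 ((le_inf le_rfl hle).trans hfaith.le))
  by_cases hCV1 : CV = ⊥
  swap
  · refine pLengthLE_one_of_inf_eq_bot (CV.subgroupOf H) (DV.subgroupOf H) ?_
      (hquot CV (inf_le_left.trans hVH) hCV1) (hquot DV (hDVV.trans hVH) hDV1)
    rw [subgroupOf, subgroupOf, ← comap_inf, hCD, ← subgroupOf, bot_subgroupOf]
  have hVNb : V ⊓ N = ⊥ := by
    refine le_bot_iff.1 ((le_inf inf_le_left ?_).trans hCV1.le)
    refine le_centralizer_of_normalize (inf_le_right.trans inf_le_right) ?_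
      (le_bot_iff.1 ((inf_le_inf_right Q inf_le_left).trans hVQb.le))
    intro a ha
    rw [mem_normalizer_iff]
    intro x
    refine and_congr (mem_normalizer_iff.1 (hnormV Q ha) x) (and_congr ?_ ?_)
    · refine ⟨fun hx => (inferInstance : H.Normal).conj_mem x hx a, fun hx => ?_⟩
      have := (inferInstance : H.Normal).conj_mem _ hx a⁻¹
      simpa [mul_assoc] using this
    · exact mem_normalizer_iff.1 (le_normalizer (le_normalizer ha : a ∈ normalizer (Q : Set X))) x
  have hNH : N ≤ H := inf_le_left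
  have hQN : Q ≤ N := le_inf hQH le_normalizer
  haveI : Group.IsSolvable N := Coprime.isSolvable_of_le hNH
  -- `N = [N, R]`
  have hNR : ⁅N, R⁆ = N := by
    have hle : ⁅N, R⁆ ≤ N := Coprime.commutator_le_of_le_normalizer hRN
    set f := QuotientGroup.mk' V with hf
    have hfN : H.map f = N.map f := by
      refine le_antisymm ((map_mono hVN).trans ?_) (map_mono hNH)
      rw [Subgroup.map_sup, (Subgroup.map_eq_bot_iff _).2 (QuotientGroup.ker_mk' V).ge, bot_sup_eq]
    have h1 : (⁅N, R⁆).map f = N.map f := by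
      rw [map_commutator, ← hfN, ← map_commutator, heq]
    refine le_antisymm hle fun x hx => ?_
    obtain ⟨y, hy, hyx⟩ := h1.ge (mem_map_of_mem f hx)
    obtain ⟨k, hk, rfl⟩ := (QuotientGroup.mk'_eq_mk' V).1 hyx
    have hkN : k ∈ V ⊓ N := ⟨hk, by simpa using N.mul_mem (N.inv_mem (hle hy)) hx⟩
    rw [hVNb, mem_bot] at hkN
    rw [hkN, mul_one]
    exact hy
  obtain ⟨S, hS⟩ := Coprime.exists_invariant_sylow hRN
    (hcop.coprime_dvd_right (card_dvd_of_le hNH)) (Or.inr inferInstance) p
  set P := (S : Subgroup N).map N.subtype with hP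
  have hPN : P ≤ N := map_subtype_le _
  have hPp : IsPGroup p P := S.2.map _
  have hPQ : P ≤ normalizer (Q : Set X) := hPN.trans inf_le_right
  by_cases hP1 : P = ⊥
  · -- then `V` is a Sylow subgroup of `H`
    have hNp : (Nat.card N).Coprime p := by
      refine ((Fact.out : p.Prime).coprime_iff_not_dvd.2 fun hd => ?_).symm
      exact S.ne_bot_of_dvd_card hd ((map_eq_bot_iff_of_injective _ N.subtype_injective).1 hP1)
    have hidx : (V₀.index).Coprime p := by
      refine hNp.coprime_dvd_left ?_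
      rw [show V₀.index = V.relIndex H by rw [hVdef, relIndex, hsub]]
      refine (CfsgLib.PLocal.relIndex_dvd_of_le_right_of_normal V hVN).trans ?_
      rw [relIndex_sup_left]
      exact relIndex_dvd_card _ _
    obtain ⟨S'⟩ : Nonempty (Sylow p H) := inferInstance
    refine pLengthLE_one_of_sylow_le_pCore S' fun x hx => ?_
    rw [← QuotientGroup.eq_one_iff (N := V₀)]
    obtain ⟨k, hk⟩ := S'.2 ⟨x, hx⟩
    refine orderOf_eq_one_iff.1 (Nat.eq_one_of_dvd_coprimes (hidx.pow_right k) ?_ ?_)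
    · rw [index_eq_card]; exact orderOf_dvd_natCard _
    · exact orderOf_dvd_of_pow_eq_one (by
        rw [← QuotientGroup.mk_pow, show x ^ p ^ k = 1 from congrArg Subtype.val hk,
          QuotientGroup.mk_one])
  -- `Q P` is normalized by `N` and `R`
  set L := Q ⊔ P with hL
  have hLN : L ≤ N := sup_le hQN hPN
  haveI hWn : (V ⊔ L).Normal := by
    -- the image of a Sylow subgroup of `H`
    have hPV : P ≤ normalizer (V : Set X) := hnormV P
    have hVP : IsPGroup p ↥(V ⊔ P) := IsPGroup.to_sup_of_normal_left hVp hPp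
    have hVPH : V ⊔ P ≤ H := sup_le hVH (hPN.trans hNH)
    obtain ⟨SH, hSH⟩ := (hVP.comap_subtype (K := H)).exists_le_sylow
    have hSeq : (SH : Subgroup H) = (V ⊔ P).subgroupOf H := by
      refine le_antisymm ?_ hSH
      intro x hx
      obtain ⟨v, hv, n, hn, hvn⟩ := Coprime.exists_mul_of_mem_sup (hnormV N) (hVN x.2)
      have hnH : n ∈ H := hNH hn
      have hnS : (⟨n, hnH⟩ : H) ∈ (SH : Subgroup H) := by
        have hvS : (⟨v, hVH hv⟩ : H) ∈ (SH : Subgroup H) :=
          hSH (mem_subgroupOf.2 (mem_sup_left hv))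
        have h := (SH : Subgroup H).mul_mem ((SH : Subgroup H).inv_mem hvS) hx
        rwa [show (⟨v, hVH hv⟩ : H)⁻¹ * x = ⟨n, hnH⟩ from Subtype.ext (by
          show v⁻¹ * (x : X) = n
          rw [← hvn, inv_mul_cancel_left])] at h
      let S₂ : Subgroup N := ((SH : Subgroup H).map H.subtype).subgroupOf N
      have hS₂ : IsPGroup p S₂ := (SH.2.map _).comap_subtype
      have hle : (S : Subgroup N) ≤ S₂ := fun y hy =>
        mem_subgroupOf.2 ⟨⟨y, hNH y.2⟩, hSH (mem_subgroupOf.2 (mem_sup_right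
          (mem_map_of_mem N.subtype hy))), rfl⟩
      have heq₂ := S.3 hS₂ hle
      have hnP : n ∈ P := by
        refine ⟨⟨n, hn⟩, ?_, rfl⟩
        show (⟨n, hn⟩ : N) ∈ (S : Subgroup N)
        rw [← heq₂]
        exact mem_subgroupOf.2 ⟨⟨n, hnH⟩, hnS, rfl⟩
      rw [mem_subgroupOf, ← hvn]
      exact mul_mem_sup hv hnP
    have h2 := sylow_le_pPrimePCore hq (SH.mapSurjective (QuotientGroup.mk'_surjective V₀))
    have h3 := pPrimeCore_sup_sylow hq (SH.mapSurjective (QuotientGroup.mk'_surjective V₀))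
    set W := (pPrimePCore p (H ⧸ V₀)).comap (QuotientGroup.mk' V₀) with hW
    have hWeq : W = U₀ ⊔ (SH : Subgroup H) := by
      rw [hW, ← h3, Sylow.coe_mapSurjective, ← map_comap_eq_self_of_surjective
        (QuotientGroup.mk'_surjective V₀) (pPrimeCore p (H ⧸ V₀)), ← Subgroup.map_sup,
        comap_map_eq_self]
      rw [QuotientGroup.ker_mk']
      exact hV₀U.trans le_sup_left
    haveI hWc : W.Characteristic := by
      rw [characteristic_iff_map_le]
      intro e
      rw [hWeq, Subgroup.map_sup]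
      refine sup_le ((characteristic_iff_map_eq.1 hU₀c e).le.trans le_sup_left) ?_
      -- a conjugate of `SH` lies in `W`
      haveI hWnorm : W.Normal := (pPrimePCore_normal' p).comap _
      have hd : ¬ p ∣ W.index := fun hd => SH.not_dvd_index (hd.trans (index_dvd_of_le (by
        rw [hWeq]; exact le_sup_right)))
      rintro _ ⟨x, hx, rfl⟩
      rw [← hWeq, ← QuotientGroup.eq_one_iff (N := W)]
      obtain ⟨k, hk⟩ := SH.2 ⟨x, hx⟩
      refine orderOf_eq_one_iff.1 (Nat.eq_one_of_dvd_coprimes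
        ((((Fact.out : p.Prime).coprime_iff_not_dvd.2 hd).symm).pow_right k) ?_ ?_)
      · rw [index_eq_card]; exact orderOf_dvd_natCard _
      · exact orderOf_dvd_of_pow_eq_one (by
          rw [← QuotientGroup.mk_pow, ← map_pow,
            show x ^ p ^ k = 1 from congrArg Subtype.val hk, map_one, QuotientGroup.mk_one])
    have hn : (W.map H.subtype).Normal := hchar W hWc
    rwa [hWeq, Subgroup.map_sup, hSeq, map_subgroupOf_eq_of_le hVPH, ← hUdef, ← hVQ,
      show V ⊔ Q ⊔ (V ⊔ P) = V ⊔ L by rw [hL]; ac_rfl] at hn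
  have hVLN : (V ⊔ L) ⊓ N = L := by
    refine le_antisymm ?_ (le_inf le_sup_right hLN)
    rintro x ⟨hx, hxN⟩
    obtain ⟨v, hv, l, hl, rfl⟩ := Coprime.exists_mul_of_mem_sup (hnormV L) hx
    have hvN : v ∈ V ⊓ N := ⟨hv, by simpa using N.mul_mem hxN (N.inv_mem (hLN hl))⟩
    rw [hVNb, mem_bot] at hvN
    rw [hvN, one_mul]; exact hl
  have hnL : ∀ A : Subgroup X, A ≤ normalizer (N : Set X) → A ≤ normalizer (L : Set X) := by
    intro A hA a ha
    rw [← hVLN, mem_normalizer_iff]
    intro x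
    exact and_congr
      (mem_normalizer_iff.1 (by rw [normalizer_eq_top]; exact mem_top a :
        a ∈ normalizer ((V ⊔ L : Subgroup X) : Set X)) x) (mem_normalizer_iff.1 (hA ha) x)
  have hPC : P ⊓ centralizer (Q : Set X) = ⊥ := by
    set P₁ := P ⊓ centralizer (Q : Set X) with hP₁
    have hP₁p : IsPGroup p P₁ := hPp.to_le inf_le_left
    set O := Cfsg.piCoreOf ({p} : Set ℕ) L with hO
    have hP₁O : P₁ ≤ O := by
      refine le_piCoreOf (inf_le_left.trans le_sup_right) (sup_le ?_ ?_)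
        (isPiSubgroup_of_isPGroup hP₁p rfl)
      · intro g hg
        have hc : ∀ x ∈ P₁, g * x * g⁻¹ = x := fun x hx =>
          mul_inv_eq_iff_eq_mul.2 (mem_centralizer_iff.1 hx.2 g hg)
        refine mem_normalizer_iff.2 fun x => ⟨fun hx => (hc x hx).symm ▸ hx, fun hx => ?_⟩
        have h := hc _ hx
        have h' : g * x * g⁻¹ = x := by
          calc g * x * g⁻¹ = g⁻¹ * (g * (g * x * g⁻¹) * g⁻¹) * g := by group
            _ = g⁻¹ * (g * x * g⁻¹) * g := by rw [h]
            _ = x := by group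
        rwa [h'] at hx
      · intro g hg
        rw [hP₁, mem_normalizer_iff]
        intro x
        refine and_congr (mem_normalizer_iff.1 (le_normalizer hg) x) ⟨fun hx => ?_, fun hx => ?_⟩
        · refine mem_centralizer_iff.2 fun y hy => ?_
          have hy' : g⁻¹ * y * g ∈ Q := by
            have := (mem_normalizer_iff.1 (inv_mem (hPQ hg)) y).1 hy
            simpa using this
          have h1 := mem_centralizer_iff.1 hx _ hy'
          calc y * (g * x * g⁻¹) = g * ((g⁻¹ * y * g) * x) * g⁻¹ := by group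
            _ = g * (x * (g⁻¹ * y * g)) * g⁻¹ := by rw [h1]
            _ = g * x * g⁻¹ * y := by group
        · refine mem_centralizer_iff.2 fun y hy => ?_
          have hy' : g * y * g⁻¹ ∈ Q := (mem_normalizer_iff.1 (hPQ hg) y).1 hy
          have h1 := mem_centralizer_iff.1 hx _ hy'
          calc y * x = g⁻¹ * ((g * y * g⁻¹) * (g * x * g⁻¹)) * g := by group
            _ = g⁻¹ * ((g * x * g⁻¹) * (g * y * g⁻¹)) * g := by rw [h1]
            _ = x * y := by group
    have hOp : IsPGroup p O := isPGroup_of_isPiSubgroup (isPiSubgroup_piCoreOf _ L)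
    have hOL : O ≤ L := piCoreOf_le _ _
    have hVO : IsPGroup p ↥(V ⊔ O) := IsPGroup.to_sup_of_normal_left hVp hOp
    have hnO : N ≤ normalizer (O : Set X) :=
      (hnL N le_normalizer).trans (normalizer_le_normalizer_piCoreOf _ L)
    have hHVO : H ≤ normalizer ((V ⊔ O : Subgroup X) : Set X) := by
      refine hVN.trans (sup_le (le_sup_left.trans le_normalizer) fun n hn => ?_)
      rw [mem_normalizer_iff_map_conj_eq, Subgroup.map_sup,
        mem_normalizer_iff_map_conj_eq.1 (hnormV N hn), mem_normalizer_iff_map_conj_eq.1 (hnO hn)]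
    have hle : V ⊔ O ≤ H := sup_le hVH (hOL.trans (hLN.trans hNH))
    haveI := (normal_subgroupOf_iff_le_normalizer hle).2 hHVO
    have hVOV : V ⊔ O ≤ V := by
      rw [← map_subgroupOf_eq_of_le hle]
      exact map_mono (CfsgLib.PLocal.le_pCore (hVO.comap_subtype))
    exact le_bot_iff.1 ((le_inf (hP₁O.trans (le_sup_right.trans hVOV))
      ((inf_le_left : P₁ ≤ P).trans hPN)).trans hVNb.le)
  exfalso
  have hR₀Q : R₀ ≤ normalizer (Q : Set X) := hR₀.trans hRQ
  have hR₀P : R₀ ≤ normalizer (P : Set X) := hR₀.trans hS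
  have hPodd : Odd (Nat.card P) := hodd.of_dvd_nat (card_dvd_of_le (hPN.trans hNH))
  rcases eq_or_ne (V ⊓ centralizer (R₀ : Set X)) ⊥ with hfix | hfix
  · exact false_of_fixed_trivial hVc hVpow hsolv hQN hPN hNH hodd hQp hPp hPQ
      (hnL N le_normalizer) (hnL R hRN) hNR hR₀ hR₀Q hR₀P hr hr2 hrp hrH hfaith hP1 hPC hfix hZ
  · -- the fixed points in `V P` form a cyclic group
    set C := (V ⊔ P) ⊓ centralizer (R₀ : Set X) with hC
    have hCp : IsPGroup p C := (IsPGroup.to_sup_of_normal_left hVp hPp).to_le inf_le_left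
    have hCH : C ≤ H ⊓ centralizer (R₀ : Set X) :=
      inf_le_inf_right _ (sup_le hVH (hPN.trans hNH))
    haveI : IsZGroup C := IsZGroup.of_injective (Subgroup.inclusion_injective hCH)
    haveI := hCp.isNilpotent
    haveI : IsCyclic C := inferInstance
    have hA : V ⊓ centralizer (R₀ : Set X) ≤ C := inf_le_inf_right _ le_sup_left
    have hfixP : P ⊓ centralizer (R₀ : Set X) = ⊥ :=
      (eq_bot_or_eq_bot_of_isCyclic hCp hA (inf_le_inf_right _ le_sup_right) (le_bot_iff.1
        ((inf_le_inf inf_le_left inf_le_left).trans ((inf_le_inf_left V hPN).trans hVNb.le)))).resolve_left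
        hfix
    haveI : IsCyclic ↥(V ⊓ centralizer (R₀ : Set X)) := Subgroup.isCyclic_of_le hA
    have hcard : Nat.card ↥(V ⊓ centralizer (R₀ : Set X)) ≤ p :=
      card_le_of_isCyclic_of_pow (Fact.out : p.Prime).pos fun g => Subtype.ext (hVpow _ g.2.1)
    haveI : IsZGroup ↥(Q ⊓ centralizer (R₀ : Set X)) :=
      IsZGroup.of_injective (Subgroup.inclusion_injective (inf_le_inf_right _ hQH))
    exact false_of_fixed_line hVc hVpow (Coprime.isSolvable_of_le hQH)
      (hodd.of_dvd_nat (card_dvd_of_le hQH)) hQp hPp hPodd hPQ hR₀Q hR₀P hr hr2 hrp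
      (hrH.coprime_dvd_right (card_dvd_of_le hQH)) hfaith hP1 hPC hfixP hcard inferInstance

/-- BG 3.6 for `H = [H, R]`. -/
theorem pLengthLE_one_of_eq_commutator (p : ℕ) [Fact p.Prime] (H R R₀ : Subgroup X) [H.Normal]
    (htop : H ⊔ R = ⊤) (hsolv : Group.IsSolvable H) (hodd : Odd (Nat.card H))
    (hcop : (Nat.card R).Coprime (Nat.card H)) (hR₀ : R₀ ≤ R) (hr : (Nat.card R₀).Prime)
    (hr2 : Nat.card R₀ ≠ 2) (heq : ⁅H, R⁆ = H)
    (hZ : IsZGroup ↥(H ⊓ centralizer (R₀ : Set X))) : PLengthLE p 1 H := by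
  induction hn : Nat.card H using Nat.strong_induction_on generalizing X with
  | _ n ih =>
    haveI := hsolv
    haveI := hZ
    refine pLengthLE_one_step H R R₀ htop hsolv hodd hcop hR₀ hr hr2 heq hZ ?_
    intro N _ hNH hN1
    set f := QuotientGroup.mk' N with hf
    have hsurj : Function.Surjective f := QuotientGroup.mk'_surjective N
    refine pLengthLE_congr (quotientMapEquiv H N).symm ?_
    haveI : (H.map f).Normal := Normal.map inferInstance f hsurj
    have hR₀c : Nat.card (R₀.map f) = Nat.card R₀ := by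
      refine ((Nat.dvd_prime hr).1 (card_map_dvd R₀ f)).resolve_left fun h => ?_
      have hle : R₀ ≤ N := by
        have := (Subgroup.map_eq_bot_iff _).1 (Subgroup.card_eq_one.1 h)
        rwa [QuotientGroup.ker_mk'] at this
      exact hr.not_dvd_one ((hcop.coprime_dvd_left (card_dvd_of_le hR₀)) ▸
        Nat.dvd_gcd dvd_rfl (card_dvd_of_le (hle.trans hNH)))
    have hlt : Nat.card (H.map f) < n := by
      have h1 := relIndex_mul_relIndex (⊥ : Subgroup X) N H bot_le hNH
      rw [relIndex_bot_left, relIndex_bot_left] at h1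
      have h2 : N.relIndex H = Nat.card (H.map f) := by
        rw [← relIndex_ker (K := H), QuotientGroup.ker_mk']
      rw [h2] at h1
      rw [← hn, ← h1]
      refine lt_mul_left Nat.card_pos ?_
      exact Nat.one_lt_iff_ne_zero_and_ne_one.2
        ⟨Nat.card_pos.ne', fun h => hN1 (Subgroup.card_eq_one.1 h)⟩
    refine ih _ hlt (H.map f) (R.map f) (R₀.map f) ?_
      (Group.isSolvable_of_surjective (f.subgroupMap_surjective H))
      (hodd.of_dvd_nat (card_map_dvd H f))
      ((hcop.coprime_dvd_left (card_map_dvd R f)).coprime_dvd_right (card_map_dvd H f))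
      (map_mono hR₀) (hR₀c.symm ▸ hr) (hR₀c.symm ▸ hr2) ?_ ?_ rfl
    · rw [← Subgroup.map_sup, htop, map_top_of_surjective _ hsurj]
    · rw [← map_commutator, heq]
    · rw [← Coprime.map_inf_centralizer f (G := H) (by rw [normalizer_eq_top]; exact le_top)
        ((hcop.coprime_dvd_left (card_dvd_of_le hR₀)).coprime_dvd_right (card_dvd_of_le inf_le_left))
        (Or.inr (Coprime.isSolvable_of_le inf_le_left))]
      exact IsZGroup.of_surjective (f.subgroupMap_surjective _)

/-- BG 3.6. -/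
theorem commutator_pLengthLE_one (p : ℕ) [Fact p.Prime] (H R R₀ : Subgroup X) [H.Normal]
    (hsolv : Group.IsSolvable H) (hodd : Odd (Nat.card H))
    (hcop : (Nat.card R).Coprime (Nat.card H)) (hR₀ : R₀ ≤ R) (hr : (Nat.card R₀).Prime)
    (hr2 : Nat.card R₀ ≠ 2) (hZ : IsZGroup ↥(H ⊓ centralizer (R₀ : Set X))) :
    PLengthLE p 1 ↥⁅H, R⁆ := by
  haveI := hsolv
  haveI := hZ
  have hRH : R ≤ normalizer (H : Set X) := by rw [normalizer_eq_top]; exact le_top
  set K := ⁅H, R⁆ with hK
  have hKH : K ≤ H := Coprime.commutator_le_of_le_normalizer hRH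
  have hRK : R ≤ normalizer (K : Set X) :=
    le_sup_right.trans (Coprime.sup_le_normalizer_commutator H R)
  set Y := K ⊔ R with hY
  have hKY : K ≤ Y := le_sup_left
  have hRY : R ≤ Y := le_sup_right
  haveI : (K.subgroupOf Y).Normal :=
    (normal_subgroupOf_iff_le_normalizer hKY).2 (sup_le le_normalizer hRK)
  have eK := subgroupOfEquivOfLe hKY
  refine pLengthLE_congr eK ?_
  refine pLengthLE_one_of_eq_commutator p (K.subgroupOf Y) (R.subgroupOf Y) (R₀.subgroupOf Y)
    ?_ ?_ ?_ ?_ (fun x hx => mem_subgroupOf.2 (hR₀ (mem_subgroupOf.1 hx))) ?_ ?_ ?_ ?_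
  · rw [← subgroupOf_sup hKY hRY, subgroupOf_self]
  · haveI : Group.IsSolvable K := Coprime.isSolvable_of_le hKH
    exact Group.isSolvable_of_isSolvable_injective (f := eK.toMonoidHom) eK.injective
  · rw [Nat.card_congr eK.toEquiv]; exact hodd.of_dvd_nat (card_dvd_of_le hKH)
  · rw [Nat.card_congr eK.toEquiv, Nat.card_congr (subgroupOfEquivOfLe hRY).toEquiv]
    exact hcop.coprime_dvd_right (card_dvd_of_le hKH)
  · rwa [Nat.card_congr (subgroupOfEquivOfLe (hR₀.trans hRY)).toEquiv]
  · rwa [Nat.card_congr (subgroupOfEquivOfLe (hR₀.trans hRY)).toEquiv]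
  · apply map_injective Y.subtype_injective
    rw [map_commutator, map_subgroupOf_eq_of_le hKY, map_subgroupOf_eq_of_le hRY,
      Coprime.commutator_commutator_eq hRH hcop]
  · have hle : ((K.subgroupOf Y) ⊓ centralizer (R₀.subgroupOf Y : Set Y)).map Y.subtype ≤
        H ⊓ centralizer (R₀ : Set X) := by
      rintro _ ⟨x, hx, rfl⟩
      exact ⟨hKH (mem_subgroupOf.1 hx.1), mem_centralizer_iff.2 fun y hy =>
        congrArg Subtype.val (mem_centralizer_iff.1 hx.2 ⟨y, hRY (hR₀ hy)⟩ hy)⟩
    exact IsZGroup.of_injective (f := (Subgroup.inclusion hle).comp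
        ((K.subgroupOf Y ⊓ centralizer (R₀.subgroupOf Y : Set Y)).equivMapOfInjective Y.subtype
          Y.subtype_injective).toMonoidHom)
      ((Subgroup.inclusion_injective hle).comp (MulEquiv.injective _))

end CfsgLib.OddOrder
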