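import Cfsg.Agent.OddOrder.BG3.SmallFixedPoints
import Cfsg.Agent.OddOrder.BG1Stab
import Cfsg.Agent.Coprime.Action
import Mathlib.GroupTheory.Nilpotent

/-!
# BG 3.4 and 3.5 for nilpotent groups, through Frattini quotients
-/

set_option autoImplicit false
set_option linter.style.haveILetI false

namespace CfsgLib.OddOrder

open Subgroup Stab

universe u

variable {X : Type u} [Group X] [Finite X]

/-- A group prime to `ℓ` centralizes an `ℓ`-group `P` as soon as it centralizes the elementary
abelian section `P / Φ(P)` of the normalizer of `P`. -/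
theorem le_centralizer_of_frattini_quotient {ℓ : ℕ} [Fact ℓ.Prime] {P A : Subgroup X}
    (hP : IsPGroup ℓ P) (hA : A ≤ normalizer (P : Set X)) (hcop : (Nat.card A).Coprime ℓ)
    (h : ∀ {Q : Type u} [Group Q] [Finite Q] (f : normalizer (P : Set X) →* Q),
      Function.Surjective f →
      IsMulCommutative ((P.subgroupOf (normalizer (P : Set X))).map f) →
      (∀ v ∈ (P.subgroupOf (normalizer (P : Set X))).map f, v ^ ℓ = 1) →
      (A.subgroupOf (normalizer (P : Set X))).map f ≤
        centralizer ((P.subgroupOf (normalizer (P : Set X))).map f : Set Q)) :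
    A ≤ centralizer (P : Set X) := by
  set D : Subgroup X := (frattini P).map P.subtype with hD
  have hDP : D ≤ P := map_subtype_le _
  let Y := normalizer (P : Set X)
  haveI hn : (D.subgroupOf Y).Normal := ⟨fun d hd g => mem_subgroupOf.2 (by
    exact map_subtype_conj_mem (S := P) (frattini P) g.2 (mem_subgroupOf.1 hd))⟩
  let f : Y →* Y ⧸ D.subgroupOf Y := QuotientGroup.mk' _
  have hf : ∀ y : Y, f y = 1 ↔ (y : X) ∈ D := fun y => QuotientGroup.eq_one_iff y
  have hfr := frattini_facts hP
  have hcomm : IsMulCommutative ((P.subgroupOf Y).map f) := ⟨⟨by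
    rintro ⟨_, a, ha, rfl⟩ ⟨_, b, hb, rfl⟩
    refine Subtype.ext ?_
    show f a * f b = f b * f a
    rw [← map_mul, ← map_mul, ← mul_inv_eq_one, ← map_inv, ← map_mul, hf]
    exact ⟨_, hfr.1 ⟨a, ha⟩ ⟨b, hb⟩, by simp [commutatorElement_def, mul_assoc]⟩⟩⟩
  have hpow : ∀ v ∈ (P.subgroupOf Y).map f, v ^ ℓ = 1 := by
    rintro _ ⟨a, ha, rfl⟩
    rw [← map_pow, hf]
    exact ⟨_, hfr.2.1 ⟨a, ha⟩, by simp⟩
  have hle := h f (QuotientGroup.mk'_surjective _) hcomm hpow
  refine Coprime.le_centralizer_of_commutator_le_frattini hA ?_ ?_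
  · obtain ⟨n, hn⟩ := IsPGroup.iff_card.1 hP
    exact (hcop.pow_right n).coprime_dvd_right (hn ▸ Subgroup.card_subgroup_dvd_card _)
  · refine commutator_le.2 fun x hx a ha => ?_
    have h1 := mem_centralizer_iff.1 (hle (mem_map_of_mem f (show (⟨a, hA ha⟩ : Y) ∈ A.subgroupOf Y
      from mem_subgroupOf.2 ha))) _ (mem_map_of_mem f (show (⟨x, le_normalizer hx⟩ : Y) ∈
      P.subgroupOf Y from mem_subgroupOf.2 hx))
    rw [← map_mul, ← map_mul, ← mul_inv_eq_one, ← map_inv, ← map_mul, hf] at h1
    rw [commutatorElement_def]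
    simpa [hD, commutatorElement_def, mul_assoc] using h1

/-- A subgroup centralizing every Sylow subgroup of `M` centralizes `M`. -/
theorem le_centralizer_of_forall_sylow {M A : Subgroup X}
    (h : ∀ (p : ℕ) [Fact p.Prime], ∃ P : Sylow p M,
      A ≤ centralizer ((P : Subgroup M).map M.subtype : Set X)) :
    A ≤ centralizer (M : Set X) := by
  suffices htop : (centralizer (A : Set X)).subgroupOf M = ⊤ by
    rw [subgroupOf_eq_top] at htop
    exact le_centralizer_iff.1 htop
  rw [← index_eq_one]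
  by_contra hne
  obtain ⟨p, hp, hpd⟩ := Nat.exists_prime_and_dvd hne
  haveI : Fact p.Prime := ⟨hp⟩
  obtain ⟨P, hP⟩ := h p
  exact P.not_dvd_index (hpd.trans (index_dvd_of_le fun x hx => mem_subgroupOf.2
    (le_centralizer_iff.1 hP (mem_map_of_mem M.subtype hx))))

/-- Invariant Sylow subgroups of a nilpotent group. -/
theorem le_normalizer_sylow_of_nilpotent {M A : Subgroup X} (hM : Group.IsNilpotent M) {p : ℕ}
    [Fact p.Prime] (P : Sylow p M) (hA : A ≤ normalizer (M : Set X)) :
    A ≤ normalizer (((P : Subgroup M).map M.subtype : Subgroup X) : Set X) := by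
  haveI := hM
  haveI : (P : Subgroup M).Normal := Sylow.normal_of_normalizerCondition
    Group.normalizerCondition_of_isNilpotent P
  haveI := P.characteristic_of_normal inferInstance
  intro a ha
  exact mem_normalizer_iff.2 fun x => ⟨fun hx => map_subtype_conj_mem _ (hA ha) hx, fun hx => by
    have := map_subtype_conj_mem _ (inv_mem (hA ha)) hx
    simpa [mul_assoc] using this⟩

/-- `C(R)` in a quotient by a kernel of order prime to `#R` is covered by `C(R)`. -/
theorem card_fixed_map_le {ℓ : ℕ} [Fact ℓ.Prime] {P R : Subgroup X} {Q : Type u} [Group Q]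
    (hP : IsPGroup ℓ P) (hRP : R ≤ normalizer (P : Set X)) (hRl : (Nat.card R).Coprime ℓ)
    (f : normalizer (P : Set X) →* Q) :
    (P.subgroupOf (normalizer (P : Set X))).map f ⊓
        centralizer (((R.subgroupOf (normalizer (P : Set X))).map f : Subgroup Q) : Set Q) =
      ((P ⊓ centralizer (R : Set X)).subgroupOf (normalizer (P : Set X))).map f := by
  let Y := normalizer (P : Set X)
  have hPc : IsPGroup ℓ (P.subgroupOf Y) :=
    hP.of_equiv (subgroupOfEquivOfLe le_normalizer).symm
  refine (Coprime.map_inf_centralizer f (A := R.subgroupOf Y) (G := P.subgroupOf Y) ?_ ?_ ?_).symm.trans ?_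
  · intro y hy
    rw [mem_normalizer_iff]
    intro k
    simp only [mem_subgroupOf, Subgroup.coe_mul, Subgroup.coe_inv]
    exact mem_normalizer_iff.1 y.2 k
  · obtain ⟨n, hn⟩ := IsPGroup.iff_card.1 hPc
    rw [Nat.card_congr (subgroupOfEquivOfLe hRP).toEquiv]
    exact (hRl.pow_right n).coprime_dvd_right (hn ▸ card_dvd_of_le inf_le_left)
  · haveI := hPc.isNilpotent
    exact Or.inr (Coprime.isSolvable_of_le (B := P.subgroupOf Y) inf_le_left)
  · congr 1
    ext x
    simp only [mem_inf, mem_subgroupOf, mem_centralizer_iff, SetLike.mem_coe]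
    refine and_congr_right fun _ => ⟨fun hx s hs => ?_, fun hx s hs => Subtype.ext (hx s hs)⟩
    exact congrArg Subtype.val (hx ⟨s, hRP hs⟩ hs)

/-- BG 3.4 for a coprime nilpotent group. -/
theorem commutator_le_centralizer_nilpotent_of_rfix0 {K R M : Subgroup X}
    (hM : Group.IsNilpotent M) (hsolv : Group.IsSolvable K) (hRK : R ≤ normalizer (K : Set X))
    (hKM : K ≤ normalizer (M : Set X)) (hRM : R ≤ normalizer (M : Set X))
    (hr : (Nat.card R).Prime) (hr2 : Nat.card R ≠ 2) (hKodd : Odd (Nat.card K))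
    (hKM' : (Nat.card K).Coprime (Nat.card M)) (hRMc : (Nat.card R).Coprime (Nat.card M))
    (hKr : (Nat.card R).Coprime (Nat.card K)) (hfix : M ⊓ centralizer (R : Set X) = ⊥) :
    ⁅K, R⁆ ≤ centralizer (M : Set X) := by
  refine le_centralizer_of_forall_sylow fun p hp => ⟨Classical.arbitrary _, ?_⟩
  set P₀ : Sylow p M := Classical.arbitrary _
  set P : Subgroup X := (P₀ : Subgroup M).map M.subtype with hPdef
  have hPp : IsPGroup p P := P₀.2.map _
  have hKP := le_normalizer_sylow_of_nilpotent hM P₀ hKM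
  have hRP := le_normalizer_sylow_of_nilpotent hM P₀ hRM
  by_cases hPb : P = ⊥
  · intro g _
    show g ∈ centralizer (P : Set X)
    rw [hPb]
    exact mem_centralizer_iff.2 fun y hy => by simp [mem_bot.1 hy]
  have hpM : p ∣ Nat.card M := by
    obtain ⟨n, hn⟩ := IsPGroup.iff_card.1 hPp
    refine Dvd.dvd.trans ?_ (card_dvd_of_le (map_subtype_le (P₀ : Subgroup M)))
    rw [← hPdef, hn]
    exact dvd_pow_self p fun h0 => hPb (Subgroup.card_eq_one.1 (by rw [hn, h0, pow_zero]))
  have hKp : (Nat.card K).Coprime p := hKM'.coprime_dvd_right hpM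
  have hRp : (Nat.card R).Coprime p := hRMc.coprime_dvd_right hpM
  have hKRK : ⁅K, R⁆ ≤ K := Coprime.commutator_le_of_le_normalizer hRK
  refine le_centralizer_of_frattini_quotient hPp (hKRK.trans hKP)
    (hKp.coprime_dvd_left (card_dvd_of_le hKRK)) fun {Q} _ _ f hf hc hl => ?_
  let Y := normalizer (P : Set X)
  have he : ⁅K.subgroupOf Y, R.subgroupOf Y⁆.map Y.subtype = ⁅K, R⁆ := by
    rw [map_commutator, subgroupOf_map_subtype, subgroupOf_map_subtype, inf_of_le_left hKP,
      inf_of_le_left hRP]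
  have hcomm : (⁅K, R⁆.subgroupOf Y).map f ≤ ⁅(K.subgroupOf Y).map f, (R.subgroupOf Y).map f⁆ := by
    rw [← map_commutator]
    refine map_mono fun g hg => ?_
    have hg' : (g : X) ∈ ⁅K.subgroupOf Y, R.subgroupOf Y⁆.map Y.subtype :=
      he.symm ▸ mem_subgroupOf.1 hg
    obtain ⟨g', hg', hge⟩ := hg'
    exact Y.subtype_injective hge ▸ hg'
  refine hcomm.trans ?_
  by_cases hRb : (R.subgroupOf Y).map f = ⊥
  · rw [hRb, commutator_bot_right]
    exact bot_le
  have hRe := Nat.card_congr (subgroupOfEquivOfLe hRP).toEquiv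
  have hRc : Nat.card ((R.subgroupOf Y).map f) = Nat.card R :=
    ((Nat.dvd_prime hr).1 (hRe ▸ card_map_dvd (R.subgroupOf Y) f)).resolve_left fun h1 =>
      hRb (Subgroup.card_eq_one.1 h1)
  refine commutator_le_centralizer_of_rfix0 (X := Q) (K := (K.subgroupOf Y).map f)
    (R := (R.subgroupOf Y).map f) (V := (P.subgroupOf Y).map f) p ⟨hc, hl⟩ ?_ ?_ ?_ ?_
    (hRc.symm ▸ hr) (hRc.symm ▸ hr2) ?_ ?_ ?_ ?_ ?_
  all_goals have hKe := Nat.card_congr (subgroupOfEquivOfLe hKP).toEquiv
  all_goals have hKd : Nat.card ((K.subgroupOf Y).map f) ∣ Nat.card K :=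
    hKe ▸ card_map_dvd (K.subgroupOf Y) f
  · haveI := hsolv
    haveI : Group.IsSolvable (K.subgroupOf Y) := Group.isSolvable_of_isSolvable_injective
      (f := (subgroupOfEquivOfLe hKP).toMonoidHom) (subgroupOfEquivOfLe hKP).injective
    exact Group.isSolvable_of_surjective (f.subgroupMap_surjective _)
  · refine (map_mono ?_).trans (le_normalizer_map f)
    intro y hy
    rw [mem_normalizer_iff]
    intro k
    simp only [mem_subgroupOf, Subgroup.coe_mul, Subgroup.coe_inv]
    exact mem_normalizer_iff.1 (hRK hy) k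
  · refine (map_mono ?_).trans (le_normalizer_map f)
    exact fun y _ => mem_normalizer_iff.2 fun k => by
      simp only [mem_subgroupOf, Subgroup.coe_mul, Subgroup.coe_inv]
      exact mem_normalizer_iff.1 y.2 k
  · refine (map_mono ?_).trans (le_normalizer_map f)
    exact fun y _ => mem_normalizer_iff.2 fun k => by
      simp only [mem_subgroupOf, Subgroup.coe_mul, Subgroup.coe_inv]
      exact mem_normalizer_iff.1 y.2 k
  · rw [hRc]
    exact fun h => hr.not_dvd_one (hRp ▸ Nat.dvd_gcd dvd_rfl (h ▸ dvd_rfl))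
  · exact hKodd.of_dvd_nat hKd
  · exact hKp.coprime_dvd_left hKd
  · rw [hRc]
    exact hKr.coprime_dvd_right hKd
  · rw [card_fixed_map_le hPp hRP hRp f, le_bot_iff.1 ((inf_le_inf_right _
      (map_subtype_le (P₀ : Subgroup M))).trans hfix.le), bot_subgroupOf, Subgroup.map_bot]

end CfsgLib.OddOrder
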