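import Cfsg.Agent.OddOrder.BG3.Prop310
import Cfsg.Agent.OddOrder.BG8.Fitting
import Cfsg.Agent.Coprime.Action

/-!
# BG 3.8: a coprime prime action without fixed points on the Fitting subgroup
-/

set_option autoImplicit false
set_option linter.style.haveILetI false

namespace CfsgLib.OddOrder

open Subgroup Cfsg
open scoped commutatorElement

universe u

variable {X : Type u} [Group X] [Finite X]

/-- BG 3.8 for an operator group of prime order. -/
theorem commutator_le_fittingOf_of_prime {K R : Subgroup X} [K.Normal]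
    (hsolv : Group.IsSolvable K) (hr : (Nat.card R).Prime) (hr2 : Nat.card R ≠ 2)
    (hKodd : Odd (Nat.card K)) (hcop : (Nat.card R).Coprime (Nat.card K))
    (hF : Cfsg.fittingOf K ⊓ centralizer (R : Set X) = ⊥) :
    ⁅K, R⁆ ≤ Cfsg.fittingOf K := by
  haveI := hsolv
  set F := Cfsg.fittingOf K with hFdef
  have hFK : F ≤ K := fittingOf_le K
  have hKn : ∀ A : Subgroup X, A ≤ normalizer (K : Set X) := fun A => by
    rw [normalizer_eq_top]; exact le_top
  haveI hFn : F.Normal := normalizer_eq_top_iff.1 (top_le_iff.1 (by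
    have h := normalizer_le_normalizer_fittingOf K
    rwa [normalizer_eq_top] at h))
  let f := QuotientGroup.mk' F
  have hfF : ∀ x, f x = 1 ↔ x ∈ F := fun x => QuotientGroup.eq_one_iff x
  set K₁ := K.map f with hK₁
  set R₁ := R.map f with hR₁
  haveI hK₁n : K₁.Normal := Normal.map inferInstance f (QuotientGroup.mk'_surjective F)
  haveI hK₁s : Group.IsSolvable K₁ := Group.isSolvable_of_surjective (f.subgroupMap_surjective K)
  -- `R` centralizes every primary core of `K / F`
  have hA : ∀ q : ℕ, q.Prime → Cfsg.piCoreOf ({q} : Set ℕ) K₁ ≤ centralizer (R₁ : Set (X ⧸ F)) := by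
    intro q hq
    haveI : Fact q.Prime := ⟨hq⟩
    set O := Cfsg.piCoreOf ({q} : Set ℕ) K₁ with hO
    have hOp : IsPGroup q O := isPGroup_of_isPiSubgroup (isPiSubgroup_piCoreOf _ _)
    haveI hOn : O.Normal := normalizer_eq_top_iff.1 (top_le_iff.1 (by
      have h := normalizer_le_normalizer_piCoreOf ({q} : Set ℕ) K₁
      rwa [normalizer_eq_top] at h))
    set W := O.comap f with hW
    haveI hWn : W.Normal := hOn.comap f
    have hWK : W ≤ K := by
      have h : W ≤ K₁.comap f := comap_mono (piCoreOf_le _ _)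
      rwa [hK₁, comap_map_eq_self (by rw [QuotientGroup.ker_mk']; exact hFK)] at h
    have hFW : F ≤ W := fun x hx => by rw [hW, mem_comap, (hfF x).2 hx]; exact one_mem O
    have hRW : R ≤ normalizer (W : Set X) := by rw [normalizer_eq_top]; exact le_top
    haveI : Group.IsSolvable W := Coprime.isSolvable_of_le hWK
    obtain ⟨S₀, hS₀⟩ := Coprime.exists_invariant_sylow hRW
      (hcop.coprime_dvd_right (card_dvd_of_le hWK)) (Or.inr inferInstance) q
    set S := (S₀ : Subgroup W).map W.subtype with hS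
    have hSW : S ≤ W := map_subtype_le _
    have hSp : IsPGroup q S := S₀.2.map _
    -- `W = S F`
    have hWSF : W ≤ S ⊔ F := by
      have hsup : (S₀ : Subgroup W) ⊔ F.subgroupOf W = ⊤ := by
        rw [← index_eq_one]
        let g : W →* O := (f.comp W.subtype).codRestrict O fun x => x.2
        have hg : Function.Surjective g := fun o => by
          obtain ⟨x, hx⟩ := QuotientGroup.mk'_surjective F (o : X ⧸ F)
          exact ⟨⟨x, by rw [hW, mem_comap, hx]; exact o.2⟩, Subtype.ext hx⟩
        have hker : g.ker = F.subgroupOf W := by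
          ext x
          rw [MonoidHom.mem_ker, mem_subgroupOf, ← hfF, Subtype.ext_iff]
          rfl
        have h1 : ((S₀ : Subgroup W) ⊔ F.subgroupOf W).index ∣ (S₀ : Subgroup W).index :=
          index_dvd_of_le le_sup_left
        have h2 : ((S₀ : Subgroup W) ⊔ F.subgroupOf W).index ∣ Nat.card O := by
          refine (index_dvd_of_le (le_sup_right : F.subgroupOf W ≤ _)).trans (dvd_of_eq ?_)
          rw [← hker, index_ker, MonoidHom.range_eq_top.2 hg, card_top]
        obtain ⟨n, hn⟩ := IsPGroup.iff_card.1 hOp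
        exact Nat.dvd_one.1 (((hq.coprime_iff_not_dvd.2 S₀.not_dvd_index).pow_left n) ▸
          Nat.dvd_gcd (hn ▸ h2) h1)
      have h := congrArg (Subgroup.map W.subtype) hsup
      rw [Subgroup.map_sup, map_subgroupOf_eq_of_le hFW, ← MonoidHom.range_eq_map,
        range_subtype] at h
      exact h.ge
    -- the `q'`-part of `F`
    set π : Set ℕ := {p | p ≠ q} with hπ
    set F' := Cfsg.piCoreOf π F with hF'
    set Fq := Cfsg.piCoreOf ({q} : Set ℕ) F with hFq
    have hFnil : Group.IsNilpotent F := isNilpotent_fittingOf K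
    have hF'F : F' ≤ F := piCoreOf_le _ _
    haveI hF'n : F'.Normal := normalizer_eq_top_iff.1 (top_le_iff.1 (by
      have h := normalizer_le_normalizer_piCoreOf π F
      rwa [normalizer_eq_top] at h))
    have hFsplit : F ≤ Fq ⊔ F' :=
      nilpotent_le_sup_piCoreOf hFnil fun p _ _ => (em (p = q)).imp id id
    haveI : Group.IsNilpotent F := hFnil
    have hF'nil : Group.IsNilpotent F' :=
      Group.nilpotent_of_mulEquiv (subgroupOfEquivOfLe hF'F)
    have hqF' : q.Coprime (Nat.card F') := hq.coprime_iff_not_dvd.2 fun hd =>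
      isPiSubgroup_piCoreOf π F q hq hd rfl
    have hSn : ∀ A : Subgroup X, A ≤ normalizer (F' : Set X) := fun A => by
      rw [normalizer_eq_top]; exact le_top
    obtain ⟨nS, hnS⟩ := IsPGroup.iff_card.1 hSp
    have hSR : ⁅S, R⁆ ≤ centralizer (F' : Set X) := by
      haveI := hSp.isNilpotent
      refine commutator_le_centralizer_nilpotent_of_rfix0 hF'nil (inferInstance : Group.IsSolvable S)
        hS₀ (hSn S) (hSn R) hr hr2 (hKodd.of_dvd_nat (card_dvd_of_le (hSW.trans hWK)))
        (hnS ▸ hqF'.pow_left nS) (hcop.coprime_dvd_right (card_dvd_of_le (hF'F.trans hFK)))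
        (hcop.coprime_dvd_right (card_dvd_of_le (hSW.trans hWK))) ?_
      exact le_bot_iff.1 ((inf_le_inf_right _ hF'F).trans hF.le)
    set D := S ⊓ centralizer (F' : Set X) with hD
    have hFqS : Fq ≤ S := by
      have hFqW : Fq ≤ W := (piCoreOf_le _ _).trans hFW
      haveI : (Fq.subgroupOf W).Normal := (normal_subgroupOf_iff_le_normalizer hFqW).2 (by
        have h := normalizer_le_normalizer_piCoreOf ({q} : Set ℕ) F
        rw [normalizer_eq_top] at h
        exact le_top.trans h)
      have hle := IsPGroup.le_sylow_of_normal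
        ((isPGroup_of_isPiSubgroup (isPiSubgroup_piCoreOf ({q} : Set ℕ) F)).of_equiv
          (subgroupOfEquivOfLe hFqW).symm : IsPGroup q (Fq.subgroupOf W)) S₀
      exact fun x hx => ⟨⟨x, hFqW hx⟩, hle (mem_subgroupOf.2 hx), rfl⟩
    have hFqD : Fq ≤ D := le_inf hFqS
      (piCoreOf_le_centralizer_piCoreOf F (Set.disjoint_left.2 fun p hp hp' => hp' hp))
    have hFDF : F ≤ D ⊔ F' := hFsplit.trans (sup_le (hFqD.trans le_sup_left) le_sup_right)
    have hDnil : Group.IsNilpotent ↥(D ⊔ F') :=
      isNilpotent_sup_of_commute (hSp.to_le inf_le_left).isNilpotent hF'nil inf_le_right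
    have hSD : S ≤ normalizer ((D ⊔ F' : Subgroup X) : Set X) := by
      intro s hs
      have hc : ∀ (t : X), ∀ x ∈ centralizer (F' : Set X), t * x * t⁻¹ ∈ centralizer (F' : Set X) := by
        intro t x hx
        refine mem_centralizer_iff.2 fun y hy => ?_
        have h1 := mem_centralizer_iff.1 hx _ (hF'n.conj_mem y hy t⁻¹)
        rw [inv_inv] at h1
        calc y * (t * x * t⁻¹) = t * ((t⁻¹ * y * t) * x) * t⁻¹ := by group
          _ = t * (x * (t⁻¹ * y * t)) * t⁻¹ := by rw [h1]
          _ = t * x * t⁻¹ * y := by group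
      have hDs : ∀ t ∈ S, D.map (MulAut.conj t).toMonoidHom ≤ D := by
        rintro t ht _ ⟨x, ⟨hxS, hxC⟩, rfl⟩
        exact ⟨S.mul_mem (S.mul_mem ht hxS) (S.inv_mem ht), hc t x hxC⟩
      have hDF' : ∀ t ∈ S, ∀ x ∈ D ⊔ F', t * x * t⁻¹ ∈ D ⊔ F' := by
        intro t ht x hx
        have h : (D ⊔ F').map (MulAut.conj t).toMonoidHom ≤ D ⊔ F' := by
          rw [Subgroup.map_sup]
          refine sup_le_sup (hDs t ht) ?_
          rintro _ ⟨y, hy, rfl⟩
          exact hF'n.conj_mem y hy t
        exact h (mem_map_of_mem _ hx)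
      refine mem_normalizer_iff.2 fun x => ⟨hDF' s hs x, fun hx => ?_⟩
      have := hDF' s⁻¹ (S.inv_mem hs) _ hx
      simpa [mul_assoc] using this
    have hWD : W ≤ normalizer ((D ⊔ F' : Subgroup X) : Set X) :=
      hWSF.trans (sup_le hSD (hFDF.trans le_normalizer))
    have hDW : D ⊔ F' ≤ W := sup_le (inf_le_left.trans hSW) (hF'F.trans hFW)
    have hDF : D ⊔ F' ≤ F := by
      refine (le_fittingOf hDW hWD hDnil).trans (le_fittingOf ((fittingOf_le W).trans hWK) ?_
        (isNilpotent_fittingOf W))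
      have h := normalizer_le_normalizer_fittingOf W
      rw [normalizer_eq_top] at h
      exact le_top.trans h
    have hSRF : ⁅S, R⁆ ≤ F := (le_inf (Coprime.commutator_le_of_le_normalizer hS₀) hSR).trans
      (le_sup_left.trans hDF)
    rw [le_centralizer_iff]
    intro r hr'
    obtain ⟨r, hrR, rfl⟩ := hr'
    refine mem_centralizer_iff.2 fun o ho => ?_
    obtain ⟨w, rfl⟩ := QuotientGroup.mk'_surjective F o
    have hwW : w ∈ W := ho
    have hkey : ∀ z ∈ S ⊔ F, Commute (f z) (f r) := by
      intro z hz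
      have hle : S ⊔ F ≤ (centralizer ({f r} : Set (X ⧸ F))).comap f := sup_le
        (fun s hs => by
          rw [mem_comap, mem_centralizer_singleton_iff]
          refine commutatorElement_eq_one_iff_mul_comm.1 ?_
          rw [← map_commutatorElement, hfF]
          exact hSRF (commutator_mem_commutator hs hrR))
        (fun s hs => by
          rw [mem_comap, (hfF s).2 hs]
          exact one_mem _)
      exact mem_centralizer_singleton_iff.1 (mem_comap.1 (hle hz))
    exact hkey w (hWSF hwW)
  -- hence `R` centralizes `F(K / F)`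
  have hB : Cfsg.fittingOf K₁ ≤ centralizer (R₁ : Set (X ⧸ F)) := by
    rw [Cfsg.fittingOf, Solvable.fittingSubgroup_eq_iSup, Subgroup.map_iSup]
    refine iSup_le fun p => ?_
    haveI := Solvable.pCore_normal (G := K₁) (p : ℕ)
    by_cases hp : (p : ℕ).Prime
    swap
    · exact absurd p.2 (by simp [hp])
    haveI : Fact (p : ℕ).Prime := ⟨hp⟩
    refine le_trans (le_piCoreOf (π := ({(p : ℕ)} : Set ℕ)) (map_subtype_le _) ?_ ?_) (hA p hp)
    · rw [← normal_subgroupOf_iff_le_normalizer (map_subtype_le _),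
        show ((Cfsg.pCore (p : ℕ) K₁).map K₁.subtype).subgroupOf K₁ = Cfsg.pCore (p : ℕ) K₁ from
          comap_map_eq_self_of_injective K₁.subtype_injective _]
      infer_instance
    · exact isPiSubgroup_of_isPGroup ((Solvable.isPGroup_pCore _).map _) rfl
  -- three subgroups
  have hK₁R : R₁ ≤ normalizer (K₁ : Set (X ⧸ F)) := by rw [normalizer_eq_top]; exact le_top
  haveI hFFn : (Cfsg.fittingOf K₁).Normal := normalizer_eq_top_iff.1 (top_le_iff.1 (by
    have h := normalizer_le_normalizer_fittingOf K₁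
    rwa [normalizer_eq_top] at h))
  have h0 : ⁅Cfsg.fittingOf K₁, R₁⁆ = ⊥ := commutator_eq_bot_iff_le_centralizer.2 hB
  have hKR : ⁅K₁, R₁⁆ ≤ centralizer (Cfsg.fittingOf K₁ : Set (X ⧸ F)) := by
    rw [← commutator_eq_bot_iff_le_centralizer]
    refine commutator_commutator_eq_bot_of_rotate ?_ ?_
    · rw [commutator_comm R₁, h0, commutator_bot_left]
    · refine le_bot_iff.1 (le_trans (commutator_mono (commutator_le_left _ _) le_rfl) h0.le)
  have hKR' : ⁅K₁, R₁⁆ ≤ Cfsg.fittingOf K₁ :=
    (le_inf (Coprime.commutator_le_of_le_normalizer hK₁R) hKR).trans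
      (inf_centralizer_fittingOf_le hK₁s)
  have hcop₁ : (Nat.card R₁).Coprime (Nat.card K₁) :=
    (hcop.coprime_dvd_left (card_map_dvd R f)).coprime_dvd_right (card_map_dvd K f)
  have hbot : ⁅K₁, R₁⁆ = ⊥ := by
    rw [← Coprime.commutator_commutator_eq hK₁R hcop₁]
    exact le_bot_iff.1 ((commutator_mono hKR' le_rfl).trans h0.le)
  intro x hx
  rw [← hfF, ← mem_bot, ← hbot, hK₁, hR₁, ← map_commutator]
  exact mem_map_of_mem f hx

/-- BG 3.8. -/
theorem commutator_le_fittingOf_of_prime_action {K R : Subgroup X} [K.Normal]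
    (hsolv : Group.IsSolvable K) (hodd : Odd (Nat.card X))
    (hcop : (Nat.card K).Coprime (Nat.card R))
    (hprime : ∀ x ∈ R, x ≠ 1 →
      K ⊓ centralizer ({x} : Set X) = K ⊓ centralizer (R : Set X))
    (hF : Cfsg.fittingOf K ⊓ centralizer (R : Set X) = ⊥) :
    ⁅K, R⁆ ≤ Cfsg.fittingOf K := by
  rcases eq_or_ne R ⊥ with rfl | hR1
  · rw [commutator_bot_right]; exact bot_le
  obtain ⟨p, hp, hpd⟩ := Nat.exists_prime_and_dvd fun h => hR1 (Subgroup.card_eq_one.1 h)
  haveI : Fact p.Prime := ⟨hp⟩
  obtain ⟨x, hx⟩ := exists_prime_orderOf_dvd_card' (G := R) p hpd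
  rw [← Subgroup.orderOf_coe] at hx
  have hx1 : (x : X) ≠ 1 := fun h => by rw [h, orderOf_one] at hx; exact hp.one_lt.ne hx
  set R₀ := zpowers (x : X) with hR₀
  have hR₀R : R₀ ≤ R := zpowers_le.2 x.2
  have hc : K ⊓ centralizer (R₀ : Set X) = K ⊓ centralizer (R : Set X) := by
    rw [inf_centralizer_zpowers, hprime x x.2 hx1]
  have hcard : Nat.card R₀ = p := by rw [Nat.card_zpowers, hx]
  have hpX : p ∣ Nat.card X := hpd.trans (card_subgroup_dvd_card R)
  have hF₀ : Cfsg.fittingOf K ⊓ centralizer (R₀ : Set X) = ⊥ := le_bot_iff.1 (hF.le.trans' (le_inf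
    inf_le_left (((inf_le_inf_right _ (fittingOf_le K)).trans hc.le).trans inf_le_right)))
  have h0 := commutator_le_fittingOf_of_prime (R := R₀) hsolv (hcard.symm ▸ hp)
    (fun h => by
      rw [hcard] at h
      exact absurd (hodd.of_dvd_nat hpX) (by rw [h]; decide))
    (hodd.of_dvd_nat (card_subgroup_dvd_card K))
    (hcop.symm.coprime_dvd_left (card_dvd_of_le hR₀R)) hF₀
  haveI hFn : (Cfsg.fittingOf K).Normal := normalizer_eq_top_iff.1 (top_le_iff.1 (by
    have h := normalizer_le_normalizer_fittingOf K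
    rwa [normalizer_eq_top] at h))
  have hK : K ≤ Cfsg.fittingOf K ⊔ (K ⊓ centralizer (R : Set X)) := by
    rw [← hc]
    calc K = ⁅K, R₀⁆ ⊔ (K ⊓ centralizer (R₀ : Set X)) :=
          (Coprime.commutator_sup_centralizer (by rw [normalizer_eq_top]; exact le_top)
            (hcop.symm.coprime_dvd_left (card_dvd_of_le hR₀R)) (Or.inr hsolv)).symm
      _ ≤ _ := sup_le_sup_right h0 _
  set g := QuotientGroup.mk' (Cfsg.fittingOf K)
  refine commutator_le.2 fun k hk r hr => (QuotientGroup.eq_one_iff _).1 ?_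
  show g ⁅k, r⁆ = 1
  rw [map_commutatorElement, commutatorElement_eq_one_iff_mul_comm]
  have hle : K ≤ (centralizer ({g r} : Set _)).comap g := hK.trans (sup_le
    (fun s hs => by
      rw [mem_comap, show g s = 1 from (QuotientGroup.eq_one_iff s).2 hs]
      exact one_mem _)
    (fun s hs => by
      rw [mem_comap, mem_centralizer_singleton_iff, ← map_mul, ← map_mul,
        mem_centralizer_iff.1 hs.2 r hr]))
  exact mem_centralizer_singleton_iff.1 (mem_comap.1 (hle hk))

end CfsgLib.OddOrder
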