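import Cfsg.Prelude.Def_OddOrderLocal
import Mathlib.GroupTheory.OrderOfElement
import Mathlib.GroupTheory.Subgroup.Centralizer
import Mathlib.GroupTheory.Index

/-!
# BG 3.1: Frobenius groups acting on abelian groups

If a group `R` acts fixed point freely on a group `K` and `K R` acts on an abelian group `V` of order
prime to `#K` with `C_V(R) = 1`, then `K` centralizes `V`.
-/

set_option autoImplicit false
set_option linter.style.haveILetI false

namespace CfsgLib.OddOrder

open Subgroup

section module

variable {X : Type*} [Group X] {V : Type*} [CommGroup V] [MulDistribMulAction X V]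

/-- BG 3.1 for an abstract action. -/
theorem smul_eq_self_of_frobenius (K R : Subgroup X) [Finite K] [Finite R] [Finite V]
    (hRK : R ≤ normalizer (K : Set X))
    (hfpf : ∀ r ∈ R, r ≠ 1 → ∀ k ∈ K, k * r = r * k → k = 1)
    (hcop : (Nat.card K).Coprime (Nat.card V))
    (hfix : ∀ v : V, (∀ r ∈ R, r • v = v) → v = 1) {k : X} (hk : k ∈ K) (v : V) : k • v = v := by
  classical
  haveI := Fintype.ofFinite K
  haveI := Fintype.ofFinite R
  have hN : ∀ w : V, ∏ r : R, (r : X) • w = 1 := fun w => hfix _ fun s hs => by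
    rw [Finset.smul_prod']
    exact Fintype.prod_equiv (Equiv.mulLeft (⟨s, hs⟩ : R)) _ _ fun r => by
      simp [mul_smul]
  let T : V → V := fun w => ∏ n : K, (n : X) • w
  have hTfix : ∀ w, k • T w = T w := fun w => by
    simp only [T, Finset.smul_prod']
    exact Fintype.prod_equiv (Equiv.mulLeft (⟨k, hk⟩ : K)) _ _ fun n => by simp [mul_smul]
  have hTconj : ∀ r : R, ∀ w, T ((r : X) • w) = (r : X) • T w := fun r w => by
    simp only [T, Finset.smul_prod', ← mul_smul]
    refine (Fintype.prod_bijective (fun n : K => (⟨(r : X) * n * (r : X)⁻¹,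
      (mem_normalizer_iff.1 (hRK r.2) n).1 n.2⟩ : K)) ?_ _ _ fun n => ?_).symm
    · rw [Finite.injective_iff_bijective.symm]
      intro a b hab
      exact Subtype.ext (mul_left_cancel (mul_right_cancel (congrArg Subtype.val hab)))
    · simp [mul_assoc]
  have hbij : ∀ r : R, r ≠ 1 → Function.Bijective (fun m : K => (⟨(m : X) * (r : X) * (m : X)⁻¹ * (r : X)⁻¹,
      by
        have := K.mul_mem m.2 ((mem_normalizer_iff.1 (hRK r.2) (m : X)⁻¹).1 (K.inv_mem m.2))
        simpa [mul_assoc] using this⟩ : K)) := fun r hr => by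
    rw [Finite.injective_iff_bijective.symm]
    intro a b hab
    have h1 : (a : X) * r * (a : X)⁻¹ = (b : X) * r * (b : X)⁻¹ :=
      mul_right_cancel (congrArg Subtype.val hab)
    have h2 : ((b : X)⁻¹ * a) * r = r * ((b : X)⁻¹ * a) := by
      calc ((b : X)⁻¹ * a) * r = (b : X)⁻¹ * ((a : X) * r * (a : X)⁻¹) * a := by group
        _ = (b : X)⁻¹ * ((b : X) * r * (b : X)⁻¹) * a := by rw [h1]
        _ = _ := by group
    have h3 := hfpf r r.2 (fun h => hr (Subtype.ext h)) _ (K.mul_mem (K.inv_mem b.2) a.2) h2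
    exact Subtype.ext (inv_mul_eq_one.1 h3).symm
  have key : ∀ r : R, (∏ m : K, ((m : X) * r * (m : X)⁻¹) • v) =
      if r = 1 then v ^ Nat.card K else (r : X) • T v := fun r => by
    split
    · next h => subst h; simp [Nat.card_eq_fintype_card]
    · next h =>
      rw [← hTconj]
      refine Fintype.prod_bijective _ (hbij r h) _ _ fun m => ?_
      simp [← mul_smul, mul_assoc]
  have hpow : v ^ Nat.card K = T v := by
    have h0 : (∏ m : K, ∏ r : R, ((m : X) * r * (m : X)⁻¹) • v) = 1 := by
      refine Finset.prod_eq_one fun m _ => ?_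
      simp only [mul_smul]
      rw [← Finset.smul_prod', hN, smul_one]
    rw [Finset.prod_comm, Finset.prod_congr rfl fun r _ => key r] at h0
    have h1 : (∏ r : R, (r : X) • T v) = 1 := hN _
    rw [← Finset.mul_prod_erase _ _ (Finset.mem_univ (1 : R))] at h0 h1
    rw [if_pos rfl, Finset.prod_congr rfl fun r hr => if_neg (Finset.ne_of_mem_erase hr)] at h0
    rw [OneMemClass.coe_one, one_smul] at h1
    exact mul_right_cancel (h0.trans h1.symm)
  have h := hTfix v
  rw [← hpow, smul_pow'] at h
  obtain ⟨a, ha⟩ := exists_pow_eq_self_of_coprime (x := v)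
    (hcop.coprime_dvd_right (orderOf_dvd_natCard v))
  calc k • v = k • (v ^ Nat.card K) ^ a := by rw [ha]
    _ = v := by rw [smul_pow', smul_pow', h, ha]

end module

/-- BG 3.1: a Frobenius group `K R` acting on an abelian group `V` of order prime to `#K` with
`C_V(R) = 1` has its kernel centralizing `V`. -/
theorem le_centralizer_of_frobenius_action {X : Type*} [Group X] [Finite X] {K R V : Subgroup X}
    (hV : IsMulCommutative V) (hRK : R ≤ normalizer (K : Set X))
    (hKV : K ≤ normalizer (V : Set X)) (hRV : R ≤ normalizer (V : Set X))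
    (hfpf : ∀ r ∈ R, r ≠ 1 → K ⊓ centralizer ({r} : Set X) = ⊥)
    (hcop : (Nat.card K).Coprime (Nat.card V)) (hfix : V ⊓ centralizer (R : Set X) = ⊥) :
    K ≤ centralizer (V : Set X) := by
  letI : CommGroup V :=
    { (inferInstance : Group V) with mul_comm := fun a b => hV.is_comm.comm a b }
  let N := normalizer (V : Set X)
  letI : MulDistribMulAction N V := MulDistribMulAction.compHom V (normalizerMonoidHom V)
  intro k hk
  rw [mem_centralizer_iff]
  intro v hv
  have hact : ∀ (n : N) (w : V), ((n • w : V) : X) = (n : X) * w * (n : X)⁻¹ := fun n w => rfl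
  have h := smul_eq_self_of_frobenius (X := N) (V := V) (K.subgroupOf N) (R.subgroupOf N) ?_ ?_ ?_ ?_
    (k := ⟨k, hKV hk⟩) (mem_subgroupOf.2 hk) ⟨v, hv⟩
  · have h' := congrArg Subtype.val h
    rw [hact] at h'
    exact (mul_inv_eq_iff_eq_mul.1 h').symm
  · intro r hr
    rw [mem_subgroupOf] at hr
    rw [mem_normalizer_iff]
    intro m
    simp only [mem_subgroupOf, Subgroup.coe_mul, Subgroup.coe_inv]
    exact mem_normalizer_iff.1 (hRK hr) m
  · intro r hr hr1 m hm hcomm
    have hmem : (m : X) ∈ K ⊓ centralizer ({(r : X)} : Set X) :=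
      ⟨mem_subgroupOf.1 hm, mem_centralizer_iff.2 fun y hy => by
        rw [Set.mem_singleton_iff.1 hy]; exact (congrArg Subtype.val hcomm).symm⟩
    rw [hfpf r (mem_subgroupOf.1 hr) fun h => hr1 (Subtype.ext h), mem_bot] at hmem
    exact Subtype.ext hmem
  · rwa [Nat.card_congr (subgroupOfEquivOfLe hKV).toEquiv]
  · intro w hw
    have hmem : (w : X) ∈ V ⊓ centralizer (R : Set X) :=
      ⟨w.2, mem_centralizer_iff.2 fun r hr => by
        have h' := congrArg Subtype.val (hw ⟨r, hRV hr⟩ (mem_subgroupOf.2 hr))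
        rw [hact] at h'
        exact mul_inv_eq_iff_eq_mul.1 h'⟩
    rw [hfix, mem_bot] at hmem
    exact Subtype.ext hmem

end CfsgLib.OddOrder
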