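import Mathlib.LinearAlgebra.Matrix.ToLin
import Mathlib.LinearAlgebra.Matrix.NonsingularInverse
import Mathlib.LinearAlgebra.Trace
import Mathlib.LinearAlgebra.Projection
import Mathlib.Data.ZMod.Basic
import Mathlib.Algebra.Field.ZMod
import Mathlib.GroupTheory.SchurZassenhaus
import Mathlib.Tactic

/-!
# Lifting coprime representations to `ℤ/ℓ^k`, and the linear form of Wielandt's fixed point formula

If an integral combination of the sums over some subgroups of `G` vanishes, so does the same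
combination of the dimensions of their fixed spaces on a module over `ZMod ℓ`, `ℓ` prime to `|G|`.
-/

set_option autoImplicit false
set_option linter.style.haveILetI false

namespace CfsgLib.OddOrder

open Finset

section Lift

variable {ℓ k : ℕ} [Fact ℓ.Prime] {n : Type*} [Fintype n] [DecidableEq n]

/-- An element of `ℤ/ℓ^k` with nonzero reduction modulo `ℓ` is a unit. -/
theorem isUnit_zmod_of_castHom_ne_zero (hk : k ≠ 0) {x : ZMod (ℓ ^ k)}
    (hx : ZMod.castHom (dvd_pow_self ℓ hk) (ZMod ℓ) x ≠ 0) : IsUnit x := by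
  haveI : NeZero (ℓ ^ k) := ⟨pow_ne_zero _ (Fact.out : ℓ.Prime).ne_zero⟩
  obtain ⟨m, rfl⟩ : ∃ m : ℕ, (m : ZMod (ℓ ^ k)) = x := ⟨x.val, ZMod.natCast_zmod_val x⟩
  rw [map_natCast, Ne, ZMod.natCast_eq_zero_iff] at hx
  exact (ZMod.unitOfCoprime m
    (((Fact.out : ℓ.Prime).coprime_iff_not_dvd.2 hx).symm.pow_right k)).isUnit

/-- A matrix over `ℤ/ℓ^k` whose reduction is invertible is invertible. -/
theorem isUnit_matrix_of_reduction (hk : k ≠ 0) {A : Matrix n n (ZMod (ℓ ^ k))}
    (hA : IsUnit ((ZMod.castHom (dvd_pow_self ℓ hk) (ZMod ℓ)).mapMatrix A)) : IsUnit A := by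
  rw [Matrix.isUnit_iff_isUnit_det] at hA ⊢
  rw [← RingHom.map_det] at hA
  exact isUnit_zmod_of_castHom_ne_zero hk hA.ne_zero

/-- The reduction of matrices is onto. -/
theorem reduction_surjective (hk : k ≠ 0) :
    Function.Surjective ((ZMod.castHom (dvd_pow_self ℓ hk) (ZMod ℓ)).mapMatrix :
      Matrix n n (ZMod (ℓ ^ k)) →+* Matrix n n (ZMod ℓ)) := fun A => by
  refine ⟨A.map fun a => (a.val : ZMod (ℓ ^ k)), ?_⟩
  ext i j
  simp [ZMod.natCast_zmod_val]

/-- A coprime representation over `ZMod ℓ` lifts to one over `ℤ/ℓ^k`. -/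
theorem exists_lift_rep {G : Type*} [Group G] [Finite G] (hk : k ≠ 0)
    (hG : (Nat.card G).Coprime ℓ) (ρ : G →* Matrix n n (ZMod ℓ)) :
    ∃ ρ' : G →* Matrix n n (ZMod (ℓ ^ k)),
      ∀ g, (ZMod.castHom (dvd_pow_self ℓ hk) (ZMod ℓ)).mapMatrix (ρ' g) = ρ g := by
  haveI : NeZero (ℓ ^ k) := ⟨pow_ne_zero _ (Fact.out : ℓ.Prime).ne_zero⟩
  set φ : Matrix n n (ZMod (ℓ ^ k)) →+* Matrix n n (ZMod ℓ) :=
    (ZMod.castHom (dvd_pow_self ℓ hk) (ZMod ℓ)).mapMatrix with hφ
  let red : (Matrix n n (ZMod (ℓ ^ k)))ˣ →* (Matrix n n (ZMod ℓ))ˣ := Units.map φ.toMonoidHom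
  let Γ : Subgroup (G × (Matrix n n (ZMod (ℓ ^ k)))ˣ) :=
    MonoidHom.eqLocus (red.comp (MonoidHom.snd _ _)) (ρ.toHomUnits.comp (MonoidHom.fst _ _))
  have hΓ : ∀ p, p ∈ Γ ↔ red p.2 = ρ.toHomUnits p.1 := fun p => Iff.rfl
  let π : Γ →* G := (MonoidHom.fst _ _).comp Γ.subtype
  have hπ : Function.Surjective π := by
    intro g
    obtain ⟨A, hA⟩ := reduction_surjective hk (ρ g)
    have hAu : IsUnit A := isUnit_matrix_of_reduction hk (hA ▸ (ρ.toHomUnits g).isUnit)
    exact ⟨⟨(g, hAu.unit), (hΓ _).2 (Units.ext hA)⟩, rfl⟩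
  -- the kernel is an `ℓ`-group
  have hker : Nat.card π.ker ∣ (ℓ ^ k) ^ (Fintype.card n * Fintype.card n) := by
    let N : AddSubgroup (Matrix n n (ZMod (ℓ ^ k))) := φ.toAddMonoidHom.ker
    have e : π.ker ≃ N :=
      { toFun := fun p => ⟨((p : Γ) : G × (Matrix n n (ZMod (ℓ ^ k)))ˣ).2.val - 1, by
          rw [AddMonoidHom.mem_ker]
          show φ (_ - 1) = 0
          have h := congrArg Units.val ((hΓ _).1 (p : Γ).2)
          have h1 : ((p : Γ) : G × (Matrix n n (ZMod (ℓ ^ k)))ˣ).1 = 1 := p.2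
          rw [h1, map_one] at h
          rw [map_sub, map_one, show φ _ = 1 from h, sub_self]⟩
        invFun := fun M =>
          have hM : φ ((M : Matrix n n (ZMod (ℓ ^ k))) + 1) = 1 := by
            rw [map_add, map_one, show φ (M : Matrix n n (ZMod (ℓ ^ k))) = 0 from M.2, zero_add]
          ⟨⟨(1, (isUnit_matrix_of_reduction hk (hM ▸ isUnit_one)).unit),
            (hΓ _).2 (Units.ext (by rw [map_one]; exact hM))⟩, rfl⟩
        left_inv := fun p => by
          refine Subtype.ext (Subtype.ext (Prod.ext ?_ (Units.ext ?_)))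
          · exact p.2.symm
          · simp
        right_inv := fun M => Subtype.ext (by simp) }
    rw [Nat.card_congr e]
    refine (AddSubgroup.card_addSubgroup_dvd_card N).trans (dvd_of_eq ?_)
    rw [show Nat.card (Matrix n n (ZMod (ℓ ^ k))) = Nat.card (n → n → ZMod (ℓ ^ k)) from rfl, Nat.card_fun,
      Nat.card_fun, Nat.card_zmod, ← pow_mul, Nat.card_eq_fintype_card, mul_comm]
  have hidx : π.ker.index = Nat.card G := by
    rw [Subgroup.index_ker, MonoidHom.range_eq_top.2 hπ, Subgroup.card_top]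
  obtain ⟨H, hH⟩ := Subgroup.exists_right_complement'_of_coprime (N := π.ker) (by
    rw [hidx]
    exact Nat.Coprime.coprime_dvd_left hker
      (((hG.pow_right k).pow_right (Fintype.card n * Fintype.card n)).symm))
  have hbij : Function.Bijective (π.comp H.subtype) := by
    refine (Nat.bijective_iff_injective_and_card _).2 ⟨?_, ?_⟩
    · rw [← MonoidHom.ker_eq_bot_iff, eq_bot_iff]
      intro h hh
      have hmem : (h : Γ) ∈ π.ker ⊓ H := ⟨hh, h.2⟩
      rw [hH.disjoint.eq_bot, Subgroup.mem_bot] at hmem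
      exact Subgroup.mem_bot.2 (Subtype.ext hmem)
    · rw [← hidx, ← hH.symm.index_eq_card]
  let e := MulEquiv.ofBijective (π.comp H.subtype) hbij
  refine ⟨(Units.coeHom _).comp ((MonoidHom.snd _ _).comp
    (Γ.subtype.comp (H.subtype.comp e.symm.toMonoidHom))), fun g => ?_⟩
  have h := congrArg Units.val ((hΓ _).1 ((e.symm g : H) : Γ).2)
  have hg : (((e.symm g : H) : Γ) : G × (Matrix n n (ZMod (ℓ ^ k)))ˣ).1 = g := e.apply_symm_apply g
  rw [hg] at h
  exact h

/-- The trace of an idempotent matrix over `ℤ/ℓ^k` is the rank of its reduction. -/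
theorem trace_idempotent_eq_finrank {A : Type*} [AddCommGroup A] [Module (ZMod ℓ) A]
    [FiniteDimensional (ZMod ℓ) A] (b₀ : Module.Basis n (ZMod ℓ) A) (hk : k ≠ 0)
    {E : Matrix n n (ZMod (ℓ ^ k))} (hE : E * E = E) {f : Module.End (ZMod ℓ) A}
    (hred : (ZMod.castHom (dvd_pow_self ℓ hk) (ZMod ℓ)).mapMatrix E = LinearMap.toMatrix b₀ b₀ f) :
    E.trace = (Module.finrank (ZMod ℓ) (LinearMap.range f) : ZMod (ℓ ^ k)) := by
  classical
  set φ : Matrix n n (ZMod (ℓ ^ k)) →+* Matrix n n (ZMod ℓ) :=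
    (ZMod.castHom (dvd_pow_self ℓ hk) (ZMod ℓ)).mapMatrix with hφ
  have hf : f * f = f := by
    apply (LinearMap.toMatrix b₀ b₀).injective
    rw [LinearMap.toMatrix_mul, ← hred, ← map_mul, hE]
  have hff : ∀ x, f (f x) = f x := fun x => LinearMap.congr_fun hf x
  have hc : IsCompl (LinearMap.range f) (LinearMap.ker f) := by
    refine ⟨disjoint_iff_inf_le.2 ?_, codisjoint_iff_le_sup.2 ?_⟩
    · rintro x ⟨⟨y, rfl⟩, hx⟩
      rw [SetLike.mem_coe, LinearMap.mem_ker, hff] at hx
      rw [Submodule.mem_bot, hx]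
    · intro x _
      rw [← add_sub_cancel (f x) x]
      exact Submodule.add_mem_sup ⟨x, rfl⟩ (by rw [LinearMap.mem_ker, map_sub, hff, sub_self])
  let bs := ((Module.finBasis (ZMod ℓ) (LinearMap.range f)).prod
    (Module.finBasis (ZMod ℓ) (LinearMap.ker f))).map (Submodule.prodEquivOfIsCompl _ _ hc)
  let σ := bs.indexEquiv b₀
  let b := bs.reindex σ
  let δ : n → ZMod (ℓ ^ k) := fun i => Sum.elim (fun _ => 1) (fun _ => 0) (σ.symm i)
  let δ' : n → ZMod ℓ := fun i => Sum.elim (fun _ => 1) (fun _ => 0) (σ.symm i)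
  have hfb : ∀ i, f (b i) = δ' i • b i := by
    intro i
    simp only [b, bs, δ', Module.Basis.reindex_apply, Module.Basis.map_apply,
      Submodule.coe_prodEquivOfIsCompl']
    rcases σ.symm i with j | j
    · obtain ⟨y, hy⟩ := ((Module.finBasis (ZMod ℓ) (LinearMap.range f)) j).2
      simp [← hy, hff]
    · simp
  have hD : LinearMap.toMatrix b b f = Matrix.diagonal δ' := by
    ext i j
    rw [LinearMap.toMatrix_apply, hfb, map_smul, Module.Basis.repr_self, Finsupp.smul_apply,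
      Finsupp.single_apply, Matrix.diagonal_apply]
    by_cases h : i = j
    · subst h; simp
    · rw [if_neg h, if_neg (Ne.symm h), smul_zero]
  obtain ⟨Q, hQ⟩ := reduction_surjective (ℓ := ℓ) hk (b₀.toMatrix b)
  obtain ⟨Q', hQ'⟩ := reduction_surjective (ℓ := ℓ) hk (b.toMatrix b₀)
  have hQu : IsUnit Q := isUnit_matrix_of_reduction hk (by
    rw [hQ]
    exact IsUnit.of_mul_eq_one (b.toMatrix b₀) (b₀.toMatrix_mul_toMatrix_flip b))
  obtain ⟨u, rfl⟩ := hQu
  set E' : Matrix n n (ZMod (ℓ ^ k)) := u * Matrix.diagonal δ * (u⁻¹ :) with hE'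
  have hδ : Matrix.diagonal δ * Matrix.diagonal δ = Matrix.diagonal δ := by
    rw [Matrix.diagonal_mul_diagonal]
    congr 1
    funext i
    simp only [δ]
    rcases σ.symm i with j | j <;> simp
  have hE'2 : E' * E' = E' := by
    rw [hE', show (u : Matrix n n (ZMod (ℓ ^ k))) * Matrix.diagonal δ * (u⁻¹ :) *
        (u * Matrix.diagonal δ * (u⁻¹ :)) =
      u * (Matrix.diagonal δ * ((u⁻¹ :) * u) * Matrix.diagonal δ) * (u⁻¹ :) by noncomm_ring,
      Units.inv_mul, mul_one, hδ]
  have hφδ : φ (Matrix.diagonal δ) = Matrix.diagonal δ' := by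
    rw [hφ, RingHom.mapMatrix_apply, Matrix.diagonal_map (map_zero _)]
    congr 1
    funext i
    simp only [δ, δ']
    rcases σ.symm i with j | j <;> simp [ZMod.cast_one (dvd_pow_self ℓ hk)]
  have hinv : φ (u⁻¹ :) = b.toMatrix b₀ := by
    have h1 : φ (u⁻¹ :) * φ u = 1 := by rw [← map_mul, Units.inv_mul, map_one]
    rw [← mul_one (φ (u⁻¹ :)), ← b₀.toMatrix_mul_toMatrix_flip b, ← mul_assoc, ← hQ, h1, one_mul]
  have hred' : φ E' = φ E := by
    rw [hred, hE', map_mul, map_mul, hφδ, hinv, hQ, ← hD,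
      basis_toMatrix_mul_linearMap_toMatrix_mul_basis_toMatrix]
  clear_value E'
  set W := E * E' + (1 - E) * (1 - E') with hW
  clear_value W
  have hWu : IsUnit W := isUnit_matrix_of_reduction hk (by
    have hEE : φ E * φ E = φ E := by rw [← map_mul, hE]
    have : φ W = 1 := by
      rw [hW, map_add, map_mul, map_mul, map_sub, map_sub, map_one, hred', hEE]
      rw [show φ E + (1 - φ E) * (1 - φ E) = 1 + (φ E * φ E - φ E) by noncomm_ring, hEE, sub_self,
        add_zero]
    rw [this]; exact isUnit_one)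
  obtain ⟨w, hw⟩ := hWu
  have hcomm : E * W = W * E' := by
    rw [hW, show E * (E * E' + (1 - E) * (1 - E')) = E * E * E' + (E - E * E) * (1 - E') by noncomm_ring,
      show (E * E' + (1 - E) * (1 - E')) * E' = E * (E' * E') + (1 - E) * (E' - E' * E') by noncomm_ring,
      hE, hE'2, sub_self, sub_self, zero_mul, mul_zero]
  have hEE' : E' = (w⁻¹ :) * E * w := by
    rw [mul_assoc, hw, hcomm, ← hw, ← mul_assoc, Units.inv_mul, one_mul]
  have htr : E'.trace = E.trace := by
    rw [hEE', Matrix.trace_mul_comm, ← mul_assoc, Units.mul_inv, one_mul]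
  rw [← htr, hE', Matrix.trace_mul_comm, ← mul_assoc, Units.inv_mul, one_mul, Matrix.trace_diagonal]
  rw [← Equiv.sum_comp σ]
  simp [δ, Fintype.sum_sum_type]

end Lift

/-- Wielandt's fixed point formula, linear form. -/
theorem sum_finrank_fixed_eq {ℓ : ℕ} [Fact ℓ.Prime] {G : Type*} [Group G] [Finite G] {A : Type*}
    [AddCommGroup A] [Module (ZMod ℓ) A] [FiniteDimensional (ZMod ℓ) A]
    (ρ : G →* Module.End (ZMod ℓ) A) (hG : (Nat.card G).Coprime ℓ) {ι : Type*} [Fintype ι]
    (S : ι → Subgroup G) [∀ g i, Decidable (g ∈ S i)] (a b : ι → ℕ)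
    (h : ∀ g : G, (∑ i, if g ∈ S i then a i else 0) = ∑ i, if g ∈ S i then b i else 0)
    (W : ι → Submodule (ZMod ℓ) A) (hW : ∀ i x, x ∈ W i ↔ ∀ g ∈ S i, ρ g x = x) :
    ∑ i, a i * Nat.card (S i) * Module.finrank (ZMod ℓ) (W i) =
      ∑ i, b i * Nat.card (S i) * Module.finrank (ZMod ℓ) (W i) := by
  classical
  haveI := Fintype.ofFinite G
  let b₀ := Module.finBasis (ZMod ℓ) A
  set X := ∑ i, a i * Nat.card (S i) * Module.finrank (ZMod ℓ) (W i) with hX
  set Y := ∑ i, b i * Nat.card (S i) * Module.finrank (ZMod ℓ) (W i) with hY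
  let k := X + Y + 1
  have hk : k ≠ 0 := Nat.succ_ne_zero _
  haveI : NeZero (ℓ ^ k) := ⟨pow_ne_zero _ (Fact.out : ℓ.Prime).ne_zero⟩
  obtain ⟨ρ', hρ'⟩ := exists_lift_rep hk hG
    ((LinearMap.toMatrixAlgEquiv b₀).toRingEquiv.toMonoidHom.comp ρ)
  set φ := (ZMod.castHom (dvd_pow_self ℓ hk) (ZMod ℓ)).mapMatrix (m := Fin (Module.finrank (ZMod ℓ) A))
  let P : ι → Matrix _ _ (ZMod (ℓ ^ k)) := fun i => ∑ g : G, if g ∈ S i then ρ' g else 0
  let p : ι → Module.End (ZMod ℓ) A := fun i => ∑ g : G, if g ∈ S i then ρ g else 0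
  have hcard : ∀ i, (∑ g : G, if g ∈ S i then 1 else 0) = Nat.card (S i) := fun i => by
    rw [Finset.sum_boole, Nat.card_eq_fintype_card, Fintype.card_subtype]; simp
  have hPcomm : ∀ i, ∀ s ∈ S i, ρ' s * P i = P i := fun i s hs => by
    simp only [P, Finset.mul_sum]
    refine Fintype.sum_equiv (Equiv.mulLeft s) _ _ fun g => ?_
    simp only [Equiv.coe_mulLeft, (S i).mul_mem_cancel_left hs]
    split <;> simp [map_mul]
  have hpcomm : ∀ i, ∀ s ∈ S i, ρ s * p i = p i := fun i s hs => by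
    simp only [p, Finset.mul_sum]
    refine Fintype.sum_equiv (Equiv.mulLeft s) _ _ fun g => ?_
    simp only [Equiv.coe_mulLeft, (S i).mul_mem_cancel_left hs]
    split <;> simp [map_mul]
  have hPP : ∀ i, P i * P i = (Nat.card (S i) : ℕ) • P i := fun i => by
    rw [← hcard, Finset.sum_smul]
    conv_lhs => rw [show P i = ∑ g : G, if g ∈ S i then ρ' g else 0 from rfl, Finset.sum_mul]
    refine Finset.sum_congr rfl fun g _ => ?_
    split
    · rw [one_smul]; exact hPcomm i g ‹_›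
    · rw [zero_mul, zero_smul]
  have htrace : ∀ i, (P i).trace =
      ((Nat.card (S i) * Module.finrank (ZMod ℓ) (W i) : ℕ) : ZMod (ℓ ^ k)) := by
    intro i
    have hco : (Nat.card (S i)).Coprime (ℓ ^ k) :=
      (hG.coprime_dvd_left (Subgroup.card_subgroup_dvd_card _)).pow_right k
    let u := ZMod.unitOfCoprime _ hco
    have hu : (u : ZMod (ℓ ^ k)) = (Nat.card (S i) : ZMod (ℓ ^ k)) := ZMod.coe_unitOfCoprime _ hco
    set c : ZMod ℓ := ZMod.castHom (dvd_pow_self ℓ hk) (ZMod ℓ) (u⁻¹ :) with hc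
    have hc1 : c * (Nat.card (S i) : ZMod ℓ) = 1 := by
      rw [hc, ← map_natCast (ZMod.castHom (dvd_pow_self ℓ hk) (ZMod ℓ)), ← map_mul, ← hu,
        Units.inv_mul, map_one]
    have hE : (((u⁻¹ :) : ZMod (ℓ ^ k)) • P i) * (((u⁻¹ :) : ZMod (ℓ ^ k)) • P i) =
        ((u⁻¹ :) : ZMod (ℓ ^ k)) • P i := by
      rw [smul_mul_smul_comm, hPP, ← Nat.cast_smul_eq_nsmul (ZMod (ℓ ^ k)), smul_smul, mul_assoc,
        ← hu, Units.inv_mul, mul_one]
    have hred : φ (((u⁻¹ :) : ZMod (ℓ ^ k)) • P i) = LinearMap.toMatrix b₀ b₀ (c • p i) := by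
      have hP : φ (P i) = LinearMap.toMatrix b₀ b₀ (p i) := by
        simp only [P, p, map_sum]
        refine Finset.sum_congr rfl fun g _ => ?_
        split
        · exact hρ' g
        · simp
      rw [LinearEquiv.map_smul (LinearMap.toMatrix b₀ b₀), ← hP]
      ext x y
      simp only [φ, hc, RingHom.mapMatrix_apply, Matrix.map_apply, Matrix.smul_apply, smul_eq_mul,
        map_mul]
    have hrange : LinearMap.range (c • p i) = W i := by
      apply le_antisymm
      · rintro _ ⟨x, rfl⟩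
        refine (hW i _).2 fun g hg => ?_
        rw [LinearMap.smul_apply, map_smul, ← Module.End.mul_apply, hpcomm i g hg]
      · intro x hx
        refine ⟨x, ?_⟩
        have : p i x = (Nat.card (S i) : ℕ) • x := by
          rw [← hcard, Finset.sum_smul, LinearMap.sum_apply]
          refine Finset.sum_congr rfl fun g _ => ?_
          split
          · rw [one_smul]; exact (hW i x).1 hx g ‹_›
          · simp
        rw [LinearMap.smul_apply, this, ← Nat.cast_smul_eq_nsmul (ZMod ℓ), smul_smul, hc1, one_smul]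
    have h1 := trace_idempotent_eq_finrank b₀ hk hE hred
    rw [hrange, Matrix.trace_smul, smul_eq_mul] at h1
    rw [Nat.cast_mul, ← hu, ← h1, Units.mul_inv_cancel_left]
  have hsum : ∀ c : ι → ℕ, ∑ i, c i • P i =
      ∑ g : G, (∑ i, if g ∈ S i then c i else 0) • ρ' g := fun c => by
    simp only [P, Finset.smul_sum, Finset.sum_smul, ite_smul, zero_smul, smul_ite, smul_zero]
    exact Finset.sum_comm
  have heq : ∑ i, a i • P i = ∑ i, b i • P i := by simp_rw [hsum, h]
  have hmod : (X : ZMod (ℓ ^ k)) = (Y : ZMod (ℓ ^ k)) := by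
    have := congrArg Matrix.trace heq
    simp only [Matrix.trace_sum, Matrix.trace_smul, htrace] at this
    simp only [nsmul_eq_mul] at this
    rw [hX, hY]
    push_cast at this ⊢
    simpa [mul_assoc] using this
  have hlt : X + Y + 1 < ℓ ^ k := Nat.lt_pow_self (Fact.out : ℓ.Prime).one_lt
  rw [ZMod.natCast_eq_natCast_iff'] at hmod
  rwa [Nat.mod_eq_of_lt (by omega), Nat.mod_eq_of_lt (by omega)] at hmod

end CfsgLib.OddOrder
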