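import Cfsg.Agent.OddOrder.BG3.Counting
import Mathlib.RingTheory.SimpleModule.Basic
import Mathlib.RepresentationTheory.AlgebraRepresentation.Basic
import Mathlib.LinearAlgebra.GeneralLinearGroup.AlgEquiv
import Mathlib.RingTheory.RootsOfUnity.PrimitiveRoots
import Mathlib.FieldTheory.IsAlgClosed.Basic
import Mathlib.RingTheory.RootsOfUnity.AlgebraicallyClosed
import Mathlib.GroupTheory.Index
import Mathlib.LinearAlgebra.Eigenspace.Triangularizable

/-!
# BG 2.5, the no-fixed-point case

A group of odd prime order acting freely on `K / Z`, where `K` is represented with scalar `Z` and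
nondegenerate commutators, has a fixed vector: if `q ^ n` is odd, `r = q ^ n + 1` is impossible.
-/

set_option autoImplicit false
set_option linter.style.haveILetI false

namespace CfsgLib.OddOrder

variable {F : Type*} [Field F]

section burnside

variable [IsAlgClosed F] {W : Type*} [AddCommGroup W] [Module F W] [FiniteDimensional F W]
  [Nontrivial W]

/-- Burnside: an irreducible monoid of operators over an algebraically closed field spans all
operators. -/
theorem span_range_eq_top_of_irreducible {Γ : Type*} [Monoid Γ] (σ : Γ →* Module.End F W)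
    (hirr : ∀ U : Submodule F W, (∀ g, ∀ u ∈ U, σ g u ∈ U) → U = ⊥ ∨ U = ⊤) :
    Submodule.span F (Set.range σ) = ⊤ := by
  let A : Subalgebra F (Module.End F W) := Algebra.adjoin F (Set.range σ)
  haveI : IsSimpleModule A W := by
    refine (isSimpleModule_iff _ _).2 { eq_bot_or_eq_top := fun U => ?_ }
    rcases hirr (U.restrictScalars F) (fun g u hu =>
      U.smul_mem (⟨σ g, Algebra.subset_adjoin ⟨g, rfl⟩⟩ : A) hu) with h | h
    · exact Or.inl (by simpa using h)
    · exact Or.inr (by simpa using h)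
  have hschur := IsSimpleModule.algebraMap_end_bijective_of_isAlgClosed F (A := A) (V := W)
  have hA : A = ⊤ := eq_top_iff.2 fun f _ => by
    let f' : Module.End (Module.End A W) W :=
      { toFun := f
        map_add' := map_add f
        map_smul' := fun φ w => by
          obtain ⟨c, rfl⟩ := hschur.2 φ
          simp }
    classical
    obtain ⟨a, ha⟩ := jacobson_density (R := A) (M := W) f'
      (Finset.univ.image (Module.finBasis F W))
    have : f = (a : Module.End F W) := (Module.finBasis F W).ext fun i =>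
      ha _ (Finset.mem_image_of_mem _ (Finset.mem_univ i))
    exact this ▸ a.2
  have h := congrArg Subalgebra.toSubmodule hA
  rw [Algebra.adjoin_eq_span, Algebra.top_toSubmodule] at h
  rwa [← MonoidHom.coe_mrange, Submonoid.closure_eq, MonoidHom.coe_mrange] at h

omit [IsAlgClosed F] in
/-- An operator commuting with all operators is scalar. -/
theorem exists_scalar_of_commute_all {s : Module.End F W} (h : ∀ a, s * a = a * s) :
    ∃ c : F, s = c • 1 := by
  obtain ⟨w, hw⟩ := exists_ne (0 : W)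
  obtain ⟨f, hf⟩ := Module.Projective.exists_dual_eq_one F hw
  refine ⟨f (s w), LinearMap.ext fun z => ?_⟩
  have := LinearMap.congr_fun (h (f.smulRight z)) w
  simpa [hf] using this

end burnside

/-- An operator of order prime to the characteristic over a field with enough roots of unity is
diagonalizable. -/
theorem exists_eigen_basis_of_pow_eq_one [IsAlgClosed F] {W : Type*} [AddCommGroup W] [Module F W]
    [FiniteDimensional F W] {s : Module.End F W} {r : ℕ} [NeZero r] (hrF : (r : F) ≠ 0)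
    (hs : s ^ r = 1) :
    ∃ (ι : Type) (_ : Fintype ι) (b : Module.Basis ι F W) (d : ι → F),
      (∀ i, s (b i) = d i • b i) ∧ ∀ i, d i ^ r = 1 := by
  classical
  haveI : NeZero (r : F) := ⟨hrF⟩
  obtain ⟨ζ, hζ⟩ := HasEnoughRootsOfUnity.exists_primitiveRoot F r
  set E : Set W := {w | ∃ θ : F, θ ^ r = 1 ∧ s w = θ • w} with hE
  have hspan : Submodule.span F E = ⊤ := by
    refine eq_top_iff.2 fun w _ => ?_
    let P : ℕ → W := fun j => ∑ i ∈ Finset.range r, (ζ ^ j)⁻¹ ^ i • (s ^ i) w
    have hP : ∀ j, s (P j) = ζ ^ j • P j := by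
      intro j
      have hζj : (ζ ^ j) ^ r = 1 := by rw [← pow_mul, mul_comm, pow_mul, hζ.pow_eq_one, one_pow]
      have h0 : ζ ^ j ≠ 0 := pow_ne_zero _ (hζ.ne_zero (NeZero.ne r))
      have hshift : ∀ g : ℕ → W, g r = g 0 →
          ∑ i ∈ Finset.range r, g (i + 1) = ∑ i ∈ Finset.range r, g i := fun g hg => by
        have h1 := Finset.sum_range_succ' g r
        rw [Finset.sum_range_succ, hg] at h1
        exact (add_right_cancel h1).symm
      calc s (P j) = ∑ i ∈ Finset.range r, (ζ ^ j)⁻¹ ^ i • (s ^ (i + 1)) w := by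
            simp only [P, map_sum, map_smul, pow_succ', Module.End.mul_apply]
        _ = ζ ^ j • ∑ i ∈ Finset.range r, (ζ ^ j)⁻¹ ^ (i + 1) • (s ^ (i + 1)) w := by
            rw [Finset.smul_sum]
            refine Finset.sum_congr rfl fun i _ => ?_
            rw [smul_smul, pow_succ' ((ζ ^ j)⁻¹), ← mul_assoc, mul_inv_cancel₀ h0, one_mul]
        _ = ζ ^ j • P j := congrArg _ (hshift (fun i => (ζ ^ j)⁻¹ ^ i • (s ^ i) w)
            (by simp [hs, inv_pow, hζj]))
    have hmem : ∀ j, P j ∈ E := fun j =>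
      ⟨ζ ^ j, by rw [← pow_mul, mul_comm, pow_mul, hζ.pow_eq_one, one_pow], hP j⟩
    have hsum : ∑ j ∈ Finset.range r, P j = (r : F) • w := by
      simp only [P]
      rw [Finset.sum_comm]
      simp only [← Finset.sum_smul]
      rw [Finset.sum_eq_single 0]
      · simp
      · intro i hi hi0
        rw [Finset.mem_range] at hi
        have hgeom : ∑ j ∈ Finset.range r, (ζ ^ j)⁻¹ ^ i = 0 := by
          have hne : (ζ⁻¹) ^ i ≠ 1 := by
            rw [inv_pow, Ne, inv_eq_one]
            exact hζ.pow_ne_one_of_pos_of_lt hi0 hi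
          simp only [← inv_pow, ← pow_mul, mul_comm _ i]
          simp only [pow_mul]
          have h := geom_sum_mul (ζ⁻¹ ^ i) r
          have h1 : (ζ⁻¹ ^ i) ^ r = 1 := by
            rw [← pow_mul, mul_comm, pow_mul, inv_pow, hζ.pow_eq_one, inv_one, one_pow]
          rw [h1, sub_self, mul_eq_zero] at h
          exact h.resolve_right (sub_ne_zero.2 hne)
        rw [hgeom, zero_smul]
      · intro h; exact absurd (Finset.mem_range.2 (NeZero.pos r)) h
    rw [show w = (r : F)⁻¹ • ∑ j ∈ Finset.range r, P j by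
      rw [hsum, smul_smul, inv_mul_cancel₀ hrF, one_smul]]
    exact Submodule.smul_mem _ _ (Submodule.sum_mem _ fun j _ => Submodule.subset_span (hmem j))
  obtain ⟨B, hBE, hBspan, hBli⟩ := exists_linearIndependent F E
  let b₀ := Module.Basis.mk hBli (by rw [Subtype.range_coe, hBspan, hspan])
  haveI : Fintype B := FiniteDimensional.fintypeBasisIndex b₀
  let b := b₀.reindex (Fintype.equivFin B)
  have hb : ∀ i, b i ∈ E := fun i => by
    simp only [b, Module.Basis.reindex_apply, b₀, Module.Basis.mk_apply]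
    exact hBE ((Fintype.equivFin B).symm i).2
  choose d hd1 hd2 using hb
  exact ⟨_, inferInstance, b, d, hd2, hd1⟩

section main

variable [IsAlgClosed F] {M : Type*} [AddCommGroup M] [Module F M] [FiniteDimensional F M]
  [Nontrivial M] {G : Type*} [Group G] [Finite G]

/-- BG 2.5 (no fixed point case). -/
theorem false_of_free_action_no_fixed_point (ρ : G →* Module.End F M) (K Z : Subgroup G) (x : G)
    {r : ℕ} (hr : r.Prime) (hr2 : r ≠ 2) (hrF : (r : F) ≠ 0) (hxr : x ^ r = 1)
    (hsum : ∑ i ∈ Finset.range r, ρ (x ^ i) = 0)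
    (hxK : ∀ k ∈ K, x * k * x⁻¹ ∈ K) (hZK : Z ≤ K) (hne : Z ≠ K) (hKodd : Odd (Nat.card K))
    (hcomm : ∀ a ∈ K, ∀ b ∈ K, a * b * a⁻¹ * b⁻¹ ∈ Z)
    (hscal : ∀ z ∈ Z, ∃ c : F, ρ z = c • 1) (hxZ : ∀ z ∈ Z, x * z = z * x)
    (hfree : ∀ k ∈ K, k⁻¹ * (x * k * x⁻¹) ∈ Z → k ∈ Z)
    (hnd : ∀ k ∈ K, k ∉ Z → ∃ y ∈ K, ρ (y * k * y⁻¹ * k⁻¹) ≠ 1) : False := by
  classical
  haveI : NeZero r := ⟨hr.ne_zero⟩
  -- an irreducible `K`-invariant subspace
  obtain ⟨W, ⟨hW0, hWinv⟩, hWmin⟩ := (wellFounded_lt (α := Submodule F M)).has_min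
    {U : Submodule F M | U ≠ ⊥ ∧ ∀ k ∈ K, ∀ u ∈ U, ρ k u ∈ U} ⟨⊤, top_ne_bot, fun _ _ _ _ => trivial⟩
  haveI : Nontrivial W := Submodule.nontrivial_iff_ne_bot.2 hW0
  let σ : K →* Module.End F W :=
    { toFun := fun k => (ρ k).restrict (hWinv k k.2)
      map_one' := LinearMap.ext fun w => Subtype.ext (by simp)
      map_mul' := fun a b => LinearMap.ext fun w => Subtype.ext (by simp) }
  have hirr : ∀ U : Submodule F W, (∀ g, ∀ u ∈ U, σ g u ∈ U) → U = ⊥ ∨ U = ⊤ := by
    intro U hU
    by_contra hc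
    rw [not_or] at hc
    refine hWmin (U.map W.subtype) ⟨?_, ?_⟩ (lt_of_le_of_ne (Submodule.map_subtype_le _ _) ?_)
    · intro h
      exact hc.1 (Submodule.map_injective_of_injective W.injective_subtype (h.trans (Submodule.map_bot _).symm))
    · rintro k hk _ ⟨u, hu, rfl⟩
      exact ⟨σ ⟨k, hk⟩ u, hU _ u hu, rfl⟩
    · intro h
      apply hc.2
      apply Submodule.map_injective_of_injective W.injective_subtype
      rw [h, Submodule.map_top, Submodule.range_subtype]
  have hρinv : ∀ g : G, ∀ m : M, ρ g⁻¹ (ρ g m) = m := fun g m => by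
    rw [← Module.End.mul_apply, ← map_mul, inv_mul_cancel, map_one, Module.End.one_apply]
  -- the coset space and the two families
  let ZK : Subgroup K := Z.subgroupOf K
  haveI : Fintype (K ⧸ ZK) := Fintype.ofFinite _
  choose cZ hcZ using hscal
  have hcos : ∀ k : K, ∃ (c : F), σ k = c • σ ((k : K ⧸ ZK).out) ∧
      ρ k = c • ρ ((k : K ⧸ ZK).out : K) := by
    intro k
    have hz : ((k : K ⧸ ZK).out)⁻¹ * k ∈ ZK := QuotientGroup.eq.1 (Quotient.out_eq _)
    rw [Subgroup.mem_subgroupOf] at hz
    refine ⟨cZ _ hz, ?_, ?_⟩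
    · refine LinearMap.ext fun w => Subtype.ext ?_
      show ρ k w = cZ _ hz • ρ ((k : K ⧸ ZK).out : K) w
      conv_lhs => rw [show (k : G) = ((k : K ⧸ ZK).out : K) * ((((k : K ⧸ ZK).out)⁻¹ * k : K) : G) by simp]
      rw [map_mul, hcZ _ hz]
      simp
    · conv_lhs => rw [show (k : G) = ((k : K ⧸ ZK).out : K) * ((((k : K ⧸ ZK).out)⁻¹ * k : K) : G) by simp]
      rw [map_mul, hcZ _ hz]
      simp
  choose μ hμW hμM using hcos
  -- commutator scalars
  have hconj : ∀ a ∈ K, ∀ y ∈ K, ∃ c : F, ρ y * ρ a = c • (ρ a * ρ y) ∧ ρ (y * a * y⁻¹ * a⁻¹) = c • 1 := by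
    intro a ha y hy
    have hz := hcomm y hy a ha
    refine ⟨cZ _ hz, ?_, hcZ _ hz⟩
    rw [← map_mul, ← map_mul]
    conv_lhs => rw [show y * a = (y * a * y⁻¹ * a⁻¹) * (a * y) by group, map_mul, hcZ _ hz,
      smul_mul_assoc, one_mul]
  choose cc hcc hcc1 using hconj
  have hli : LinearIndependent F (fun t : K ⧸ ZK => σ t.out) := by
    rw [linearIndependent_iff']
    intro S
    induction S using Finset.strongInduction with
    | _ S ih =>
      intro g hg t ht
      by_contra hgt
      have hsub : ∀ u ∈ S, u ≠ t → g u = 0 := by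
        intro u hu hut
        by_contra hgu
        have hk : ((u.out : K) : G)⁻¹ * (t.out : K) ∉ Z := fun h => hut (by
          rw [← Quotient.out_eq u, ← Quotient.out_eq t]
          exact QuotientGroup.eq.2 (Subgroup.mem_subgroupOf.2 h))
        obtain ⟨y, hy, hy1⟩ := hnd _ (K.mul_mem (K.inv_mem u.out.2) t.out.2) hk
        let c : K ⧸ ZK → F := fun v => cc (v.out : K) v.out.2 y hy
        have hcne : c u ≠ c t := by
          intro heq
          apply hy1
          have h1 := hcc _ u.out.2 y hy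
          have h2 := hcc _ t.out.2 y hy
          change ρ y * ρ _ = c u • _ at h1
          change ρ y * ρ _ = c t • _ at h2
          rw [← heq] at h2
          set a : G := ((u.out : K) : G)
          set b : G := ((t.out : K) : G)
          have hcy : ρ y * ρ (a⁻¹ * b) = ρ (a⁻¹ * b) * ρ y := by
            have e : ρ a * (ρ y * ρ (a⁻¹ * b)) * c u • 1 = ρ a * (ρ (a⁻¹ * b) * ρ y) * c u • 1 := by
              calc ρ a * (ρ y * ρ (a⁻¹ * b)) * c u • 1 = (c u • (ρ a * ρ y)) * ρ (a⁻¹ * b) := by
                    simp [mul_assoc, smul_mul_assoc]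
                _ = (ρ y * ρ a) * ρ (a⁻¹ * b) := by rw [h1]
                _ = ρ y * ρ b := by rw [mul_assoc, ← map_mul, mul_inv_cancel_left]
                _ = ρ a * (ρ (a⁻¹ * b) * ρ y) * c u • 1 := by
                    rw [h2, ← mul_assoc (ρ a), ← map_mul ρ a (a⁻¹ * b), mul_inv_cancel_left]; simp
            have hc0 : c u ≠ 0 := fun h0 => by
              rw [h0, zero_smul, ← map_mul] at h1
              obtain ⟨m, hm⟩ := exists_ne (0 : M)
              exact hm (by rw [← hρinv (y * a) m, h1]; simp)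
            simp only [mul_smul_comm, mul_one] at e
            have e' := congrArg (fun z => ρ a⁻¹ * z) (smul_right_injective _ hc0 e)
            simpa [← mul_assoc, ← map_mul] using e'
          rw [map_mul ρ (y * (a⁻¹ * b) * y⁻¹), map_mul ρ (y * (a⁻¹ * b)), map_mul ρ y, hcy,
            ← map_mul, ← map_mul, ← map_mul, mul_inv_cancel_right, mul_inv_cancel, map_one]
        have hrel : ∑ v ∈ S, ((c v - c u) * g v) • σ v.out = 0 := by
          have e1 : σ ⟨y, hy⟩ * (∑ v ∈ S, g v • σ v.out) =
              (∑ v ∈ S, (c v * g v) • σ v.out) * σ ⟨y, hy⟩ := by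
            rw [Finset.mul_sum, Finset.sum_mul]
            refine Finset.sum_congr rfl fun v _ => LinearMap.ext fun w => Subtype.ext ?_
            have h := LinearMap.congr_fun (hcc _ v.out.2 y hy) (w : M)
            simp only [Module.End.mul_apply, LinearMap.smul_apply] at h
            show ρ y (g v • ρ _ (w : M)) = (c v * g v) • ρ _ (ρ y w)
            rw [map_smul, h, smul_smul, mul_comm]
          rw [hg, mul_zero] at e1
          have e2 : ∑ v ∈ S, (c v * g v) • σ v.out = 0 := by
            have e3 := congrArg (fun z => z * σ (⟨y, hy⟩ : K)⁻¹) e1.symm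
            simpa [mul_assoc, ← map_mul] using e3
          have hsplit : ∑ v ∈ S, ((c v - c u) * g v) • σ v.out =
              (∑ v ∈ S, (c v * g v) • σ v.out) - c u • ∑ v ∈ S, g v • σ v.out := by
            rw [Finset.smul_sum, ← Finset.sum_sub_distrib]
            exact Finset.sum_congr rfl fun v _ => LinearMap.ext fun w => by
              simp [sub_mul, sub_smul, smul_smul]
          rw [hsplit, e2, hg, smul_zero, sub_zero]
        have hrel' : ∑ v ∈ S.erase u, ((c v - c u) * g v) • σ v.out = 0 := by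
          rw [← Finset.add_sum_erase _ _ hu, sub_self, zero_mul, zero_smul, zero_add] at hrel
          exact hrel
        have := ih _ (Finset.erase_ssubset hu) _ hrel' t (Finset.mem_erase.2 ⟨Ne.symm hut, ht⟩)
        rcases mul_eq_zero.1 this with h | h
        · exact hcne (sub_eq_zero.1 h).symm
        · exact hgt h
      rw [Finset.sum_eq_single t (fun u hu hut => by rw [hsub u hu hut, zero_smul])
        (fun h => absurd ht h), smul_eq_zero] at hg
      rcases hg with h | h
      · exact hgt h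
      · obtain ⟨w, hw⟩ := exists_ne (0 : W)
        apply hw
        have h1 : σ (t.out)⁻¹ * σ t.out = 1 := by rw [← map_mul, inv_mul_cancel, map_one]
        rw [h, mul_zero] at h1
        simpa using (LinearMap.congr_fun h1 w).symm
  have hspan : Submodule.span F (Set.range fun t : K ⧸ ZK => σ t.out) = ⊤ := by
    refine eq_top_iff.2 ?_
    rw [← span_range_eq_top_of_irreducible σ hirr]
    refine Submodule.span_le.2 ?_
    rintro _ ⟨k, rfl⟩
    rw [SetLike.mem_coe, hμW k]
    exact Submodule.smul_mem _ _ (Submodule.subset_span ⟨_, rfl⟩)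
  let b := Module.Basis.mk hli hspan.ge
  have hb : ∀ t, b t = σ t.out := fun t => by simp [b]
  -- transfer to `M`
  let Ψ : Module.End F W →ₗ[F] Module.End F M := b.constr F fun t => ρ (t.out : K)
  have hΨ : ∀ k : K, Ψ (σ k) = ρ k := fun k => by
    rw [hμW k, map_smul, ← hb, b.constr_basis, hμM k]
  have hΨmul : ∀ a c, Ψ (a * c) = Ψ a * Ψ c := by
    intro a c
    have h : (LinearMap.mul F (Module.End F W)).compr₂ Ψ =
        (LinearMap.mul F (Module.End F M)).compl₁₂ Ψ Ψ := b.ext fun t => b.ext fun u => by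
      simp only [LinearMap.compr₂_apply, LinearMap.compl₁₂_apply, LinearMap.mul_apply', hb]
      rw [← map_mul, hΨ, hΨ, hΨ, Subgroup.coe_mul, map_mul]
    exact LinearMap.congr_fun (LinearMap.congr_fun h a) c
  have hΨone : Ψ 1 = 1 := by
    rw [← map_one σ, hΨ]; simp
  -- conjugation by `x`
  let cx : K → K := fun k => ⟨x * k * x⁻¹, hxK k k.2⟩
  have hcx_mul : ∀ k l, cx (k * l) = cx k * cx l := fun k l => Subtype.ext (by simp [cx, mul_assoc])
  let Φ : Module.End F W →ₗ[F] Module.End F W := b.constr F fun t => σ (cx t.out)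
  have hΦ : ∀ k : K, Φ (σ k) = σ (cx k) := fun k => by
    have hz : ((k : K ⧸ ZK).out)⁻¹ * k ∈ ZK := QuotientGroup.eq.1 (Quotient.out_eq _)
    have hfix : cx (((k : K ⧸ ZK).out)⁻¹ * k) = ((k : K ⧸ ZK).out)⁻¹ * k := Subtype.ext (by
      show x * _ * x⁻¹ = _
      rw [hxZ _ (Subgroup.mem_subgroupOf.1 hz), mul_inv_cancel_right])
    rw [hμW k, map_smul, ← hb, b.constr_basis]
    have hk : cx k = cx ((k : K ⧸ ZK).out) * (((k : K ⧸ ZK).out)⁻¹ * k) := by
      rw [← hfix, ← hcx_mul, mul_inv_cancel_left]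
    refine LinearMap.ext fun w => Subtype.ext ?_
    rw [hk, map_mul]
    show μ k • ρ (cx (k : K ⧸ ZK).out) w = ρ (cx (k : K ⧸ ZK).out) (ρ ((((k : K ⧸ ZK).out)⁻¹ * k : K) : G) w)
    rw [← map_smul]
    congr 1
    have h := LinearMap.congr_fun (hμM k) (w : M)
    rw [Subgroup.coe_mul, Subgroup.coe_inv, map_mul, Module.End.mul_apply, h, LinearMap.smul_apply,
      map_smul, hρinv]
  have hΦmul : ∀ a c, Φ (a * c) = Φ a * Φ c := by
    intro a c
    have h : (LinearMap.mul F (Module.End F W)).compr₂ Φ =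
        (LinearMap.mul F (Module.End F W)).compl₁₂ Φ Φ := b.ext fun t => b.ext fun u => by
      simp only [LinearMap.compr₂_apply, LinearMap.compl₁₂_apply, LinearMap.mul_apply', hb]
      rw [← map_mul, hΦ, hΦ, hΦ, hcx_mul, map_mul]
    exact LinearMap.congr_fun (LinearMap.congr_fun h a) c
  have hΦone : Φ 1 = 1 := by
    rw [← map_one σ, hΦ]
    exact congrArg σ (Subtype.ext (by simp [cx]))
  have hΦpow : ∀ (n : ℕ) (k : K), (Φ ^ n) (σ k) = σ (cx^[n] k) := by
    intro n
    induction n with
    | zero => simp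
    | succ n ih =>
      intro k
      rw [pow_succ', Module.End.mul_apply, ih, hΦ, Function.iterate_succ_apply']
  have hcxr : ∀ k, cx^[r] k = k := by
    have : ∀ (n : ℕ) k, ((cx^[n] k : K) : G) = x ^ n * k * (x ^ n)⁻¹ := by
      intro n
      induction n with
      | zero => simp
      | succ n ih =>
        intro k
        rw [Function.iterate_succ_apply']
        show x * (cx^[n] k : K) * x⁻¹ = _
        rw [ih, pow_succ']; group
    intro k
    exact Subtype.ext (by rw [this, hxr]; simp)
  have hΦr : Φ ^ r = 1 := b.ext fun t => by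
    rw [hb, hΦpow, hcxr, Module.End.one_apply]
  have hΦbij : Function.Bijective Φ := by
    have h1 : Φ * Φ ^ (r - 1) = 1 := by rw [← pow_succ', Nat.sub_add_cancel hr.one_le, hΦr]
    have h2 : Φ ^ (r - 1) * Φ = 1 := by rw [← pow_succ, Nat.sub_add_cancel hr.one_le, hΦr]
    exact Function.bijective_iff_has_inverse.2
      ⟨⇑(Φ ^ (r - 1) : Module.End F (Module.End F W)), fun a => LinearMap.congr_fun h2 a, fun a => LinearMap.congr_fun h1 a⟩
  let Φa : Module.End F W ≃ₐ[F] Module.End F W :=
    AlgEquiv.ofBijective (AlgHom.ofLinearMap Φ hΦone hΦmul) hΦbij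
  obtain ⟨T0, hT0⟩ := Φa.eq_linearEquivConjAlgEquiv
  set s₀ : Module.End F W := T0.toLinearMap with hs₀
  have hs₀a : ∀ a, s₀ * a = Φ a * s₀ := fun a => by
    have : Φ a = T0.toLinearMap ∘ₗ a ∘ₗ T0.symm.toLinearMap := by
      show Φa a = _
      rw [hT0]; exact LinearEquiv.conjAlgEquiv_apply ..
    rw [this]
    ext w
    simp [hs₀]
  have hs₀pow : ∀ (n : ℕ) a, s₀ ^ n * a = (Φ ^ n) a * s₀ ^ n := by
    intro n
    induction n with
    | zero => simp
    | succ n ih =>
      intro a
      rw [pow_succ' s₀, mul_assoc, ih, ← mul_assoc, hs₀a, pow_succ' Φ, Module.End.mul_apply,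
        mul_assoc]
  obtain ⟨δ, hδ⟩ := exists_scalar_of_commute_all (s := s₀ ^ r) fun a => by
    rw [hs₀pow, hΦr, Module.End.one_apply]
  obtain ⟨η, hη⟩ := IsAlgClosed.exists_pow_nat_eq δ hr.pos
  have hδ0 : δ ≠ 0 := fun h => by
    have hu : Function.Injective (s₀ ^ r : Module.End F W) := by
      rw [Module.End.coe_pow]; exact T0.injective.iterate r
    obtain ⟨w, hw⟩ := exists_ne (0 : W)
    exact hw (hu (by rw [hδ, h]; simp))
  have hη0 : η ≠ 0 := fun h => hδ0 (by rw [← hη, h, zero_pow hr.ne_zero])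
  set s : Module.End F W := η⁻¹ • s₀ with hsdef
  have hsr : s ^ r = 1 := by
    rw [hsdef, smul_pow, hδ, smul_smul, inv_pow, hη, inv_mul_cancel₀ hδ0, one_smul]
  have hsa : ∀ a, s * a = Φ a * s := fun a => by
    rw [hsdef, smul_mul_assoc, hs₀a, mul_smul_comm]
  -- `ρ x = Ψ s * C`
  set X : Module.End F M := ρ x with hX
  set S : Module.End F M := Ψ s with hSdef
  have hΨpow : ∀ (a : Module.End F W) (n : ℕ), Ψ (a ^ n) = Ψ a ^ n := by
    intro a n
    induction n with
    | zero => simp [hΨone]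
    | succ n ih => rw [pow_succ, pow_succ, hΨmul, ih]
  have hXa : ∀ a, X * Ψ a = Ψ (Φ a) * X := fun a => by
    have h : (LinearMap.mulLeft F X).comp Ψ = ((LinearMap.mulRight F X).comp Ψ).comp Φ := b.ext fun t => by
      simp only [LinearMap.comp_apply, LinearMap.mulLeft_apply, LinearMap.mulRight_apply, hb, hΦ, hΨ]
      rw [hX, ← map_mul, ← map_mul]
      congr 1
      simp [cx]
    exact LinearMap.congr_fun h a
  set C : Module.End F M := Ψ (s ^ (r - 1)) * X with hCdef
  have hSS : S * Ψ (s ^ (r - 1)) = 1 := by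
    rw [hSdef, ← hΨmul, ← pow_succ', Nat.sub_add_cancel hr.one_le, hsr, hΨone]
  have hXeq : X = S * C := by rw [hCdef, ← mul_assoc, hSS, one_mul]
  have hCa : ∀ a, C * Ψ a = Ψ a * C := fun a => by
    have h1 : s ^ (r - 1) * Φ a = a * s ^ (r - 1) := by
      have hss : s ^ (r - 1) * s = 1 := by rw [← pow_succ, Nat.sub_add_cancel hr.one_le, hsr]
      have hss' : s * s ^ (r - 1) = 1 := by rw [← pow_succ', Nat.sub_add_cancel hr.one_le, hsr]
      calc s ^ (r - 1) * Φ a = s ^ (r - 1) * (Φ a * s) * s ^ (r - 1) := by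
            rw [mul_assoc, mul_assoc, hss', mul_one]
        _ = (s ^ (r - 1) * s) * a * s ^ (r - 1) := by rw [← hsa]; simp [mul_assoc]
        _ = a * s ^ (r - 1) := by rw [hss, one_mul]
    rw [hCdef, mul_assoc, hXa, ← mul_assoc, ← hΨmul, h1, hΨmul, mul_assoc]
  have hXr : X ^ r = 1 := by rw [hX, ← map_pow, hxr, map_one]
  have hCr : C ^ r = 1 := by
    have h1 : X ^ r = S ^ r * C ^ r := by rw [hXeq, Commute.mul_pow (hCa s).symm]
    rwa [hXr, hSdef, ← hΨpow, hsr, hΨone, one_mul, eq_comm] at h1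
  obtain ⟨γ, hγ⟩ := Module.End.exists_eigenvalue C
  obtain ⟨v, hv, hv0⟩ := hγ.exists_hasEigenvector
  rw [Module.End.mem_eigenspace_iff] at hv
  obtain ⟨ι, hι, bW, d, hd, hdr⟩ := exists_eigen_basis_of_pow_eq_one hrF hsr
  -- `γ⁻¹` is not an eigenvalue of `s`
  have hmiss : ∀ i, d i * γ ≠ 1 := by
    intro i hi
    let a : ι → Module.End F W := fun j => (bW.coord j).smulRight (bW i)
    have hsum1 : ∑ j, (bW.coord i).smulRight (bW j) * a j = 1 := bW.ext fun k => by
      rw [LinearMap.sum_apply, Finset.sum_eq_single k]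
      · simp [a]
      · intro j _ hj; simp [a, hj, Ne.symm hj]
      · simp
    obtain ⟨j, hj⟩ : ∃ j, Ψ (a j) v ≠ 0 := by
      by_contra hall
      push Not at hall
      apply hv0
      have h := LinearMap.congr_fun (congrArg Ψ hsum1) v
      rw [map_sum, hΨone] at h
      simpa [hΨmul, hall] using h.symm
    have hXu : X (Ψ (a j) v) = Ψ (a j) v := by
      have h1 : S * Ψ (a j) = d i • Ψ (a j) := by
        rw [hSdef, ← hΨmul, ← map_smul]
        congr 1
        ext w
        simp [a, hd, smul_smul, mul_comm]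
      rw [hXeq, Module.End.mul_apply]
      have h2 := LinearMap.congr_fun (hCa (a j)) v
      change C (Ψ (a j) v) = Ψ (a j) (C v) at h2
      rw [hv, map_smul] at h2
      rw [h2, map_smul, ← Module.End.mul_apply, h1, LinearMap.smul_apply, smul_smul, mul_comm, hi,
        one_smul]
    have hfixpow : ∀ n : ℕ, ρ (x ^ n) (Ψ (a j) v) = Ψ (a j) v := by
      intro n
      induction n with
      | zero => simp
      | succ n ih => rw [pow_succ, map_mul, Module.End.mul_apply, ← hX, hXu, ih]
    have h := LinearMap.congr_fun hsum (Ψ (a j) v)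
    simp only [LinearMap.sum_apply, hfixpow, Finset.sum_const, Finset.card_range,
      LinearMap.zero_apply] at h
    rw [← Nat.cast_smul_eq_nsmul F, smul_eq_zero] at h
    exact h.elim hrF hj
  have hγr : γ ^ r = 1 := by
    have h : ∀ n : ℕ, (C ^ n) v = γ ^ n • v := fun n => by
      induction n with
      | zero => simp
      | succ n ih => rw [pow_succ', Module.End.mul_apply, ih, map_smul, hv, smul_smul, pow_succ]
    have h2 := h r
    rw [hCr, Module.End.one_apply] at h2
    exact (smul_left_injective F hv0 ((one_smul F v).trans h2)).symm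
  -- eigenspaces of `Φ` in the two bases
  have hcxT : ∀ k l : K, (k : K ⧸ ZK) = (l : K ⧸ ZK) → (cx k : K ⧸ ZK) = (cx l : K ⧸ ZK) := by
    intro k l h
    rw [QuotientGroup.eq, Subgroup.mem_subgroupOf] at h ⊢
    simp only [cx, Subgroup.coe_mul, Subgroup.coe_inv] at h ⊢
    rw [show (x * (k : G) * x⁻¹)⁻¹ * (x * l * x⁻¹) = x * ((k : G)⁻¹ * l) * x⁻¹ by group, hxZ _ h,
      mul_inv_cancel_right]
    exact h
  let π₀ : K ⧸ ZK → K ⧸ ZK := fun t => (cx t.out : K ⧸ ZK)
  have hπ₀ : ∀ (n : ℕ) (k : K), π₀^[n] (k : K ⧸ ZK) = (cx^[n] k : K) := by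
    intro n
    induction n with
    | zero => simp
    | succ n ih =>
      intro k
      rw [Function.iterate_succ_apply', Function.iterate_succ_apply', ih]
      exact hcxT _ _ (Quotient.out_eq _)
  have hπr : ∀ t, π₀^[r] t = t := fun t => by
    rw [← Quotient.out_eq t]
    show π₀^[r] ((t.out : K) : K ⧸ ZK) = _
    rw [hπ₀, hcxr]
  let π : Equiv.Perm (K ⧸ ZK) :=
    Equiv.ofBijective π₀ (Function.bijective_iff_has_inverse.2 ⟨π₀^[r - 1],
      fun t => (Function.iterate_succ_apply π₀ (r - 1) t).symm.trans (by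
        rw [Nat.succ_eq_add_one, Nat.sub_add_cancel hr.one_le]; exact hπr t),
      fun t => (Function.iterate_succ_apply' π₀ (r - 1) t).symm.trans (by
        rw [Nat.succ_eq_add_one, Nat.sub_add_cancel hr.one_le]; exact hπr t)⟩)
  have hπpow : π ^ r = 1 := Equiv.ext fun t => by
    rw [Equiv.Perm.coe_pow]; exact hπr t
  set t₀ : K ⧸ ZK := ((1 : K) : K ⧸ ZK) with ht₀
  have hπfix : ∀ t, π t = t ↔ t = t₀ := by
    intro t
    refine ⟨fun h => ?_, fun h => ?_⟩
    · have h' : ((cx t.out : K) : K ⧸ ZK) = ((t.out : K) : K ⧸ ZK) := h.trans (Quotient.out_eq t).symm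
      rw [eq_comm, QuotientGroup.eq, Subgroup.mem_subgroupOf] at h'
      have hz := hfree _ t.out.2 (by simpa [cx] using h')
      rw [← Quotient.out_eq t, ht₀]
      exact (QuotientGroup.eq.2 (Subgroup.mem_subgroupOf.2 (by simpa using hz))).symm
    · subst h
      exact (hcxT _ _ (Quotient.out_eq _)).trans (congrArg _ (Subtype.ext (by simp [cx])))
  let α : K ⧸ ZK → F := fun t => μ (cx t.out)
  have hΦb : ∀ t, Φ (b t) = α t • b (π t) := fun t => by
    rw [hb, hb, hΦ, hμW]; rfl
  have hα0 : α t₀ = 1 := by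
    have h := hΦb t₀
    rw [(hπfix t₀).2 rfl] at h
    obtain ⟨c, hc⟩ : ∃ c : F, c • b t₀ = 1 := ⟨μ 1, by rw [hb, ht₀, ← hμW, map_one]⟩
    have h1 := congrArg (fun z => c • z) h
    simp only [← map_smul Φ, smul_comm c (α t₀), hc, hΦone] at h1
    obtain ⟨w, hw⟩ := exists_ne (0 : W)
    have h2 := LinearMap.congr_fun h1 w
    simp only [Module.End.one_apply, LinearMap.smul_apply] at h2
    exact (smul_left_injective F hw ((one_smul F w).trans h2)).symm
  have hT := fun {θ : F} (h1 : θ ^ r = 1) (h2 : θ ≠ 1) =>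
    finrank_eigenspace_one_of_monomial b Φ π α hΦb t₀ hπfix hα0 hr hπpow h1 h2
  let bE : Module.Basis (ι × ι) F (Module.End F W) :=
    (Matrix.stdBasis F ι ι).map (LinearMap.toMatrix bW bW).symm
  have hsrne : ∀ i, d i ≠ 0 := fun i h => by
    have := hdr i
    rw [h, zero_pow hr.ne_zero] at this
    exact zero_ne_one this
  have hbE : ∀ p, bE p = (bW.coord p.2).smulRight (bW p.1) := by
    intro p
    obtain ⟨i, j⟩ := p
    apply (LinearMap.toMatrix bW bW).injective
    simp only [bE, Module.Basis.map_apply, LinearEquiv.apply_symm_apply, Matrix.stdBasis_eq_single]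
    ext u w
    by_cases h1 : i = u <;> by_cases h2 : j = w <;>
      simp [LinearMap.toMatrix_apply, Matrix.single, Finsupp.single_apply, h1, h2, Ne.symm, eq_comm]
  have hΦE : ∀ p, Φ (bE p) = (d p.1 * (d p.2)⁻¹) • bE p := by
    intro p
    have hone : ∀ a, Φ a = s * a * s ^ (r - 1) := fun a => by
      rw [hsa, mul_assoc, ← pow_succ', Nat.sub_add_cancel hr.one_le, hsr, mul_one]
    have hspow : ∀ k, (s ^ (r - 1)) (bW k) = (d k)⁻¹ • bW k := by
      intro k
      have h : ∀ n : ℕ, (s ^ n) (bW k) = d k ^ n • bW k := fun n => by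
        induction n with
        | zero => simp
        | succ n ih => rw [pow_succ', Module.End.mul_apply, ih, map_smul, hd, smul_smul, pow_succ]
      rw [h]
      congr 1
      exact eq_inv_of_mul_eq_one_left (by rw [← pow_succ, Nat.sub_add_cancel hr.one_le, hdr])
    refine bW.ext fun k => ?_
    rw [hone, hbE]
    simp only [Module.End.mul_apply, hspow, map_smul, LinearMap.smulRight_apply, LinearMap.smul_apply, hd,
      Module.Basis.coord_apply, Module.Basis.repr_self]
    rw [Finsupp.single_apply]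
    split
    · next h => subst h; simp [smul_smul, mul_comm]
    · simp
  have hM : ∀ θ : F, Module.finrank F (Module.End.eigenspace Φ θ) =
      Fintype.card {p : ι × ι // d p.1 = θ * d p.2} := fun θ => by
    rw [finrank_eigenspace_of_basis_eigen bE Φ _ hΦE θ]
    exact Fintype.card_congr (Equiv.subtypeEquivRight fun p => mul_inv_eq_iff_eq_mul₀ (hsrne p.2))
  haveI : NeZero (r : F) := ⟨hrF⟩
  haveI : Fintype (rootsOfUnity r F) := Fintype.ofFinite _
  have hΓ : Fintype.card (rootsOfUnity r F) = r := by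
    rw [← Nat.card_eq_fintype_card]; exact HasEnoughRootsOfUnity.natCard_rootsOfUnity F r
  let d' : ι → rootsOfUnity r F := fun i => rootsOfUnity.mkOfPowEq (d i) (hdr i)
  let u₀ : rootsOfUnity r F := (rootsOfUnity.mkOfPowEq γ hγr)⁻¹
  have hd' : ∀ i, (((d' i : Fˣ)) : F) = d i := fun i => rfl
  have hιodd : Odd (Fintype.card ι) ∧ 1 < Fintype.card ι := by
    have h2 : Fintype.card ι * Fintype.card ι = Fintype.card (K ⧸ ZK) := by
      rw [← Fintype.card_prod, ← Module.finrank_eq_card_basis bE, Module.finrank_eq_card_basis b]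
    have hodd : Odd (Fintype.card (K ⧸ ZK)) := by
      rw [← Nat.card_eq_fintype_card]
      exact hKodd.of_dvd_nat (Subgroup.card_quotient_dvd_card ZK)
    refine ⟨(Nat.odd_mul.1 (h2 ▸ hodd)).1, ?_⟩
    by_contra hle
    have h1 : Fintype.card (K ⧸ ZK) ≤ 1 := h2 ▸ (Nat.mul_le_mul (not_lt.1 hle) (not_lt.1 hle)).trans (by norm_num)
    obtain ⟨k, hk, hkZ⟩ := SetLike.exists_of_lt (lt_of_le_of_ne hZK hne)
    have heq := (Fintype.card_le_one_iff.1 h1) ((⟨k, hk⟩ : K) : K ⧸ ZK) t₀
    rw [ht₀, eq_comm, QuotientGroup.eq, Subgroup.mem_subgroupOf] at heq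
    exact hkZ (by simpa using heq)
  refine false_of_ratio_count d' u₀ ?_ (hΓ.symm ▸ hr.odd_of_ne_two hr2) hιodd.1 hιodd.2 fun θ hθ => ?_
  · intro i h
    apply hmiss i
    rw [← hd', h]
    show ((((rootsOfUnity.mkOfPowEq γ hγr)⁻¹ : rootsOfUnity r F) : Fˣ) : F) * γ = 1
    rw [Subgroup.coe_inv]
    exact Units.inv_mul _
  · have hθr : (((θ : Fˣ)) : F) ^ r = 1 := by
      rw [← Units.val_pow_eq_pow_val, (mem_rootsOfUnity r _).1 θ.2, Units.val_one]
    have h := hT hθr (fun h => hθ (Subtype.ext (Units.ext h)))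
    rw [hM, hM] at h
    simp only [one_mul, Fintype.card_subtype] at h
    convert h using 2
    · exact Finset.filter_congr fun p _ => by rw [Subtype.ext_iff, Units.ext_iff, hd', hd']
    · refine congrArg Finset.card (Finset.filter_congr fun p _ => ?_)
      rw [Subtype.ext_iff, Units.ext_iff, Subgroup.coe_mul, Units.val_mul, hd', hd']

end main

end CfsgLib.OddOrder
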