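import Cfsg.Agent.OddOrder.BG3.NoFixedPoint
import Cfsg.Agent.OddOrder.BG3.KernelNilpotent
import Cfsg.Agent.Coprime.Abelian
import Mathlib.Algebra.Module.ZMod
import Mathlib.FieldTheory.IsAlgClosed.AlgebraicClosure
import Mathlib.LinearAlgebra.Matrix.ToLin

/-!
# BG 3.4: a fixed point free element of odd prime order on an odd solvable group with a coprime module
-/

set_option autoImplicit false
set_option linter.style.haveILetI false

namespace CfsgLib.OddOrder

open Subgroup

/-- Endomorphisms of a finite `ZMod ℓ`-module embed in matrices over the algebraic closure. -/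
theorem exists_ringHom_end_algClosure {A : Type*} [AddCommGroup A] [Finite A] (ℓ : ℕ)
    [Fact ℓ.Prime] [Module (ZMod ℓ) A] :
    ∃ (n : ℕ) (Θ : Module.End (ZMod ℓ) A →+*
      Module.End (AlgebraicClosure (ZMod ℓ)) (Fin n → AlgebraicClosure (ZMod ℓ))),
      Function.Injective Θ ∧ Nat.card A = ℓ ^ n :=
  ⟨_, (Matrix.toLinAlgEquiv').toRingEquiv.toRingHom.comp
      (((algebraMap (ZMod ℓ) (AlgebraicClosure (ZMod ℓ))).mapMatrix).comp
        (LinearMap.toMatrixAlgEquiv (Module.finBasis (ZMod ℓ) A)).toRingEquiv.toRingHom),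
    (Matrix.toLinAlgEquiv').injective.comp
      ((Matrix.map_injective (algebraMap (ZMod ℓ) (AlgebraicClosure (ZMod ℓ))).injective).comp
        (LinearMap.toMatrixAlgEquiv (Module.finBasis (ZMod ℓ) A)).injective),
    by rw [Module.natCard_eq_pow_finrank (K := ZMod ℓ), Nat.card_zmod]⟩

/-- A representation by endomorphisms of a finite abelian group of exponent `ℓ`, extended to the
algebraic closure of `ZMod ℓ`. -/
theorem exists_rep_algClosure_of_addEnd {X : Type*} [Monoid X] {A : Type*} [AddCommGroup A]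
    [Finite A] (ℓ : ℕ) [Fact ℓ.Prime] (hA : ∀ a : A, ℓ • a = 0) (f : X →* AddMonoid.End A) :
    ∃ (n : ℕ) (ρ : X →* Module.End (AlgebraicClosure (ZMod ℓ)) (Fin n → AlgebraicClosure (ZMod ℓ))),
      Nat.card A = ℓ ^ n ∧ (∀ x y, ρ x = ρ y → f x = f y) ∧ ∀ x : X, ∀ m : ℕ,
        (∀ a : A, ∑ i ∈ Finset.range m, f (x ^ i) a = 0) → ∑ i ∈ Finset.range m, ρ (x ^ i) = 0 := by
  haveI : Module (ZMod ℓ) A := AddCommGroup.zmodModule hA
  obtain ⟨n, Θ, hΘ, hn⟩ := exists_ringHom_end_algClosure (A := A) ℓ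
  let g₀ : X → Module.End (ZMod ℓ) A := fun x =>
    { toFun := fun a => f x a
      map_add' := fun a b => map_add (f x) a b
      map_smul' := fun c a => ZMod.map_smul (f x) c a }
  let g : X →* Module.End (ZMod ℓ) A :=
    { toFun := g₀
      map_one' := LinearMap.ext fun a => by
        show f 1 a = a
        rw [map_one]; rfl
      map_mul' := fun x y => LinearMap.ext fun a => by
        show f (x * y) a = f x (f y a)
        rw [map_mul]; rfl }
  refine ⟨n, Θ.toMonoidHom.comp g, hn, fun x y h => AddMonoidHom.ext fun a => ?_, fun x m hm => ?_⟩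
  · exact LinearMap.congr_fun (hΘ h) a
  · have h0 : ∑ i ∈ Finset.range m, g (x ^ i) = 0 := LinearMap.ext fun a => by
      rw [LinearMap.sum_apply, LinearMap.zero_apply]
      exact hm a
    show ∑ i ∈ Finset.range m, Θ (g (x ^ i)) = 0
    rw [← map_sum, h0, map_zero]

/-- A faithful action on a finite elementary abelian group, extended to an algebraically closed
field. -/
theorem exists_faithful_rep_algClosure {X : Type*} [Group X] {V : Type*} [CommGroup V] [Finite V]
    [MulDistribMulAction X V] (ℓ : ℕ) [Fact ℓ.Prime] (hV : ∀ v : V, v ^ ℓ = 1)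
    (hfaith : ∀ x : X, (∀ v : V, x • v = v) → x = 1) :
    ∃ (n : ℕ) (ρ : X →* Module.End (AlgebraicClosure (ZMod ℓ)) (Fin n → AlgebraicClosure (ZMod ℓ))),
      Function.Injective ρ ∧ ∀ x : X, ∀ m : ℕ,
        (∀ v : V, ∏ i ∈ Finset.range m, x ^ i • v = 1) → ∑ i ∈ Finset.range m, ρ (x ^ i) = 0 := by
  classical
  haveI : Finite (Additive V) := Finite.of_equiv V Additive.ofMul
  let f : X →* AddMonoid.End (Additive V) :=
    { toFun := fun x => MonoidHom.toAdditive (MulDistribMulAction.toMonoidHom V x)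
      map_one' := AddMonoidHom.ext fun v => congrArg Additive.ofMul (one_smul X (Additive.toMul v))
      map_mul' := fun x y =>
        AddMonoidHom.ext fun v => congrArg Additive.ofMul (mul_smul x y (Additive.toMul v)) }
  have hf : Function.Injective f := fun x y h => by
    rw [← inv_mul_eq_one]
    refine hfaith _ fun v => ?_
    have h' : x • v = y • v :=
      congrArg Additive.toMul (DFunLike.congr_fun h (Additive.ofMul v))
    rw [mul_smul, ← h', inv_smul_smul]
  obtain ⟨n, ρ, -, hρ, hsum⟩ := exists_rep_algClosure_of_addEnd (A := Additive V) ℓ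
    (fun a => hV (Additive.toMul a)) f
  exact ⟨n, ρ, fun x y h => hf (hρ x y h), fun x m hm => hsum x m fun v =>
    (ofMul_prod _ fun i => x ^ i • Additive.toMul v).symm.trans
      (congrArg Additive.ofMul (hm (Additive.toMul v)))⟩

section

variable {X : Type*} [Group X] [Finite X] {V : Type*} [CommGroup V] [Finite V]
  [MulDistribMulAction X V]

/-- An element of `R` generates it when `#R` is prime. -/
theorem zpowers_eq_of_card_prime {R : Subgroup X} (hR : (Nat.card R).Prime) {x : X} (hx : x ∈ R)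
    (hx1 : x ≠ 1) : zpowers x = R :=
  Subgroup.eq_of_le_of_card_ge (zpowers_le.2 hx) (by
    rcases (Nat.dvd_prime hR).1 (Subgroup.card_dvd_of_le (zpowers_le.2 hx)) with h | h
    · exact absurd (zpowers_eq_bot.1 (Subgroup.card_eq_one.1 h)) hx1
    · rw [h])

/-- BG 3.4, core of the induction: `K` is a nonabelian `q`-group, all proper invariant subgroups of
which are centralized by `R`. -/
theorem false_of_minimal_rfix0 (ℓ : ℕ) [Fact ℓ.Prime] (hV : ∀ v : V, v ^ ℓ = 1)
    (hfaith : ∀ g : X, (∀ v : V, g • v = v) → g = 1) {K R : Subgroup X}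
    (hRK : R ≤ normalizer (K : Set X)) (hr : (Nat.card R).Prime) (hr2 : Nat.card R ≠ 2)
    (hrl : Nat.card R ≠ ℓ) (hKodd : Odd (Nat.card K)) (hKl : (Nat.card K).Coprime ℓ)
    (hKr : (Nat.card R).Coprime (Nat.card K))
    (hK' : ⁅K, K⁆ < K) (hnab : ⁅K, K⁆ ≠ ⊥) (heq : ⁅K, R⁆ = K)
    (hsub : ∀ L : Subgroup X, L < K → R ≤ normalizer (L : Set X) → ⁅L, R⁆ = ⊥)
    (hfix : ∀ v : V, (∀ g ∈ R, g • v = v) → v = 1) : False := by
  classical
  set r := Nat.card R with hrdef
  have hconjR : ∀ g ∈ R, ∀ k ∈ K, g * k * g⁻¹ ∈ K := fun g hg k hk =>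
    (mem_normalizer_iff.1 (hRK hg) k).1 hk
  have hcent : ∀ {L : Subgroup X}, ⁅L, R⁆ = ⊥ → ∀ g ∈ R, ∀ k ∈ L, g * k = k * g :=
    fun hL g hg k hk => (mem_centralizer_iff.1 (commutator_eq_bot_iff_le_centralizer.1 hL hk)) g hg
  set C : Subgroup X := K ⊓ centralizer (R : Set X) with hC
  set D : Subgroup X := K ⊓ centralizer (K : Set X) with hD
  have hK'R : ⁅⁅K, K⁆, R⁆ = ⊥ :=
    hsub _ hK' fun g hg => mem_normalizer_iff_map_conj_eq.2 (by
      rw [map_commutator, mem_normalizer_iff_map_conj_eq.1 (hRK hg)])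
  have hKK' : ⁅⁅K, K⁆, K⁆ = ⊥ := by
    have h1 : ⁅⁅R, ⁅K, K⁆⁆, K⁆ = ⊥ := by
      rw [commutator_comm R, hK'R, commutator_bot_left]
    have h2 : ⁅⁅⁅K, K⁆, K⁆, R⁆ = ⊥ :=
      le_bot_iff.1 ((commutator_mono (commutator_mono hK'.le le_rfl) le_rfl).trans hK'R.le)
    have h := commutator_commutator_eq_bot_of_rotate (H₁ := K) (H₂ := R) (H₃ := ⁅K, K⁆) h1 h2
    rwa [heq, commutator_comm] at h
  have hCD : C ≤ D := by
    refine le_inf inf_le_left ?_
    have h1 : ⁅⁅R, C⁆, K⁆ = ⊥ := by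
      rw [commutator_comm R, commutator_eq_bot_iff_le_centralizer.2 (inf_le_right : C ≤ _),
        commutator_bot_left]
    have h2 : ⁅⁅C, K⁆, R⁆ = ⊥ :=
      le_bot_iff.1 ((commutator_mono (commutator_mono inf_le_left le_rfl) le_rfl).trans hK'R.le)
    have h := commutator_commutator_eq_bot_of_rotate (H₁ := K) (H₂ := R) (H₃ := C) h1 h2
    rw [heq, commutator_comm, commutator_eq_bot_iff_le_centralizer] at h
    exact h
  have hDK : D < K := by
    refine lt_of_le_of_ne inf_le_left fun h => hnab ?_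
    rw [commutator_eq_bot_iff_le_centralizer]
    exact h.symm.le.trans inf_le_right
  have hDR : ⁅D, R⁆ = ⊥ := hsub _ hDK (le_normalizer_iff.2 fun g hg k hk => by
    refine ⟨hconjR g hg k hk.1, mem_centralizer_iff.2 fun y hy => ?_⟩
    have hy' : g⁻¹ * y * g ∈ K := by simpa using hconjR g⁻¹ (inv_mem hg) y hy
    have h := mem_centralizer_iff.1 hk.2 _ hy'
    calc y * (g * k * g⁻¹) = g * ((g⁻¹ * y * g) * k) * g⁻¹ := by group
      _ = g * (k * (g⁻¹ * y * g)) * g⁻¹ := by rw [h]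
      _ = g * k * g⁻¹ * y := by group)
  have hcommD : ∀ a ∈ K, ∀ b ∈ K, a * b * a⁻¹ * b⁻¹ ∈ D := fun a ha b hb => by
    have h : a * b * a⁻¹ * b⁻¹ ∈ ⁅K, K⁆ := by
      rw [← commutatorElement_def]; exact commutator_mem_commutator ha hb
    exact ⟨hK'.le h, commutator_eq_bot_iff_le_centralizer.1 hKK' h⟩
  obtain ⟨x, hxR, hx1⟩ := (bot_or_exists_ne_one R).resolve_left (fun h => hr.ne_one (by
    rw [hrdef, h, card_bot]))
  have hgen := zpowers_eq_of_card_prime hr hxR hx1
  have hord : orderOf x = r := by rw [← Nat.card_zpowers, hgen]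
  have hxr : x ^ r = 1 := hord ▸ pow_orderOf_eq_one x
  have hfixx : ∀ v : V, x • v = v → v = 1 := fun v hv => hfix v fun g hg => by
    rw [← hgen] at hg
    exact (show zpowers x ≤ MulAction.stabilizer X v from zpowers_le.2 hv) hg
  -- the linear representation
  obtain ⟨n, ρ, hρinj, hρsum⟩ := exists_faithful_rep_algClosure (V := V) ℓ hV hfaith
  have hsum0 : ∑ i ∈ Finset.range r, ρ (x ^ i) = 0 := hρsum x r fun v => hfixx _ (by
    rw [Finset.smul_prod']
    simp only [← mul_smul, ← pow_succ']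
    have e := Finset.prod_range_succ' (fun i => x ^ i • v) r
    rw [Finset.prod_range_succ] at e
    simp only [hxr, pow_zero, one_smul] at e
    exact (mul_right_cancel e).symm)
  obtain ⟨z₀, hz₀, hz₀1⟩ := (bot_or_exists_ne_one ⁅K, K⁆).resolve_left hnab
  haveI : NeZero (orderOf z₀) := ⟨(orderOf_pos z₀).ne'⟩
  have hz₀F : (orderOf z₀ : AlgebraicClosure (ZMod ℓ)) ≠ 0 := by
    rw [Ne, CharP.cast_eq_zero_iff _ ℓ]
    intro h
    have h1 : ℓ ∣ Nat.card K := h.trans (Subgroup.orderOf_dvd_natCard K (hK'.le hz₀))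
    exact (Fact.out : ℓ.Prime).not_dvd_one (hKl ▸ Nat.dvd_gcd h1 dvd_rfl)
  obtain ⟨ι, hι, b, d, hd, -⟩ := exists_eigen_basis_of_pow_eq_one (s := ρ z₀) hz₀F
    (by rw [← map_pow, pow_orderOf_eq_one, map_one])
  obtain ⟨i₀, hi₀⟩ : ∃ i, d i ≠ 1 := by
    by_contra hall
    push Not at hall
    exact hz₀1 (hρinj (by rw [map_one]; exact b.ext fun i => by simp [hd, hall]))
  set Y : Subgroup X := K ⊔ R with hY
  have hKY : K ≤ Y := le_sup_left
  have hRY : R ≤ Y := le_sup_right
  have hz₀Y : ∀ y ∈ Y, y * z₀ = z₀ * y := by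
    intro y hy
    have : Y ≤ centralizer ({z₀} : Set X) := sup_le
      (fun k hk => mem_centralizer_iff.2 fun w hw => by
        rw [Set.mem_singleton_iff.1 hw]
        exact ((mem_centralizer_iff.1 (commutator_eq_bot_iff_le_centralizer.1 hKK' hz₀)) k hk).symm)
      (fun g hg => mem_centralizer_iff.2 fun w hw => by
        rw [Set.mem_singleton_iff.1 hw]; exact (hcent hK'R g hg z₀ hz₀).symm)
    exact (mem_centralizer_iff.1 (this hy) z₀ rfl).symm
  let E : Submodule (AlgebraicClosure (ZMod ℓ)) (Fin n → AlgebraicClosure (ZMod ℓ)) :=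
    Module.End.eigenspace (ρ z₀) (d i₀)
  have hE0 : E ≠ ⊥ := fun h => by
    have : b i₀ ∈ E := Module.End.mem_eigenspace_iff.2 (hd i₀)
    rw [h, Submodule.mem_bot] at this
    exact b.ne_zero i₀ this
  have hEinv : ∀ y ∈ Y, ∀ u ∈ E, ρ y u ∈ E := fun y hy u hu => by
    rw [Module.End.mem_eigenspace_iff] at hu ⊢
    rw [← Module.End.mul_apply, ← map_mul, ← hz₀Y y hy, map_mul, Module.End.mul_apply, hu, map_smul]
  obtain ⟨M₁, ⟨hM0, hMle, hMinv⟩, hMmin⟩ := (wellFounded_lt
      (α := Submodule (AlgebraicClosure (ZMod ℓ)) (Fin n → AlgebraicClosure (ZMod ℓ)))).has_min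
    {U | U ≠ ⊥ ∧ U ≤ E ∧ ∀ y ∈ Y, ∀ u ∈ U, ρ y u ∈ U} ⟨E, hE0, le_rfl, hEinv⟩
  haveI : Nontrivial M₁ := Submodule.nontrivial_iff_ne_bot.2 hM0
  let ρ₁ : Y →* Module.End (AlgebraicClosure (ZMod ℓ)) M₁ :=
    { toFun := fun y => (ρ y).restrict (hMinv y y.2)
      map_one' := LinearMap.ext fun w => Subtype.ext (by simp)
      map_mul' := fun a c => LinearMap.ext fun w => Subtype.ext (by simp) }
  have hscal : ∀ z : Y, (∀ y : Y, y * z = z * y) → ∃ c : AlgebraicClosure (ZMod ℓ), ρ₁ z = c • 1 := by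
    intro z hz
    obtain ⟨μ, hμ⟩ := Module.End.exists_eigenvalue (ρ₁ z)
    refine ⟨μ, ?_⟩
    set U := (Module.End.eigenspace (ρ₁ z) μ).map M₁.subtype with hU
    have hUeq : U = M₁ := by
      by_contra hne
      refine hMmin U ⟨?_, (Submodule.map_subtype_le _ _).trans hMle, ?_⟩
        (lt_of_le_of_ne (Submodule.map_subtype_le _ _) hne)
      · intro h
        exact hμ (Submodule.map_injective_of_injective M₁.injective_subtype
          (h.trans (Submodule.map_bot _).symm))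
      · rintro y hy _ ⟨u, hu, rfl⟩
        refine ⟨ρ₁ ⟨y, hy⟩ u, ?_, rfl⟩
        rw [SetLike.mem_coe, Module.End.mem_eigenspace_iff] at hu ⊢
        rw [← Module.End.mul_apply, ← map_mul, ← hz ⟨y, hy⟩, map_mul, Module.End.mul_apply, hu,
          map_smul]
    refine LinearMap.ext fun w => ?_
    have hw : (w : Fin n → AlgebraicClosure (ZMod ℓ)) ∈ U := hUeq.symm ▸ w.2
    obtain ⟨u, hu, huw⟩ := hw
    rw [← M₁.injective_subtype huw, Module.End.mem_eigenspace_iff.1 hu]
    simp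
  -- nondegeneracy
  have hnd : ∀ k : Y, (k : X) ∈ K → (k : X) ∉ D →
      ∃ y : Y, (y : X) ∈ K ∧ ρ₁ (y * k * y⁻¹ * k⁻¹) ≠ 1 := by
    intro k hk hkD
    by_contra hall
    push Not at hall
    have hcm : ∀ a : Y, (a : X) ∈ K → ∀ c : Y, (c : X) ∈ K →
        ∀ t : Y, (a * c * a⁻¹ * c⁻¹) * t = t * (a * c * a⁻¹ * c⁻¹) := by
      intro a ha c hc t
      have hm : (a : X) * c * (a : X)⁻¹ * (c : X)⁻¹ ∈ D := hcommD _ ha _ hc
      apply Subtype.ext
      have : Y ≤ centralizer ({(a : X) * c * (a : X)⁻¹ * (c : X)⁻¹} : Set X) := sup_le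
        (fun u hu => mem_centralizer_iff.2 fun w hw => by
          rw [Set.mem_singleton_iff.1 hw]; exact ((mem_centralizer_iff.1 hm.2) u hu).symm)
        (fun g hg => mem_centralizer_iff.2 fun w hw => by
          rw [Set.mem_singleton_iff.1 hw]; exact (hcent hDR g hg _ hm).symm)
      simpa using mem_centralizer_iff.1 (this t.2) _ rfl
    let P : Subgroup X :=
      { carrier := {u | ∃ hu : u ∈ K, ∀ y : Y, (y : X) ∈ K →
          ρ₁ (y * ⟨u, hKY hu⟩ * y⁻¹ * (⟨u, hKY hu⟩ : Y)⁻¹) = 1}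
        one_mem' := ⟨one_mem K, fun y _ => by
          rw [show (⟨(1 : X), _⟩ : Y) = 1 from rfl]; simp⟩
        mul_mem' := by
          rintro u w ⟨hu, hu'⟩ ⟨hw, hw'⟩
          refine ⟨K.mul_mem hu hw, fun y hy => ?_⟩
          set u' : Y := ⟨u, hKY hu⟩
          set w' : Y := ⟨w, hKY hw⟩
          rw [show (⟨u * w, _⟩ : Y) = u' * w' from rfl,
            show y * (u' * w') * y⁻¹ * (u' * w')⁻¹ =
              (y * u' * y⁻¹ * u'⁻¹) * (u' * ((y * w' * y⁻¹ * w'⁻¹) * u'⁻¹)) by group,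
            hcm y hy w' hw u'⁻¹, mul_inv_cancel_left, map_mul, hu' y hy, hw' y hy, one_mul]
        inv_mem' := by
          rintro u ⟨hu, hu'⟩
          refine ⟨K.inv_mem hu, fun y hy => ?_⟩
          set u' : Y := ⟨u, hKY hu⟩
          rw [show (⟨u⁻¹, _⟩ : Y) = u'⁻¹ from rfl,
            show y * u'⁻¹ * y⁻¹ * u'⁻¹⁻¹ = u'⁻¹ * ((y * u' * y⁻¹ * u'⁻¹)⁻¹ * u') by group,
            map_mul, map_mul]
          have h1 : ρ₁ (y * u' * y⁻¹ * u'⁻¹)⁻¹ = 1 := by
            have e : ρ₁ ((y * u' * y⁻¹ * u'⁻¹)⁻¹ * (y * u' * y⁻¹ * u'⁻¹)) = 1 := by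
              rw [inv_mul_cancel, map_one]
            rwa [map_mul, hu' y hy, mul_one] at e
          rw [h1, one_mul, ← map_mul, inv_mul_cancel, map_one] }
    have hPK : P ≤ K := fun u hu => hu.1
    have hkP : (k : X) ∈ P := ⟨hk, fun y hy => hall y hy⟩
    rcases hPK.lt_or_eq with hlt | hPeq
    · have hPR : ⁅P, R⁆ = ⊥ := hsub _ hlt (le_normalizer_iff.2 fun g hg u ⟨hu, hu'⟩ =>
        ⟨hconjR g hg u hu, fun y hy => by
          set g' : Y := ⟨g, hRY hg⟩
          set u' : Y := ⟨u, hKY hu⟩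
          have hy' : ((g'⁻¹ * y * g' : Y) : X) ∈ K := by
            have := hconjR g⁻¹ (inv_mem hg) y hy
            simpa [g'] using this
          have h := hu' _ hy'
          rw [show (⟨g * u * g⁻¹, _⟩ : Y) = g' * u' * g'⁻¹ from rfl,
            show y * (g' * u' * g'⁻¹) * y⁻¹ * (g' * u' * g'⁻¹)⁻¹ =
              g' * ((g'⁻¹ * y * g') * u' * (g'⁻¹ * y * g')⁻¹ * u'⁻¹ * g'⁻¹) by group,
            hcm _ hy' _ hu, mul_inv_cancel_left]
          exact h⟩)
      exact hkD (hCD ⟨hk, commutator_eq_bot_iff_le_centralizer.1 hPR hkP⟩)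
    · have hle : ⁅K, K⁆ ≤ ρ₁.ker.map Y.subtype := commutator_le.2 fun a ha c hc => by
        rw [commutatorElement_def]
        obtain ⟨hc', h⟩ : c ∈ P := hPeq.symm ▸ hc
        exact ⟨⟨a, hKY ha⟩ * ⟨c, hKY hc'⟩ * (⟨a, hKY ha⟩ : Y)⁻¹ *
          (⟨c, hKY hc'⟩ : Y)⁻¹, MonoidHom.mem_ker.2 (h ⟨a, hKY ha⟩ ha), rfl⟩
      obtain ⟨z, hz, hzeq⟩ := hle hz₀
      obtain ⟨w, hw⟩ := exists_ne (0 : M₁)
      apply hi₀
      have h1 := congrArg (fun m : M₁ => (m : Fin n → AlgebraicClosure (ZMod ℓ)))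
        (LinearMap.congr_fun (MonoidHom.mem_ker.1 hz) w)
      have h2 : ρ (z : X) (w : Fin n → AlgebraicClosure (ZMod ℓ)) = d i₀ • (w : Fin n → AlgebraicClosure (ZMod ℓ)) := by
        rw [show ((z : Y) : X) = z₀ from hzeq]; exact Module.End.mem_eigenspace_iff.1 (hMle w.2)
      exact smul_left_injective _ (show (w : Fin n → AlgebraicClosure (ZMod ℓ)) ≠ 0 by simpa using hw)
        (h2.symm.trans (h1.trans (one_smul _ _).symm))
  let x' : Y := ⟨x, hRY hxR⟩
  have hxD : ∀ z ∈ D, x * z = z * x := hcent hDR x hxR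
  refine false_of_free_action_no_fixed_point ρ₁ (K.subgroupOf Y) (D.subgroupOf Y) x' hr hr2 ?_
    (Subtype.ext hxr) ?_ ?_ ?_ ?_ ?_ ?_ ?_ ?_ ?_ ?_
  · rw [Ne, CharP.cast_eq_zero_iff _ ℓ, Nat.prime_dvd_prime_iff_eq Fact.out hr]
    exact Ne.symm hrl
  · refine LinearMap.ext fun w => Subtype.ext ?_
    have h := LinearMap.congr_fun hsum0 (w : Fin n → AlgebraicClosure (ZMod ℓ))
    rw [LinearMap.sum_apply] at h
    rw [LinearMap.sum_apply, Submodule.coe_sum]
    exact h
  · intro k hk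
    exact mem_subgroupOf.2 (hconjR x hxR _ (mem_subgroupOf.1 hk))
  · exact fun k hk => mem_subgroupOf.2 (inf_le_left (b := centralizer (K : Set X)) (mem_subgroupOf.1 hk))
  · intro h
    apply hDK.ne
    have h' := congrArg (Subgroup.map Y.subtype) h
    rwa [subgroupOf_map_subtype, subgroupOf_map_subtype, inf_of_le_left (hDK.le.trans le_sup_left),
      inf_of_le_left le_sup_left] at h'
  · rwa [Nat.card_congr (subgroupOfEquivOfLe (le_sup_left : K ≤ Y)).toEquiv]
  · intro a ha c hc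
    exact mem_subgroupOf.2 (hcommD _ (mem_subgroupOf.1 ha) _ (mem_subgroupOf.1 hc))
  · intro z hz
    refine hscal z fun y => Subtype.ext ?_
    have hzD := mem_subgroupOf.1 hz
    have : Y ≤ centralizer ({(z : X)} : Set X) := sup_le
      (fun u hu => mem_centralizer_iff.2 fun w hw => by
        rw [Set.mem_singleton_iff.1 hw]; exact ((mem_centralizer_iff.1 hzD.2) u hu).symm)
      (fun g hg => mem_centralizer_iff.2 fun w hw => by
        rw [Set.mem_singleton_iff.1 hw]; exact (hcent hDR g hg _ hzD).symm)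
    exact (mem_centralizer_iff.1 (this y.2) _ rfl).symm
  · intro z hz
    exact Subtype.ext (hxD _ (mem_subgroupOf.1 hz))
  · intro k hk h
    rw [mem_subgroupOf] at hk h ⊢
    set z : X := (k : X)⁻¹ * (x * k * x⁻¹) with hz
    have hzD : z ∈ D := h
    have hk' : x * (k : X) * x⁻¹ = k * z := by rw [hz, mul_inv_cancel_left]
    have hiter : ∀ m : ℕ, x ^ m * (k : X) * (x ^ m)⁻¹ = k * z ^ m := by
      intro m
      induction m with
      | zero => simp
      | succ m ih =>
        calc x ^ (m + 1) * (k : X) * (x ^ (m + 1))⁻¹ = x * (x ^ m * k * (x ^ m)⁻¹) * x⁻¹ := by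
              rw [pow_succ']; group
          _ = (x * k * x⁻¹) * (x * z ^ m * x⁻¹) := by rw [ih]; group
          _ = k * z * z ^ m := by rw [hk', hxD _ (pow_mem hzD m), mul_inv_cancel_right]
          _ = k * z ^ (m + 1) := by rw [pow_succ', mul_assoc]
    have hzr : z ^ r = 1 := by
      have := hiter r
      rw [hxr] at this
      simpa using this
    have hz1 : z = 1 := by
      rw [← orderOf_eq_one_iff]
      exact Nat.dvd_one.1 (hKr ▸ Nat.dvd_gcd (orderOf_dvd_of_pow_eq_one hzr)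
        (Subgroup.orderOf_dvd_natCard K hzD.1))
    rw [hz1, mul_one] at hk'
    refine hCD ⟨hk, mem_centralizer_iff.2 fun g hg => ?_⟩
    have : zpowers x ≤ centralizer ({(k : X)} : Set X) := zpowers_le.2 (mem_centralizer_iff.2
      fun w hw => by rw [Set.mem_singleton_iff.1 hw]; exact (mul_inv_eq_iff_eq_mul.1 hk').symm)
    exact (mem_centralizer_iff.1 (this (hgen.symm ▸ hg)) _ rfl).symm
  · intro k hk hkD
    obtain ⟨y, hy, h⟩ := hnd k (mem_subgroupOf.1 hk) fun h => hkD (mem_subgroupOf.2 h)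
    exact ⟨y, mem_subgroupOf.2 hy, h⟩

/-- BG 3.4 for a faithful action. -/
theorem commutator_eq_bot_of_faithful_rfix0 (ℓ : ℕ) [Fact ℓ.Prime] (hV : ∀ v : V, v ^ ℓ = 1)
    (hfaith : ∀ g : X, (∀ v : V, g • v = v) → g = 1) {K R : Subgroup X}
    (hsolv : Group.IsSolvable K) (hRK : R ≤ normalizer (K : Set X)) (hr : (Nat.card R).Prime)
    (hr2 : Nat.card R ≠ 2) (hrl : Nat.card R ≠ ℓ) (hKodd : Odd (Nat.card K))
    (hKl : (Nat.card K).Coprime ℓ) (hKr : (Nat.card R).Coprime (Nat.card K))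
    (hfix : ∀ v : V, (∀ g ∈ R, g • v = v) → v = 1) : ⁅K, R⁆ = ⊥ := by
  induction K using WellFoundedLT.induction with
  | _ K ih =>
  have hLK : ⁅K, R⁆ ≤ K := Coprime.commutator_le_of_le_normalizer hRK
  have key : ∀ L : Subgroup X, L < K → R ≤ normalizer (L : Set X) → ⁅L, R⁆ = ⊥ := fun L hL hRL =>
    ih L hL (Group.isSolvable_of_isSolvable_injective (inclusion_injective hL.le)) hRL
      (hKodd.of_dvd_nat (card_dvd_of_le hL.le)) (hKl.coprime_dvd_left (card_dvd_of_le hL.le))
      (hKr.coprime_dvd_right (card_dvd_of_le hL.le))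
  rcases hLK.lt_or_eq with hlt | heq
  · rw [← Coprime.commutator_commutator_eq hRK hKr]
    exact key _ hlt ((le_sup_right).trans (Coprime.sup_le_normalizer_commutator K R))
  by_contra hne
  rw [heq] at hne
  haveI := hsolv
  have hK'K : ⁅K, K⁆ ≤ K := commutator_le_self K
  have hK'lt : ⁅K, K⁆ < K := by
    haveI : Nontrivial K := (nontrivial_iff_ne_bot K).2 hne
    have h' : (_root_.commutator K).map K.subtype ≠ K := fun h' =>
      (Group.IsSolvable.commutator_lt_top_of_nontrivial (G := K)).ne (map_injective K.subtype_injective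
        (by rw [h', ← MonoidHom.range_eq_map, range_subtype]))
    rw [map_subtype_commutator] at h'
    exact lt_of_le_of_ne hK'K h'
  by_cases hab : ⁅K, K⁆ = ⊥
  · -- abelian: Frobenius
    haveI : IsMulCommutative K := ⟨⟨fun a c => Subtype.ext
      ((mem_centralizer_iff.1 (commutator_eq_bot_iff_le_centralizer.1 hab a.2)) c c.2).symm⟩⟩
    have hC : K ⊓ centralizer (R : Set X) = ⊥ := by
      have := Coprime.inf_centralizer_inf_commutator_eq_bot hRK hKr
      rw [heq, inf_right_comm, inf_idem] at this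
      exact this
    apply hne
    rw [eq_bot_iff]
    intro k hk
    rw [mem_bot]
    refine hfaith k fun v => smul_eq_self_of_frobenius K R hRK ?_ ?_ hfix hk v
    · intro g hg hg1 m hm hcomm
      have : m ∈ K ⊓ centralizer (R : Set X) := by
        refine ⟨hm, ?_⟩
        rw [← zpowers_eq_of_card_prime hr hg hg1]
        refine mem_centralizer_iff.2 fun y hy => ?_
        have hle : zpowers g ≤ centralizer ({m} : Set X) := zpowers_le.2
          (mem_centralizer_iff.2 fun w hw => by rw [Set.mem_singleton_iff.1 hw]; exact hcomm)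
        exact (mem_centralizer_iff.1 (hle hy) m rfl).symm
      rwa [hC, mem_bot] at this
    · obtain ⟨n, hn⟩ := IsPGroup.iff_card.1 (show IsPGroup ℓ V from fun v => ⟨1, by simpa using hV v⟩)
      exact hn ▸ hKl.pow_right n
  · exact false_of_minimal_rfix0 ℓ hV hfaith hRK hr hr2 hrl hKodd hKl hKr hK'lt hab heq key hfix

/-- BG 3.4 for an action: `[K, R]` acts trivially. -/
theorem smul_eq_self_of_rfix0 (ℓ : ℕ) [Fact ℓ.Prime] (hV : ∀ v : V, v ^ ℓ = 1) {K R : Subgroup X}
    (hsolv : Group.IsSolvable K) (hRK : R ≤ normalizer (K : Set X)) (hr : (Nat.card R).Prime)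
    (hr2 : Nat.card R ≠ 2) (hrl : Nat.card R ≠ ℓ) (hKodd : Odd (Nat.card K))
    (hKl : (Nat.card K).Coprime ℓ) (hKr : (Nat.card R).Coprime (Nat.card K))
    (hfix : ∀ v : V, (∀ g ∈ R, g • v = v) → v = 1) {g : X} (hg : g ∈ ⁅K, R⁆) (v : V) :
    g • v = v := by
  let φ : X →* MulAut V := MulDistribMulAction.toMulAut X V
  letI : MulDistribMulAction φ.range V := MulDistribMulAction.compHom V φ.range.subtype
  have hφ : ∀ (y : X) (w : V), φ.rangeRestrict y • w = y • w := fun y w => rfl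
  by_cases hR1 : R.map φ.rangeRestrict = ⊥
  · have hv : v = 1 := hfix v fun y hy => by
      have h : φ.rangeRestrict y ∈ R.map φ.rangeRestrict := mem_map_of_mem _ hy
      rw [hR1, mem_bot] at h
      rw [← hφ, h, one_smul]
    rw [hv, smul_one]
  have hRc : Nat.card (R.map φ.rangeRestrict) = Nat.card R :=
    ((Nat.dvd_prime hr).1 (card_map_dvd R _)).resolve_left fun h => hR1 (Subgroup.card_eq_one.1 h)
  have hKd : Nat.card (K.map φ.rangeRestrict) ∣ Nat.card K := card_map_dvd K _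
  haveI := hsolv
  have hsolv' : Group.IsSolvable (K.map φ.rangeRestrict) :=
    Group.isSolvable_of_surjective (φ.rangeRestrict.subgroupMap_surjective K)
  have h := commutator_eq_bot_of_faithful_rfix0 (X := φ.range) (V := V) ℓ hV
    (fun y hy => Subtype.ext (MulEquiv.ext fun w => hy w))
    (K := K.map φ.rangeRestrict) (R := R.map φ.rangeRestrict) hsolv'
    ((map_mono hRK).trans (le_normalizer_map _)) (hRc.symm ▸ hr) (hRc.symm ▸ hr2) (hRc.symm ▸ hrl)
    (hKodd.of_dvd_nat hKd) (hKl.coprime_dvd_left hKd) (hRc.symm ▸ hKr.coprime_dvd_right hKd)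
    (fun w hw => hfix w fun y hy => hφ y w ▸ hw _ (mem_map_of_mem _ hy))
  rw [← map_commutator] at h
  have h1 : φ.rangeRestrict g ∈ (⁅K, R⁆).map φ.rangeRestrict := mem_map_of_mem _ hg
  rw [h, mem_bot] at h1
  rw [← hφ, h1, one_smul]

end

/-- BG 3.4: an odd solvable group `K R` (`#R` an odd prime) acting coprimely on an elementary
abelian `ℓ`-group `V` with `C_V(R) = 1` has `[K, R]` centralizing `V`. -/
theorem commutator_le_centralizer_of_rfix0 {X : Type*} [Group X] [Finite X] {K R V : Subgroup X}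
    (ℓ : ℕ) [Fact ℓ.Prime] (hV : Cfsg.IsElementaryAbelian ℓ V) (hsolv : Group.IsSolvable K)
    (hRK : R ≤ normalizer (K : Set X)) (hKV : K ≤ normalizer (V : Set X))
    (hRV : R ≤ normalizer (V : Set X)) (hr : (Nat.card R).Prime) (hr2 : Nat.card R ≠ 2)
    (hrl : Nat.card R ≠ ℓ) (hKodd : Odd (Nat.card K)) (hKl : (Nat.card K).Coprime ℓ)
    (hKr : (Nat.card R).Coprime (Nat.card K)) (hfix : V ⊓ centralizer (R : Set X) = ⊥) :
    ⁅K, R⁆ ≤ centralizer (V : Set X) := by
  letI : CommGroup V :=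
    { (inferInstance : Group V) with mul_comm := fun a b => hV.1.is_comm.comm a b }
  let N := normalizer (V : Set X)
  letI : MulDistribMulAction N V := MulDistribMulAction.compHom V (normalizerMonoidHom V)
  have hact : ∀ (n : N) (w : V), ((n • w : V) : X) = (n : X) * w * (n : X)⁻¹ := fun n w => rfl
  intro g hg
  rw [mem_centralizer_iff]
  intro v hv
  have hKe := Nat.card_congr (subgroupOfEquivOfLe hKV).toEquiv
  have hRe := Nat.card_congr (subgroupOfEquivOfLe hRV).toEquiv
  have hmap : ⁅K.subgroupOf N, R.subgroupOf N⁆.map N.subtype = ⁅K, R⁆ := by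
    rw [map_commutator, subgroupOf_map_subtype, subgroupOf_map_subtype, inf_of_le_left hKV,
      inf_of_le_left hRV]
  rw [← hmap] at hg
  obtain ⟨g', hg', rfl⟩ := hg
  have h := smul_eq_self_of_rfix0 (X := N) (V := V) ℓ (fun w => Subtype.ext (hV.2 w w.2))
    (K := K.subgroupOf N) (R := R.subgroupOf N) ?_ ?_ (by rw [hRe]; exact hr) (by rw [hRe]; exact hr2)
    (by rw [hRe]; exact hrl) (by rw [hKe]; exact hKodd) (by rw [hKe]; exact hKl)
    (by rw [hKe, hRe]; exact hKr) ?_ hg' ⟨v, hv⟩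
  · have h' := congrArg Subtype.val h
    rw [hact] at h'
    exact (mul_inv_eq_iff_eq_mul.1 h').symm
  · haveI := hsolv
    exact Group.isSolvable_of_isSolvable_injective (f := (subgroupOfEquivOfLe hKV).toMonoidHom)
      (subgroupOfEquivOfLe hKV).injective
  · intro y hy
    rw [mem_subgroupOf] at hy
    rw [mem_normalizer_iff]
    intro m
    simp only [mem_subgroupOf, Subgroup.coe_mul, Subgroup.coe_inv]
    exact mem_normalizer_iff.1 (hRK hy) m
  · intro w hw
    have hmem : (w : X) ∈ V ⊓ centralizer (R : Set X) :=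
      ⟨w.2, mem_centralizer_iff.2 fun y hy => by
        have h' := congrArg Subtype.val (hw ⟨y, hRV hy⟩ (mem_subgroupOf.2 hy))
        rw [hact] at h'
        exact mul_inv_eq_iff_eq_mul.1 h'⟩
    rw [hfix, mem_bot] at hmem
    exact Subtype.ext hmem

end CfsgLib.OddOrder
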