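import Cfsg.Agent.OddOrder.BG3.FrattiniReduce

/-!
# BG 3.5 for nilpotent modules, and BG 3.10
-/

set_option autoImplicit false
set_option linter.style.haveILetI false

namespace CfsgLib.OddOrder

open Subgroup

universe u

variable {X : Type u} [Group X] [Finite X]

/-- A cyclic group of exponent dividing `ℓ` has at most `ℓ` elements. -/
theorem card_le_of_isCyclic_of_pow {G : Type*} [Group G] [IsCyclic G] {ℓ : ℕ} (hℓ : 0 < ℓ)
    (h : ∀ g : G, g ^ ℓ = 1) : Nat.card G ≤ ℓ := by
  obtain ⟨g, hg⟩ := IsCyclic.exists_ofOrder_eq_natCard (α := G)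
  exact hg ▸ Nat.le_of_dvd hℓ (orderOf_dvd_of_pow_eq_one (h g))

/-- BG 3.5 for a coprime nilpotent group with cyclic fixed points. -/
theorem commutator_le_centralizer_nilpotent_of_isCyclic_fixed {K R M : Subgroup X}
    (hM : Group.IsNilpotent M) (hsolv : Group.IsSolvable K) (hRK : R ≤ normalizer (K : Set X))
    (hKM : K ≤ normalizer (M : Set X)) (hRM : R ≤ normalizer (M : Set X))
    (hr : (Nat.card R).Prime) (hKM' : (Nat.card K).Coprime (Nat.card M))
    (hRMc : (Nat.card R).Coprime (Nat.card M)) (hfixK : K ⊓ centralizer (R : Set X) = ⊥)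
    (hfix : IsCyclic ↥(M ⊓ centralizer (R : Set X))) :
    ⁅K, K⁆ ≤ centralizer (M : Set X) := by
  refine le_centralizer_of_forall_sylow fun p hp => ⟨Classical.arbitrary _, ?_⟩
  set P₀ : Sylow p M := Classical.arbitrary _
  set P : Subgroup X := (P₀ : Subgroup M).map M.subtype with hPdef
  have hPp : IsPGroup p P := P₀.2.map _
  have hKP := le_normalizer_sylow_of_nilpotent hM P₀ hKM
  have hRP := le_normalizer_sylow_of_nilpotent hM P₀ hRM
  by_cases hPb : P = ⊥
  · intro g _
    show g ∈ centralizer (P : Set X)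
    rw [hPb]
    exact mem_centralizer_iff.2 fun y hy => by simp [mem_bot.1 hy]
  have hpM : p ∣ Nat.card M := by
    obtain ⟨n, hn⟩ := IsPGroup.iff_card.1 hPp
    refine Dvd.dvd.trans ?_ (card_dvd_of_le (map_subtype_le (P₀ : Subgroup M)))
    rw [← hPdef, hn]
    exact dvd_pow_self p fun h0 => hPb (Subgroup.card_eq_one.1 (by rw [hn, h0, pow_zero]))
  have hKp : (Nat.card K).Coprime p := hKM'.coprime_dvd_right hpM
  have hRp : (Nat.card R).Coprime p := hRMc.coprime_dvd_right hpM
  have hKK : ⁅K, K⁆ ≤ K := Subgroup.commutator_le_self K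
  have hKr : (Nat.card R).Coprime (Nat.card K) := coprime_card_of_prime_fpf hRK hr hfixK
  refine le_centralizer_of_frattini_quotient hPp (hKK.trans hKP)
    (hKp.coprime_dvd_left (card_dvd_of_le hKK)) fun {Q} _ _ f hf hc hl => ?_
  let Y := normalizer (P : Set X)
  have hKe := Nat.card_congr (subgroupOfEquivOfLe hKP).toEquiv
  have hRe := Nat.card_congr (subgroupOfEquivOfLe hRP).toEquiv
  have hnR : R.subgroupOf Y ≤ normalizer (K.subgroupOf Y : Set Y) := by
    intro y hy
    rw [mem_normalizer_iff]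
    intro k
    simp only [mem_subgroupOf, Subgroup.coe_mul, Subgroup.coe_inv]
    exact mem_normalizer_iff.1 (hRK hy) k
  have hnP : ∀ A : Subgroup Y, A ≤ normalizer (P.subgroupOf Y : Set Y) := fun A y _ =>
    mem_normalizer_iff.2 fun k => by
      simp only [mem_subgroupOf, Subgroup.coe_mul, Subgroup.coe_inv]
      exact mem_normalizer_iff.1 y.2 k
  haveI := hsolv
  haveI : Group.IsSolvable (K.subgroupOf Y) := Group.isSolvable_of_isSolvable_injective
    (f := (subgroupOfEquivOfLe hKP).toMonoidHom) (subgroupOfEquivOfLe hKP).injective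
  have hfix' : (K.subgroupOf Y).map f ⊓
      centralizer (((R.subgroupOf Y).map f : Subgroup Q) : Set Q) = ⊥ := by
    rw [← Coprime.map_inf_centralizer f hnR ((hRe.symm ▸ hKr).coprime_dvd_right
        ((card_dvd_of_le inf_le_left).trans (dvd_of_eq hKe)))
      (Or.inr (Coprime.isSolvable_of_le (B := K.subgroupOf Y) inf_le_left)),
      show K.subgroupOf Y ⊓ centralizer (R.subgroupOf Y : Set Y) = ⊥ from ?_, Subgroup.map_bot]
    rw [eq_bot_iff]
    intro k hk
    have hk' : (k : X) ∈ K ⊓ centralizer (R : Set X) :=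
      ⟨hk.1, mem_centralizer_iff.2 fun y hy => congrArg Subtype.val
        (mem_centralizer_iff.1 hk.2 ⟨y, hRP hy⟩ hy)⟩
    rw [hfixK, mem_bot] at hk'
    exact mem_bot.2 (Subtype.ext hk')
  have hcomm : (⁅K, K⁆.subgroupOf Y).map f ≤ ⁅(K.subgroupOf Y).map f, (K.subgroupOf Y).map f⁆ := by
    rw [← map_commutator]
    refine map_mono fun g hg => ?_
    have he : ⁅K.subgroupOf Y, K.subgroupOf Y⁆.map Y.subtype = ⁅K, K⁆ := by
      rw [map_commutator, subgroupOf_map_subtype, inf_of_le_left hKP]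
    have hg' : (g : X) ∈ ⁅K.subgroupOf Y, K.subgroupOf Y⁆.map Y.subtype :=
      he.symm ▸ mem_subgroupOf.1 hg
    obtain ⟨g', hg', hge⟩ := hg'
    exact Y.subtype_injective hge ▸ hg'
  refine hcomm.trans ?_
  by_cases hRb : (R.subgroupOf Y).map f = ⊥
  · rw [hRb, show centralizer ((⊥ : Subgroup Q) : Set Q) = ⊤ from top_le_iff.1 fun x _ =>
      mem_centralizer_iff.2 fun s hs => by simp [mem_bot.1 hs], inf_top_eq] at hfix'
    rw [hfix', commutator_bot_left]
    exact bot_le
  have hRc : Nat.card ((R.subgroupOf Y).map f) = Nat.card R :=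
    ((Nat.dvd_prime hr).1 (hRe ▸ card_map_dvd (R.subgroupOf Y) f)).resolve_left fun h1 =>
      hRb (Subgroup.card_eq_one.1 h1)
  refine commutator_le_centralizer_of_card_fixed_le (X := Q) (R := (R.subgroupOf Y).map f) p hc hl
    (Group.isSolvable_of_surjective (f.subgroupMap_surjective _))
    ((map_mono hnR).trans (le_normalizer_map f)) ((map_mono (hnP _)).trans (le_normalizer_map f))
    ((map_mono (hnP _)).trans (le_normalizer_map f)) (hRc.symm ▸ hr) ?_
    (hKp.coprime_dvd_left (hKe ▸ card_map_dvd (K.subgroupOf Y) f)) hfix' ?_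
  · rw [hRc]
    exact fun h => hr.not_dvd_one (hRp ▸ Nat.dvd_gcd dvd_rfl (h ▸ dvd_rfl))
  · rw [card_fixed_map_le hPp hRP hRp f]
    haveI : IsCyclic ↥((P ⊓ centralizer (R : Set X)).subgroupOf Y) := by
      haveI := hfix
      have hle : P ⊓ centralizer (R : Set X) ≤ M ⊓ centralizer (R : Set X) :=
        inf_le_inf_right _ (map_subtype_le _)
      have hleY : P ⊓ centralizer (R : Set X) ≤ Y := inf_le_left.trans le_normalizer
      exact isCyclic_of_injective ((Subgroup.inclusion hle).comp (subgroupOfEquivOfLe hleY).toMonoidHom)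
        ((Subgroup.inclusion_injective hle).comp (subgroupOfEquivOfLe hleY).injective)
    haveI : IsCyclic ↥(((P ⊓ centralizer (R : Set X)).subgroupOf Y).map f) :=
      isCyclic_of_surjective _ (f.subgroupMap_surjective _)
    refine card_le_of_isCyclic_of_pow (Fact.out : p.Prime).pos fun g => Subtype.ext ?_
    obtain ⟨z, hz, hzg⟩ := g.2
    have hzP : (z : X) ∈ P ⊓ centralizer (R : Set X) := mem_subgroupOf.1 hz
    exact hl _ ⟨z, mem_subgroupOf.2 hzP.1, hzg⟩

omit [Finite X] in
/-- Centralizers in `M` of a cyclic subgroup and of its generator. -/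
theorem inf_centralizer_zpowers (M : Subgroup X) (x : X) :
    M ⊓ centralizer ((zpowers x : Subgroup X) : Set X) = M ⊓ centralizer ({x} : Set X) := by
  rw [zpowers_eq_closure, centralizer_closure]

/-- BG 3.10. -/
theorem prime_card_of_frobenius_action {K R M : Subgroup X} (hR1 : R ≠ ⊥) (hKR : K ⊓ R = ⊥)
    (hRK : R ≤ normalizer (K : Set X))
    (hfrob : ∀ r ∈ R, r ≠ 1 → K ⊓ centralizer ({r} : Set X) = ⊥)
    (hM1 : M ≠ ⊥) (hMn : Group.IsNilpotent M) (hKM : K ≤ normalizer (M : Set X))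
    (hRM : R ≤ normalizer (M : Set X)) (hcop : (Nat.card ↥(K ⊔ R)).Coprime (Nat.card M))
    (hCK : M ⊓ centralizer (K : Set X) = ⊥)
    (hpr : ∀ x ∈ R, x ≠ 1 →
      M ⊓ centralizer ({x} : Set X) = M ⊓ centralizer (R : Set X)) :
    (Nat.card R).Prime ∧ Nat.card M = Nat.card ↥(M ⊓ centralizer (R : Set X)) ^ Nat.card R := by
  haveI := hMn
  have hfpf : ∀ e ∈ R, e ≠ 1 → ∀ u ∈ K, e * u = u * e → u = 1 := fun e he he1 u hu h => by
    rw [← mem_bot, ← hfrob e he he1]
    exact ⟨hu, mem_centralizer_iff.2 fun y hy => by rw [Set.mem_singleton_iff.1 hy]; exact h⟩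
  have key : ∀ S : Subgroup X, S ≤ R → S ≠ ⊥ →
      Nat.card M = Nat.card ↥(M ⊓ centralizer (S : Set X)) ^ Nat.card S := by
    intro S hS hS1
    have hKS : K ⊓ S = ⊥ := le_bot_iff.1 ((inf_le_inf_left K hS).trans hKR.le)
    have h := frobenius_fixed_point_formula hKS (hS.trans hRK)
      (fun e he => hfpf e (hS he)) (sup_le hKM (hS.trans hRM))
      (inferInstance : Group.IsSolvable M)
      (hcop.coprime_dvd_left (card_dvd_of_le (sup_le_sup_left hS K)))
    rwa [le_bot_iff.1 ((inf_le_inf_left M (centralizer_le (SetLike.coe_subset_coe.2 le_sup_left))).trans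
      hCK.le), hCK, Subgroup.card_bot, one_pow, one_mul, mul_one] at h
  have hR := key R le_rfl hR1
  refine ⟨?_, hR⟩
  obtain ⟨p, hp, hpd⟩ := Nat.exists_prime_and_dvd fun h => hR1 (Subgroup.card_eq_one.1 h)
  haveI : Fact p.Prime := ⟨hp⟩
  obtain ⟨x, hx⟩ := exists_prime_orderOf_dvd_card' (G := R) p hpd
  rw [← Subgroup.orderOf_coe] at hx
  have hx1 : (x : X) ≠ 1 := fun h => by rw [h, orderOf_one] at hx; exact hp.one_lt.ne hx
  have h := key (zpowers (x : X)) (zpowers_le.2 x.2) (by simpa [zpowers_eq_bot] using hx1)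
  rw [inf_centralizer_zpowers, hpr x x.2 hx1, Nat.card_zpowers, hx, hR] at h
  have hC : 2 ≤ Nat.card ↥(M ⊓ centralizer (R : Set X)) := by
    by_contra hlt
    have h1 : Nat.card ↥(M ⊓ centralizer (R : Set X)) = 1 := by
      have := Nat.card_pos (α := ↥(M ⊓ centralizer (R : Set X)))
      omega
    rw [h1, one_pow] at hR
    exact hM1 (Subgroup.card_eq_one.1 hR)
  exact Nat.pow_right_injective hC h ▸ hp

end CfsgLib.OddOrder
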