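import Cfsg.Agent.OddOrder.BG3.IdempotentLift
import Cfsg.Agent.Coprime.Action
import Cfsg.Prelude.Def_CaseTheorems
import Cfsg.Prelude.Def_Local
import Mathlib.Algebra.Module.ZMod
import Mathlib.GroupTheory.Sylow

/-!
# Wielandt's fixed point formula

`G` acts coprimely on a solvable group `H`; if two combinations of sums over subgroups `S i` of `G`
agree, then so do the corresponding products of orders of `C_H (S i)`. The Frobenius group case
(BG 3.9 / Peterfalvi 9.1 style) follows.
-/

set_option autoImplicit false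
set_option linter.style.haveILetI false

namespace CfsgLib.OddOrder

open Subgroup

/-- Wielandt's formula for an action on an additive group of exponent `ℓ`. -/
theorem wielandt_addEnd {ℓ : ℕ} [Fact ℓ.Prime] {G : Type*} [Group G] [Finite G] {A : Type*}
    [AddCommGroup A] [Finite A] (hA : ∀ x : A, ℓ • x = 0) (f : G →* AddMonoid.End A)
    (hG : (Nat.card G).Coprime ℓ) {ι : Type*} [Fintype ι] (S : ι → Subgroup G)
    [∀ g i, Decidable (g ∈ S i)] (a b : ι → ℕ)
    (h : ∀ g : G, (∑ i, if g ∈ S i then a i else 0) = ∑ i, if g ∈ S i then b i else 0) :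
    ∏ i, Nat.card {x : A // ∀ g ∈ S i, f g x = x} ^ (a i * Nat.card (S i)) =
      ∏ i, Nat.card {x : A // ∀ g ∈ S i, f g x = x} ^ (b i * Nat.card (S i)) := by
  haveI : Module (ZMod ℓ) A := AddCommGroup.zmodModule hA
  let g₀ : G → Module.End (ZMod ℓ) A := fun x =>
    { toFun := fun a => f x a
      map_add' := fun a b => map_add (f x) a b
      map_smul' := fun c a => ZMod.map_smul (f x) c a }
  let ρ : G →* Module.End (ZMod ℓ) A :=
    { toFun := g₀
      map_one' := LinearMap.ext fun a => by
        show f 1 a = a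
        rw [map_one]; rfl
      map_mul' := fun x y => LinearMap.ext fun a => by
        show f (x * y) a = f x (f y a)
        rw [map_mul]; rfl }
  let W : ι → Submodule (ZMod ℓ) A := fun i => ⨅ g ∈ S i, LinearMap.ker (ρ g - 1)
  have hW : ∀ i x, x ∈ W i ↔ ∀ g ∈ S i, ρ g x = x := fun i x => by
    simp [W, Submodule.mem_iInf, LinearMap.sub_apply, sub_eq_zero]
  have hcard : ∀ i, Nat.card {x : A // ∀ g ∈ S i, f g x = x} =
      ℓ ^ Module.finrank (ZMod ℓ) (W i) := fun i => by
    rw [Nat.card_congr (Equiv.subtypeEquivRight (fun x => (hW i x).symm) :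
      {x : A // ∀ g ∈ S i, f g x = x} ≃ W i), Module.natCard_eq_pow_finrank (K := ZMod ℓ),
      Nat.card_zmod]
  simp only [hcard, ← pow_mul, Finset.prod_pow_eq_pow_sum]
  have := sum_finrank_fixed_eq ρ hG S a b h W hW
  simp only [mul_comm (Module.finrank (ZMod ℓ) _), this]

/-- Wielandt's formula for an elementary abelian group normalized by `G`. -/
theorem wielandt_elementary {X : Type*} [Group X] [Finite X] {ℓ : ℕ} [Fact ℓ.Prime]
    {G V : Subgroup X} (hVc : IsMulCommutative V) (hVl : ∀ v ∈ V, v ^ ℓ = 1)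
    (hGV : G ≤ normalizer (V : Set X)) (hG : (Nat.card G).Coprime ℓ) {ι : Type*} [Fintype ι]
    (S : ι → Subgroup X) [∀ g i, Decidable (g ∈ S i)] (hS : ∀ i, S i ≤ G) (a b : ι → ℕ)
    (h : ∀ g ∈ G, (∑ i, if g ∈ S i then a i else 0) = ∑ i, if g ∈ S i then b i else 0) :
    ∏ i, Nat.card ↥(V ⊓ centralizer (S i : Set X)) ^ (a i * Nat.card (S i)) =
      ∏ i, Nat.card ↥(V ⊓ centralizer (S i : Set X)) ^ (b i * Nat.card (S i)) := by
  classical
  letI : CommGroup V :=
    { (inferInstance : Group V) with mul_comm := fun x y => hVc.is_comm.comm x y }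
  haveI : Finite (Additive V) := Finite.of_equiv V Additive.ofMul
  let φ : G →* MulAut V := (normalizerMonoidHom V).comp (Subgroup.inclusion hGV)
  have hφ : ∀ (g : G) (v : V), ((φ g v : V) : X) = g * v * (g : X)⁻¹ := fun g v => rfl
  let f : G →* AddMonoid.End (Additive V) :=
    { toFun := fun g => MonoidHom.toAdditive (φ g).toMonoidHom
      map_one' := AddMonoidHom.ext fun v => congrArg Additive.ofMul (by
        show φ 1 (Additive.toMul v) = Additive.toMul v
        rw [map_one]; rfl)
      map_mul' := fun g g' => AddMonoidHom.ext fun v => congrArg Additive.ofMul (by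
        show φ (g * g') (Additive.toMul v) = φ g (φ g' (Additive.toMul v))
        rw [map_mul]; rfl) }
  have hcard : ∀ i, Nat.card {x : Additive V // ∀ g ∈ (S i).subgroupOf G, f g x = x} =
      Nat.card ↥(V ⊓ centralizer (S i : Set X)) := fun i => by
    refine Nat.card_congr
      { toFun := fun x => ⟨((Additive.toMul x.1 : V) : X), ⟨(Additive.toMul x.1).2, ?_⟩⟩
        invFun := fun v => ⟨Additive.ofMul ⟨v, v.2.1⟩, ?_⟩
        left_inv := fun x => rfl
        right_inv := fun v => rfl }
    · refine mem_centralizer_iff.2 fun s hs => ?_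
      have h1 := congrArg (fun y : Additive V => ((Additive.toMul y : V) : X))
        (x.2 ⟨s, hS i hs⟩ (mem_subgroupOf.2 hs))
      exact mul_inv_eq_iff_eq_mul.1 h1
    · intro g hg
      refine congrArg Additive.ofMul (Subtype.ext ?_)
      show (g : X) * v * (g : X)⁻¹ = v
      exact mul_inv_eq_iff_eq_mul.2 (mem_centralizer_iff.1 v.2.2 g (mem_subgroupOf.1 hg))
  have hS' : ∀ i, Nat.card ((S i).subgroupOf G) = Nat.card (S i) := fun i =>
    Nat.card_congr (subgroupOfEquivOfLe (hS i)).toEquiv
  have := wielandt_addEnd (A := Additive V) (ℓ := ℓ)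
    (fun x => Subtype.ext (hVl _ (Additive.toMul x).2)) f hG (fun i => (S i).subgroupOf G) a b
    fun g => by simpa only [mem_subgroupOf] using h g g.2
  simpa only [hcard, hS'] using this

/-- `|C_H(S)| = |C_N(S)| |C_{H/N}(S)|` for a coprime action. -/
theorem card_inf_centralizer_mul {X Y : Type*} [Group X] [Group Y] [Finite X] (f : X →* Y)
    {H S : Subgroup X} (hSH : S ≤ normalizer (H : Set X))
    (hcop : (Nat.card S).Coprime (Nat.card H)) (hsolv : Group.IsSolvable H) :
    Nat.card ↥(H ⊓ centralizer (S : Set X)) =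
      Nat.card ↥((H ⊓ f.ker) ⊓ centralizer (S : Set X)) *
        Nat.card ↥(H.map f ⊓ centralizer ((S.map f : Subgroup Y) : Set Y)) := by
  haveI := hsolv
  rw [← Coprime.map_inf_centralizer f hSH (hcop.coprime_dvd_right (card_dvd_of_le inf_le_left))
    (Or.inr (Coprime.isSolvable_of_le inf_le_left))]
  set K := H ⊓ centralizer (S : Set X)
  have h1 := relIndex_mul_relIndex (⊥ : Subgroup X) (f.ker ⊓ K) K bot_le inf_le_right
  rw [relIndex_bot_left, relIndex_bot_left, inf_relIndex_right, relIndex_ker] at h1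
  have h2 : f.ker ⊓ K = H ⊓ f.ker ⊓ centralizer (S : Set X) := by
    rw [← inf_assoc, inf_comm f.ker H]
  rw [← h1, h2]

/-- Wielandt's fixed point formula. -/
theorem wielandt_fixed_point {X : Type*} [Group X] [Finite X] {G H : Subgroup X}
    (hsolv : Group.IsSolvable H) (hGH : G ≤ normalizer (H : Set X))
    (hcop : (Nat.card G).Coprime (Nat.card H)) {ι : Type*} [Fintype ι]
    (S : ι → Subgroup X) [∀ g i, Decidable (g ∈ S i)] (hS : ∀ i, S i ≤ G) (a b : ι → ℕ)
    (h : ∀ g ∈ G, (∑ i, if g ∈ S i then a i else 0) = ∑ i, if g ∈ S i then b i else 0) :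
    ∏ i, Nat.card ↥(H ⊓ centralizer (S i : Set X)) ^ (a i * Nat.card (S i)) =
      ∏ i, Nat.card ↥(H ⊓ centralizer (S i : Set X)) ^ (b i * Nat.card (S i)) := by
  classical
  induction hm : Nat.card H using Nat.strong_induction_on generalizing X with
  | _ m ih =>
    by_cases hH1 : H = ⊥
    · subst hH1
      simp
    haveI := hsolv
    haveI : Nontrivial H := (Subgroup.nontrivial_iff_ne_bot H).2 hH1
    -- either `H` is elementary abelian, or it has a proper nontrivial invariant normal subgroup
    by_cases hN : ∃ N : Subgroup X, N < H ∧ N ≠ ⊥ ∧ H ≤ normalizer (N : Set X) ∧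
        G ≤ normalizer (N : Set X)
    swap
    · push Not at hN
      have hHH : ⁅H, H⁆ = ⊥ := by
        by_contra hne
        refine hN ⁅H, H⁆ ?_ hne ((le_inf le_normalizer le_normalizer).trans ?_) ?_
        · refine lt_of_le_of_ne (Subgroup.commutator_le_self H) fun heq => ?_
          have h1 := Group.IsSolvable.commutator_lt_of_ne_bot (G := H) (H := ⊤) top_ne_bot
          rw [← SetLike.le_def.symm] at *
          refine absurd h1 (not_lt_of_ge ?_)
          rw [← Subgroup.map_subtype_le_map_subtype, map_commutator, ← MonoidHom.range_eq_map,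
            range_subtype]
          exact heq.ge
        · exact fun x hx => mem_normalizer_iff_map_conj_eq.2 (by
            rw [map_commutator, mem_normalizer_iff_map_conj_eq.1 hx.1])
        · exact fun x hx => mem_normalizer_iff_map_conj_eq.2 (by
            rw [map_commutator, mem_normalizer_iff_map_conj_eq.1 (hGH hx)])
      have hc : IsMulCommutative H := ⟨⟨fun x y => Subtype.ext
        ((mem_centralizer_iff.1 (commutator_eq_bot_iff_le_centralizer.1 hHH x.2) y y.2).symm)⟩⟩
      have hc' : ∀ x ∈ H, ∀ y ∈ H, Commute x y := fun x hx y hy =>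
        congrArg Subtype.val (hc.is_comm.comm ⟨x, hx⟩ ⟨y, hy⟩)
      obtain ⟨ℓ, hℓ, hℓd⟩ := Nat.exists_prime_and_dvd
        (show Nat.card H ≠ 1 from Finite.one_lt_card.ne')
      haveI : Fact ℓ.Prime := ⟨hℓ⟩
      let N : Subgroup X :=
        { carrier := {v | v ∈ H ∧ v ^ ℓ = 1}
          one_mem' := ⟨one_mem H, one_pow ℓ⟩
          mul_mem' := fun {x y} hx hy => ⟨H.mul_mem hx.1 hy.1, by
            rw [(hc' x hx.1 y hy.1).mul_pow, hx.2, hy.2, one_mul]⟩
          inv_mem' := fun {x} hx => ⟨H.inv_mem hx.1, by rw [inv_pow, hx.2, inv_one]⟩ }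
      have hNinv : normalizer (H : Set X) ≤ normalizer (N : Set X) := by
        intro x hx
        refine mem_normalizer_iff.2 fun v => ⟨fun hv => ⟨(mem_normalizer_iff.1 hx v).1 hv.1, ?_⟩,
          fun hv => ⟨(mem_normalizer_iff.1 hx v).2 hv.1, ?_⟩⟩
        · rw [conj_pow, hv.2, mul_one, mul_inv_cancel]
        · have h2 := hv.2
          rw [conj_pow, mul_inv_eq_one, mul_eq_left] at h2
          exact h2
      by_cases hNH : ∀ v ∈ H, v ^ ℓ = 1
      · refine wielandt_elementary hc hNH hGH ?_ S hS a b h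
        exact hcop.coprime_dvd_right hℓd
      · push Not at hNH
        obtain ⟨v, hv, hv1⟩ := hNH
        exfalso
        refine hN N (lt_of_le_of_ne (fun x hx => hx.1) fun heq => hv1 (heq.ge hv).2) ?_
          (le_normalizer.trans hNinv) (hGH.trans hNinv)
        obtain ⟨x, hx⟩ := exists_prime_orderOf_dvd_card' (G := H) ℓ hℓd
        rw [← Subgroup.orderOf_coe] at hx
        intro hbot
        have : (x : X) ∈ N := ⟨x.2, hx ▸ pow_orderOf_eq_one _⟩
        rw [hbot, mem_bot] at this
        rw [this, orderOf_one] at hx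
        exact hℓ.one_lt.ne hx
    obtain ⟨N, hNH, hN1, hHN, hGN⟩ := hN
    set Y := normalizer (N : Set X) with hY
    let f : Y →* Y ⧸ N.subgroupOf Y := QuotientGroup.mk' (N.subgroupOf Y)
    have hker : f.ker = N.subgroupOf Y := QuotientGroup.ker_mk' _
    have hHcard : Nat.card (H.subgroupOf Y) = Nat.card H :=
      Nat.card_congr (subgroupOfEquivOfLe hHN).toEquiv
    have hNcard : Nat.card N < Nat.card H := by
      by_contra hle
      exact hNH.ne (Subgroup.eq_of_le_of_card_ge hNH.le (not_lt.1 hle))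
    have hcopN : (Nat.card G).Coprime (Nat.card N) :=
      hcop.coprime_dvd_right (card_dvd_of_le hNH.le)
    have ihN := ih (Nat.card N) (hm ▸ hNcard) (G := G) (H := N) (Coprime.isSolvable_of_le hNH.le)
      hGN hcopN S hS h rfl
    -- the quotient
    have hinj : ∀ x : Y, (x : X) ∈ G → f x = 1 → x = 1 := fun x hx hx1 => by
      have hxN : (x : X) ∈ N := mem_subgroupOf.1 (hker ▸ (MonoidHom.mem_ker.2 hx1 : x ∈ f.ker))
      have : (x : X) ∈ G ⊓ N := ⟨hx, hxN⟩
      rw [Coprime.inf_eq_bot_of_coprime hcopN, mem_bot] at this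
      exact Subtype.ext this
    have hmem : ∀ i, ∀ x : Y, (x : X) ∈ G → (f x ∈ ((S i).subgroupOf Y).map f ↔ (x : X) ∈ S i) := by
      intro i x hx
      refine ⟨?_, fun hs => mem_map_of_mem f (mem_subgroupOf.2 hs)⟩
      rintro ⟨s, hs, hsx⟩
      have h1 := hinj (s⁻¹ * x) (G.mul_mem (G.inv_mem (hS i (mem_subgroupOf.1 hs))) hx)
        (by rw [map_mul, map_inv, hsx, inv_mul_cancel])
      rw [inv_mul_eq_one] at h1
      exact h1 ▸ mem_subgroupOf.1 hs
    have hScard : ∀ i, Nat.card (((S i).subgroupOf Y).map f) = Nat.card (S i) := fun i => by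
      show Nat.card (f '' ((S i).subgroupOf Y : Set Y)) = _
      rw [Nat.card_image_of_injOn ?_, SetLike.coe_sort_coe, Nat.card_congr (subgroupOfEquivOfLe ((hS i).trans hGN)).toEquiv]
      intro x hx y hy hxy
      exact inv_mul_eq_one.1 (hinj (x⁻¹ * y) (G.mul_mem (G.inv_mem (hS i (mem_subgroupOf.1 hx)))
        (hS i (mem_subgroupOf.1 hy))) (by rw [map_mul, map_inv, hxy, inv_mul_cancel]))
    have hGY : G.subgroupOf Y ≤ normalizer (H.subgroupOf Y : Set Y) := fun y hy => by
      rw [mem_normalizer_iff]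
      intro z
      simp only [mem_subgroupOf, Subgroup.coe_mul, Subgroup.coe_inv]
      exact mem_normalizer_iff.1 (hGH (mem_subgroupOf.1 hy)) z
    have hquot : Nat.card ((H.subgroupOf Y).map f) < Nat.card H := by
      have h1 := relIndex_mul_relIndex (⊥ : Subgroup Y) (f.ker ⊓ H.subgroupOf Y) _ bot_le
        inf_le_right
      rw [relIndex_bot_left, relIndex_bot_left, inf_relIndex_right, relIndex_ker, hHcard] at h1
      have h2 : f.ker ⊓ H.subgroupOf Y = N.subgroupOf Y := by
        rw [hker, inf_eq_left]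
        exact fun x hx => mem_subgroupOf.2 (hNH.le (mem_subgroupOf.1 hx))
      rw [h2, Nat.card_congr (subgroupOfEquivOfLe (le_normalizer : N ≤ Y)).toEquiv] at h1
      have h4 : 1 < Nat.card N := (Nat.one_lt_iff_ne_zero_and_ne_one).2
        ⟨Nat.card_pos.ne', fun h => hN1 (Subgroup.card_eq_one.1 h)⟩
      rw [← h1]
      exact lt_mul_left Nat.card_pos h4
    haveI : Group.IsSolvable (H.subgroupOf Y) := Group.isSolvable_of_isSolvable_injective
      (f := (subgroupOfEquivOfLe hHN).toMonoidHom) (subgroupOfEquivOfLe hHN).injective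
    have ihQ := ih _ (hm ▸ hquot) (G := (G.subgroupOf Y).map f) (H := (H.subgroupOf Y).map f)
      (Group.isSolvable_of_surjective (f.subgroupMap_surjective _))
      ((map_mono hGY).trans (le_normalizer_map f))
      ((hcop.coprime_dvd_left ((card_map_dvd _ f).trans
        (dvd_of_eq (Nat.card_congr (subgroupOfEquivOfLe hGN).toEquiv)))).coprime_dvd_right
        ((card_map_dvd _ f).trans (dvd_of_eq hHcard)))
      (fun i => ((S i).subgroupOf Y).map f) (fun i => map_mono fun x hx => hS i hx) ?_ rfl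
    swap
    · rintro _ ⟨x, hx, rfl⟩
      simp only [hmem _ x (mem_subgroupOf.1 hx)]
      exact h x (mem_subgroupOf.1 hx)
    have hsplit : ∀ i, Nat.card ↥(H ⊓ centralizer (S i : Set X)) =
        Nat.card ↥(N ⊓ centralizer (S i : Set X)) * Nat.card ↥((H.subgroupOf Y).map f ⊓
          centralizer ((((S i).subgroupOf Y).map f : Subgroup (Y ⧸ N.subgroupOf Y)) : Set _)) := by
      intro i
      have e : ∀ K : Subgroup X, K ≤ Y → Nat.card ↥(K ⊓ centralizer (S i : Set X)) =
          Nat.card ↥(K.subgroupOf Y ⊓ centralizer ((S i).subgroupOf Y : Set Y)) := by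
        intro K hK
        have : (K ⊓ centralizer (S i : Set X)).subgroupOf Y =
            K.subgroupOf Y ⊓ centralizer ((S i).subgroupOf Y : Set Y) := by
          ext x
          simp only [mem_subgroupOf, mem_inf, mem_centralizer_iff, SetLike.mem_coe]
          refine and_congr_right fun _ => ⟨fun hx s hs => Subtype.ext (hx s hs), fun hx s hs => ?_⟩
          exact congrArg Subtype.val (hx ⟨s, hGN (hS i hs)⟩ hs)
        rw [← this, Nat.card_congr (subgroupOfEquivOfLe (inf_le_left.trans hK)).toEquiv]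
      rw [e H hHN, card_inf_centralizer_mul f (H := H.subgroupOf Y) (S := (S i).subgroupOf Y)
        (fun x hx => hGY (hS i hx)) ?_ inferInstance, e N le_normalizer, hker,
        show H.subgroupOf Y ⊓ N.subgroupOf Y = N.subgroupOf Y from
          inf_eq_right.2 (fun x hx => mem_subgroupOf.2 (hNH.le (mem_subgroupOf.1 hx)))]
      rw [hHcard, Nat.card_congr (subgroupOfEquivOfLe ((hS i).trans hGN)).toEquiv]
      exact hcop.coprime_dvd_left (card_dvd_of_le (hS i))
    simp only [hScard] at ihQ
    simp only [hsplit, mul_pow, Finset.prod_mul_distrib]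
    rw [ihN, ihQ]

/-- Wielandt's formula for a Frobenius group `U E` acting coprimely on a solvable group `H`. -/
theorem frobenius_fixed_point_formula {X : Type*} [Group X] [Finite X] {U E H : Subgroup X}
    (hUE : U ⊓ E = ⊥) (hUn : E ≤ normalizer (U : Set X))
    (hfpf : ∀ e ∈ E, e ≠ 1 → ∀ u ∈ U, e * u = u * e → u = 1)
    (hHn : U ⊔ E ≤ normalizer (H : Set X)) (hsolv : Group.IsSolvable H)
    (hcop : (Nat.card ↥(U ⊔ E)).Coprime (Nat.card H)) :
    Nat.card ↥(H ⊓ centralizer ((U ⊔ E : Subgroup X) : Set X)) ^ Nat.card E * Nat.card H =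
      Nat.card ↥(H ⊓ centralizer (E : Set X)) ^ Nat.card E *
        Nat.card ↥(H ⊓ centralizer (U : Set X)) := by
  classical
  haveI := Fintype.ofFinite U
  let c : U → X →* X := fun u => (MulAut.conj (u : X)).toMonoidHom
  let S : Option (Option (Option U)) → Subgroup X := fun i => match i with
    | none => U ⊔ E
    | some none => ⊥
    | some (some none) => U
    | some (some (some u)) => E.map (c u)
  let a : Option (Option (Option U)) → ℕ := fun i => match i with
    | none => 1
    | some none => Nat.card U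
    | _ => 0
  let b : Option (Option (Option U)) → ℕ := fun i => match i with
    | none => 0
    | some none => 0
    | _ => 1
  have hS : ∀ i, S i ≤ U ⊔ E := by
    intro i
    match i with
    | none => exact le_rfl
    | some none => exact bot_le
    | some (some none) => exact le_sup_left
    | some (some (some u)) =>
      rintro _ ⟨e, he, rfl⟩
      have hu : (u : X) ∈ U ⊔ E := (le_sup_left : U ≤ U ⊔ E) u.2
      exact mul_mem (mul_mem hu ((le_sup_right : E ≤ U ⊔ E) he)) (inv_mem hu)
  have hcE : ∀ (u : U) (g : X), g ∈ E.map (c u) ↔ (u : X)⁻¹ * g * u ∈ E := fun u g => by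
    constructor
    · rintro ⟨e, he, rfl⟩
      simpa [c, mul_assoc] using he
    · exact fun hg => ⟨_, hg, by simp [c, mul_assoc]⟩
  have hone : ∀ g ∈ U ⊔ E, g ≠ 1 → g ∈ U → ∀ u : U, g ∉ E.map (c u) := by
    intro g _ hg1 hgU u hgE
    rw [hcE] at hgE
    have : (u : X)⁻¹ * g * u ∈ U ⊓ E := ⟨U.mul_mem (U.mul_mem (U.inv_mem u.2) hgU) u.2, hgE⟩
    rw [hUE, mem_bot, mul_eq_one_iff_eq_inv, inv_mul_eq_iff_eq_mul] at this
    exact hg1 (this.trans (mul_inv_cancel _))
  have huniq : ∀ g ∈ U ⊔ E, g ∉ U → ∃! u : U, g ∈ E.map (c u) := by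
    intro g hg hgU
    obtain ⟨v, hv, e, he, rfl⟩ := Coprime.exists_mul_of_mem_sup hUn hg
    have he1 : e ≠ 1 := fun h => hgU (by rw [h, mul_one]; exact hv)
    -- `u ↦ u e u⁻¹ e⁻¹` is injective, hence onto `U`
    have hmem : ∀ u : U, (u : X) * e * (u : X)⁻¹ * e⁻¹ ∈ U := fun u => by
      have h1 : e * (u : X)⁻¹ * e⁻¹ ∈ U :=
        (mem_normalizer_iff.1 (hUn he) _).1 (U.inv_mem u.2)
      simpa [mul_assoc] using U.mul_mem u.2 h1
    have hinj : ∀ u w : U, (u : X) * e * (u : X)⁻¹ = w * e * (w : X)⁻¹ → u = w := by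
      intro u w huw
      have hc : e * ((w : X)⁻¹ * u) = ((w : X)⁻¹ * u) * e := by
        calc e * ((w : X)⁻¹ * u) = (w : X)⁻¹ * ((w : X) * e * (w : X)⁻¹) * u := by group
          _ = (w : X)⁻¹ * ((u : X) * e * (u : X)⁻¹) * u := by rw [huw]
          _ = ((w : X)⁻¹ * u) * e := by group
      have := hfpf e he he1 _ (U.mul_mem (U.inv_mem w.2) u.2) hc
      exact Subtype.ext (inv_mul_eq_one.1 this).symm
    obtain ⟨u, hu⟩ := Finite.surjective_of_injective
      (f := fun u : U => (⟨_, hmem u⟩ : U)) (fun u w huw => hinj u w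
        (mul_right_cancel (congrArg Subtype.val huw))) ⟨v, hv⟩
    have hu' : (u : X) * e * (u : X)⁻¹ = v * e := by
      rw [← show (u : X) * e * (u : X)⁻¹ * e⁻¹ = v from congrArg Subtype.val hu, inv_mul_cancel_right]
    refine ⟨u, (hcE u _).2 (by rw [← hu']; simpa [mul_assoc] using he), fun w hw => ?_⟩
    replace hw := (hcE w _).1 hw
    refine hinj w u ?_
    -- `w⁻¹ (v e) w` lies in `E` and is congruent to `e` modulo `U`
    have hx : (w : X)⁻¹ * (v * e) * w * e⁻¹ ∈ U ⊓ E := by
      refine ⟨?_, E.mul_mem hw (E.inv_mem he)⟩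
      have h1 : e * (w : X) * e⁻¹ ∈ U := (mem_normalizer_iff.1 (hUn he) _).1 w.2
      simpa [mul_assoc] using U.mul_mem (U.mul_mem (U.inv_mem w.2) hv) h1
    rw [hUE, mem_bot, mul_inv_eq_one] at hx
    rw [hu']
    conv_lhs => rw [← hx]
    group
  have hkey : ∀ g ∈ U ⊔ E,
      (∑ i, if g ∈ S i then a i else 0) = ∑ i, if g ∈ S i then b i else 0 := by
    intro g hg
    simp only [Fintype.sum_option, S, a, b, hg, if_true, ite_self, zero_add, Finset.sum_const_zero,
      add_zero]
    by_cases hg1 : g = 1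
    · subst hg1
      simp [Nat.card_eq_fintype_card, one_mem]
    rw [if_neg (mt mem_bot.1 hg1)]
    by_cases hgU : g ∈ U
    · rw [if_pos hgU, Finset.sum_eq_zero fun u _ => if_neg (hone g hg hg1 hgU u)]
    · obtain ⟨u, hu, hu'⟩ := huniq g hg hgU
      rw [if_neg hgU, zero_add,
        Finset.sum_eq_single u (fun w _ hw => if_neg fun h => hw (hu' w h)) (by simp), if_pos hu]
  have hconj : ∀ u : U, Nat.card ↥(H ⊓ centralizer ((E.map (c u) : Subgroup X) : Set X)) =
      Nat.card ↥(H ⊓ centralizer (E : Set X)) := by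
    intro u
    have : H ⊓ centralizer ((E.map (c u) : Subgroup X) : Set X) =
        (H ⊓ centralizer (E : Set X)).map (c u) := by
      ext y
      have hy : ((u : X)⁻¹ * y * u ∈ H ↔ y ∈ H) :=
        (by simpa [mul_assoc] using
          (mem_normalizer_iff.1 (inv_mem (hHn ((le_sup_left : U ≤ U ⊔ E) u.2))) y).symm)
      constructor
      · rintro ⟨hyH, hyC⟩
        refine ⟨(u : X)⁻¹ * y * u, ⟨hy.2 hyH, mem_centralizer_iff.2 fun e he => ?_⟩,
          by simp [c, mul_assoc]⟩
        have := mem_centralizer_iff.1 hyC ((c u) e) (mem_map_of_mem _ he)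
        simp only [c, MulEquiv.coe_toMonoidHom, MulAut.conj_apply] at this
        calc e * ((u : X)⁻¹ * y * u) = (u : X)⁻¹ * ((u : X) * e * (u : X)⁻¹ * y) * u := by group
          _ = (u : X)⁻¹ * (y * ((u : X) * e * (u : X)⁻¹)) * u := by rw [this]
          _ = (u : X)⁻¹ * y * u * e := by group
      · rintro ⟨z, ⟨hzH, hzC⟩, rfl⟩
        refine ⟨hy.1 (by simpa [c, mul_assoc] using hzH), mem_centralizer_iff.2 ?_⟩
        rintro _ ⟨e, he, rfl⟩
        rw [← map_mul, ← map_mul, mem_centralizer_iff.1 hzC e he]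
    rw [this, card_map_of_injective (MulAut.conj (u : X)).injective]
  have hcardE : ∀ u : U, Nat.card (E.map (c u)) = Nat.card E := fun u =>
    card_map_of_injective (MulAut.conj (u : X)).injective
  have hcard : Nat.card ↥(U ⊔ E) = Nat.card U * Nat.card E := Coprime.card_sup_eq hUn hUE
  have hbot : centralizer ((⊥ : Subgroup X) : Set X) = ⊤ :=
    top_le_iff.1 fun x _ => mem_centralizer_iff.2 fun s hs => by simp [mem_bot.1 hs]
  have := wielandt_fixed_point hsolv hHn hcop S hS a b hkey
  simp only [Fintype.prod_option, S, a, b, hconj, hcardE, zero_mul, pow_zero, one_mul, mul_one,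
    Finset.prod_const_one, Finset.prod_const, Finset.card_univ, Subgroup.card_bot, hbot, inf_top_eq,
    hcard, ← Nat.card_eq_fintype_card] at this
  refine Nat.pow_left_injective (n := Nat.card U) Nat.card_pos.ne' ?_
  simp only [mul_pow, ← pow_mul]
  rw [mul_comm (Nat.card E) (Nat.card U)]
  rw [mul_comm (Nat.card ↥(H ⊓ centralizer (U : Set X)) ^ Nat.card U), ← pow_mul] at this
  rwa [mul_comm (Nat.card E) (Nat.card U)] at this

end CfsgLib.OddOrder
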