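import Cfsg.Agent.OddOrder.BG3.SmallFixedPoints

/-!
# A faithful representation in which a small fixed subgroup becomes a fixed line
-/

set_option autoImplicit false
set_option linter.style.haveILetI false

namespace CfsgLib.OddOrder

open Subgroup

/-- Endomorphisms with values in a line keep that property over the algebraic closure. -/
theorem exists_ringHom_end_line {A : Type*} [AddCommGroup A] [Finite A] (ℓ : ℕ)
    [Fact ℓ.Prime] [Module (ZMod ℓ) A] :
    ∃ (n : ℕ) (Θ : Module.End (ZMod ℓ) A →+*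
      Module.End (AlgebraicClosure (ZMod ℓ)) (Fin n → AlgebraicClosure (ZMod ℓ))),
      Function.Injective Θ ∧ ∀ (e : Module.End (ZMod ℓ) A) (u₀ : A),
        (∀ a, ∃ c : ZMod ℓ, e a = c • u₀) →
          ∃ u, ∀ y, ∃ c : AlgebraicClosure (ZMod ℓ), Θ e y = c • u := by
  classical
  let b := Module.finBasis (ZMod ℓ) A
  let φ := algebraMap (ZMod ℓ) (AlgebraicClosure (ZMod ℓ))
  refine ⟨_, (Matrix.toLinAlgEquiv').toRingEquiv.toRingHom.comp
      ((φ.mapMatrix).comp (LinearMap.toMatrixAlgEquiv b).toRingEquiv.toRingHom),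
    (Matrix.toLinAlgEquiv').injective.comp ((Matrix.map_injective φ.injective).comp
      (LinearMap.toMatrixAlgEquiv b).injective), fun e u₀ he => ?_⟩
  choose c hc using he
  refine ⟨fun i => φ (b.repr u₀ i), fun y => ⟨∑ j, φ (c (b j)) * y j, ?_⟩⟩
  funext i
  show Matrix.toLinAlgEquiv' ((LinearMap.toMatrixAlgEquiv b e).map φ) y i = _
  rw [Matrix.toLinAlgEquiv'_apply, Matrix.mulVec, dotProduct, Pi.smul_apply, smul_eq_mul,
    Finset.sum_mul]
  refine Finset.sum_congr rfl fun j _ => ?_
  rw [Matrix.map_apply, LinearMap.toMatrixAlgEquiv_apply, hc, map_smul, Finsupp.smul_apply,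
    smul_eq_mul, map_mul]
  ring

/-- An elementary abelian normal `ℓ`-subgroup `V` with `#C_V(x) ≤ ℓ`, `x` of order prime to `ℓ`,
gives a representation with kernel `C(V)` in which `x` fixes at most a line. -/
theorem exists_rep_fixed_line {X : Type*} [Group X] [Finite X] {ℓ : ℕ} [Fact ℓ.Prime]
    {V : Subgroup X} [V.Normal] (hVc : IsMulCommutative V) (hVl : ∀ w ∈ V, w ^ ℓ = 1)
    {x : X} {r : ℕ} (hr0 : 0 < r) (hxr : x ^ r = 1) (hrl : r.Coprime ℓ)
    (hfix : Nat.card ↥(V ⊓ centralizer ({x} : Set X)) ≤ ℓ) :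
    ∃ (n : ℕ) (ρ : X →* Module.End (AlgebraicClosure (ZMod ℓ)) (Fin n → AlgebraicClosure (ZMod ℓ)))
      (u : Fin n → AlgebraicClosure (ZMod ℓ)),
      (∀ g, ρ g = 1 → g ∈ centralizer (V : Set X)) ∧
      ∀ v, ρ x v = v → ∃ c : AlgebraicClosure (ZMod ℓ), v = c • u := by
  classical
  letI : CommGroup V :=
    { (inferInstance : Group V) with mul_comm := fun a b => hVc.is_comm.comm a b }
  haveI : Finite (Additive V) := Finite.of_equiv V Additive.ofMul
  let φ : X →* MulAut V := MulAut.conjNormal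
  let f : X →* AddMonoid.End (Additive V) :=
    { toFun := fun g => MonoidHom.toAdditive (φ g).toMonoidHom
      map_one' := AddMonoidHom.ext fun v => congrArg Additive.ofMul (by
        show φ 1 (Additive.toMul v) = Additive.toMul v
        rw [map_one]; rfl)
      map_mul' := fun g g' => AddMonoidHom.ext fun v => congrArg Additive.ofMul (by
        show φ (g * g') (Additive.toMul v) = φ g (φ g' (Additive.toMul v))
        rw [map_mul]; rfl) }
  haveI : Module (ZMod ℓ) (Additive V) :=
    AddCommGroup.zmodModule (G := Additive V) fun a => Subtype.ext (hVl _ (Additive.toMul a).2)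
  let g₀ : X → Module.End (ZMod ℓ) (Additive V) := fun g =>
    { toFun := fun a => f g a
      map_add' := fun a b => map_add (f g) a b
      map_smul' := fun c a => ZMod.map_smul (f g) c a }
  let g : X →* Module.End (ZMod ℓ) (Additive V) :=
    { toFun := g₀
      map_one' := LinearMap.ext fun a => by
        show f 1 a = a
        rw [map_one]; rfl
      map_mul' := fun s t => LinearMap.ext fun a => by
        show f (s * t) a = f s (f t a)
        rw [map_mul]; rfl }
  obtain ⟨n, Θ, hΘ, hline⟩ := exists_ringHom_end_line (A := Additive V) ℓ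
  have hg : ∀ (s : X) (a : Additive V),
      ((Additive.toMul (g s a) : V) : X) = s * (Additive.toMul a : V) * s⁻¹ := fun s a => rfl
  let e : Module.End (ZMod ℓ) (Additive V) := ∑ i ∈ Finset.range r, g (x ^ i)
  have hxe : ∀ a, g x (e a) = e a := by
    intro a
    simp only [e, LinearMap.sum_apply, map_sum, ← Module.End.mul_apply, ← map_mul, ← pow_succ']
    obtain ⟨s, rfl⟩ : ∃ s, r = s + 1 := ⟨r - 1, by omega⟩
    rw [Finset.sum_range_succ, Finset.sum_range_succ' (fun i => g (x ^ i) a), hxr, pow_zero]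
  -- the fixed subgroup is spanned by one element
  set C := V ⊓ centralizer ({x} : Set X) with hC
  obtain ⟨u₀, hu₀⟩ : ∃ u₀ : Additive V, ∀ a : Additive V,
      ((Additive.toMul a : V) : X) ∈ C → ∃ m : ℕ, a = m • u₀ := by
    rcases eq_or_ne C ⊥ with hb | hb
    · refine ⟨0, fun a ha => ⟨0, ?_⟩⟩
      rw [hb, mem_bot] at ha
      rw [zero_smul]
      exact congrArg Additive.ofMul (Subtype.ext ha : (Additive.toMul a : V) = 1)
    · obtain ⟨w, hw, hw1⟩ := (Subgroup.bot_or_exists_ne_one C).resolve_left hb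
      have hgen : zpowers w = C := eq_of_le_of_card_ge (zpowers_le.2 hw) (by
        rw [Nat.card_zpowers, orderOf_eq_prime (hVl w hw.1) hw1]; exact hfix)
      refine ⟨Additive.ofMul ⟨w, hw.1⟩, fun a ha => ?_⟩
      rw [← hgen] at ha
      obtain ⟨m, hm⟩ := (isOfFinOrder_of_finite w).mem_powers_iff_mem_zpowers.2 ha
      exact ⟨m, congrArg Additive.ofMul (Subtype.ext hm.symm :
        (Additive.toMul a : V) = (⟨w, hw.1⟩ : V) ^ m)⟩
  obtain ⟨u, hu⟩ := hline e u₀ fun a => by
    obtain ⟨m, hm⟩ := hu₀ (e a) ⟨(Additive.toMul (e a)).2, mem_centralizer_singleton_iff.2 (by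
      have h1 := congrArg (fun y : Additive V => ((Additive.toMul y : V) : X)) (hxe a)
      simp only [hg] at h1
      exact (mul_inv_eq_iff_eq_mul.1 h1).symm)⟩
    exact ⟨(m : ZMod ℓ), by rw [Nat.cast_smul_eq_nsmul]; exact hm⟩
  refine ⟨n, Θ.toMonoidHom.comp g, u, fun s hs => ?_, fun v hv => ?_⟩
  · refine mem_centralizer_iff.2 fun w hw => ?_
    have h1 : g s = 1 := hΘ (by rw [map_one]; exact hs)
    have h2 := congrArg (fun y : Additive V => ((Additive.toMul y : V) : X))
      (LinearMap.congr_fun h1 (Additive.ofMul ⟨w, hw⟩))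
    simp only [hg] at h2
    exact (mul_inv_eq_iff_eq_mul.1 h2).symm
  · have hv' : ∀ i : ℕ, Θ (g (x ^ i)) v = v := by
      intro i
      induction i with
      | zero => rw [pow_zero, map_one, map_one, Module.End.one_apply]
      | succ i ih =>
        rw [pow_succ', map_mul, map_mul, Module.End.mul_apply, ih]
        exact hv
    have hev : Θ e v = (r : AlgebraicClosure (ZMod ℓ)) • v := by
      simp only [e, map_sum, LinearMap.sum_apply, hv', Finset.sum_const, Finset.card_range,
        Nat.cast_smul_eq_nsmul]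
    obtain ⟨c, hc⟩ := hu v
    have hrF : (r : AlgebraicClosure (ZMod ℓ)) ≠ 0 := by
      rw [Ne, CharP.cast_eq_zero_iff _ ℓ]
      exact fun h => (Fact.out : ℓ.Prime).not_dvd_one (hrl ▸ Nat.dvd_gcd h dvd_rfl)
    exact ⟨(r : AlgebraicClosure (ZMod ℓ))⁻¹ * c, by
      rw [mul_smul, ← hc, hev, smul_smul, inv_mul_cancel₀ hrF, one_smul]⟩

end CfsgLib.OddOrder
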