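import Cfsg.Agent.OddOrder.BG3.Rfix0
import Mathlib.GroupTheory.GroupAction.Quotient
import Mathlib.LinearAlgebra.Dual.Lemmas

/-!
# Weights of an abelian normal subgroup under an element with a one-dimensional fixed space

The linear part of BG 3.6: an element `x` of odd prime order `r` whose fixed space has dimension at
most one moves the weights of an invariant abelian subgroup `A` in at most one free orbit, all of
whose weight spaces are lines. If moreover `x` acts without fixed points on a group `P` of odd order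
prime to `r` normalizing `A`, then `P` fixes every weight.
-/

set_option autoImplicit false
set_option linter.style.haveILetI false

namespace CfsgLib.OddOrder

open Subgroup
open scoped commutatorElement

variable {F : Type*} [Field F] {M : Type*} [AddCommGroup M] [Module F M]
  {Γ : Type*} [Group Γ]

/-- `v` is an eigenvector of `A` with character `χ`. -/
def IsWeightVec (ρ : Γ →* Module.End F M) (A : Subgroup Γ) (χ : A →* F) (v : M) : Prop :=
  ∀ a : A, ρ a v = χ a • v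

/-- Conjugation by an element of the normalizer, as an endomorphism of `A`. -/
def conjHom (A : Subgroup Γ) (g : normalizer (A : Set Γ)) : A →* A :=
  (normalizerMonoidHom A g).toMonoidHom

theorem coe_conjHom (A : Subgroup Γ) (g : normalizer (A : Set Γ)) (a : A) :
    ((conjHom A g a : A) : Γ) = g * a * (g : Γ)⁻¹ := rfl

theorem coe_conjHom_inv (A : Subgroup Γ) (g : normalizer (A : Set Γ)) (a : A) :
    ((conjHom A g⁻¹ a : A) : Γ) = (g : Γ)⁻¹ * a * g := by
  rw [coe_conjHom]; simp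

theorem conjHom_mul (A : Subgroup Γ) (g h : normalizer (A : Set Γ)) :
    conjHom A (g * h) = (conjHom A g).comp (conjHom A h) :=
  MonoidHom.ext fun a => Subtype.ext (by
    simp only [MonoidHom.comp_apply, coe_conjHom, Subgroup.coe_mul, mul_inv_rev]; group)

theorem conjHom_one (A : Subgroup Γ) : conjHom A 1 = MonoidHom.id A :=
  MonoidHom.ext fun a => Subtype.ext (by simp [coe_conjHom])

/-- Weight vectors with pairwise distinct characters are independent. -/
theorem eq_zero_of_sum_weightVec {A : Subgroup Γ} (ρ : Γ →* Module.End F M) {ι : Type*} [Fintype ι]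
    (χ : ι → (A →* F)) (hχ : Function.Injective χ) (v : ι → M)
    (hv : ∀ i, IsWeightVec ρ A (χ i) (v i)) (hsum : ∑ i, v i = 0) (i : ι) : v i = 0 := by
  classical
  refine (Module.forall_dual_apply_eq_zero_iff F _).1 fun φ => ?_
  have hz : ∑ j, φ (v j) • (χ j : A → F) = 0 := by
    funext a
    rw [Finset.sum_apply]
    have h1 := congrArg (fun w => φ (ρ a w)) hsum
    simp only [map_sum, map_zero] at h1
    rw [Pi.zero_apply, ← h1]
    exact Finset.sum_congr rfl fun j _ => by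
      rw [Pi.smul_apply, hv j a, map_smul, smul_eq_mul, smul_eq_mul, mul_comm]
  exact Fintype.linearIndependent_iff.1 ((linearIndependent_monoidHom A F).comp χ hχ) _ hz i

/-- Translating a weight vector. -/
theorem isWeightVec_apply {A : Subgroup Γ} (ρ : Γ →* Module.End F M) {χ : A →* F} {v : M}
    (hv : IsWeightVec ρ A χ v) (g : normalizer (A : Set Γ)) :
    IsWeightVec ρ A (χ.comp (conjHom A g⁻¹)) (ρ g v) := by
  intro a
  rw [← Module.End.mul_apply, ← map_mul,
    show (a : Γ) * g = g * ((conjHom A g⁻¹ a : A) : Γ) by rw [coe_conjHom_inv]; group,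
    map_mul, Module.End.mul_apply, hv, map_smul]
  rfl

theorem apply_ne_zero {ρ : Γ →* Module.End F M} {v : M} (hv : v ≠ 0) (g : Γ) : ρ g v ≠ 0 := fun h =>
  hv (by
    have h1 : ρ (g⁻¹ * g) v = 0 := by rw [map_mul, Module.End.mul_apply, h, map_zero]
    simpa using h1)

/-- An element acting nontrivially has a nontrivial weight. -/
theorem exists_weight [IsAlgClosed F] [FiniteDimensional F M] (ρ : Γ →* Module.End F M)
    {A : Subgroup Γ} [Finite A] (hA : ∀ a ∈ A, ∀ b ∈ A, a * b = b * a)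
    (hcharF : (Nat.card A : F) ≠ 0) {a₀ : Γ} (ha₀ : a₀ ∈ A) (hne : ρ a₀ ≠ 1) :
    ∃ (χ : A →* F) (v : M), v ≠ 0 ∧ IsWeightVec ρ A χ v ∧ χ ⟨a₀, ha₀⟩ ≠ 1 := by
  classical
  have hz₀o : a₀ ^ Nat.card A = 1 := congrArg Subtype.val (pow_card_eq_one' (G := A) (x := ⟨a₀, ha₀⟩))
  haveI : NeZero (Nat.card A) := ⟨Nat.card_pos.ne'⟩
  obtain ⟨ι, hι, bs, d, hd, -⟩ := exists_eigen_basis_of_pow_eq_one (s := ρ a₀) hcharF
    (by rw [← map_pow, hz₀o, map_one])
  obtain ⟨i₀, hi₀⟩ : ∃ i, d i ≠ 1 := by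
    by_contra hall
    push Not at hall
    exact hne (bs.ext fun i => by simp [hd, hall])
  obtain ⟨U, ⟨hU0, hUle, hUinv⟩, hUmin⟩ := (wellFounded_lt (α := Submodule F M)).has_min
    {U | U ≠ ⊥ ∧ U ≤ Module.End.eigenspace (ρ a₀) (d i₀) ∧ ∀ z ∈ A, ∀ u ∈ U, ρ z u ∈ U}
    ⟨Module.End.eigenspace (ρ a₀) (d i₀), fun h => bs.ne_zero i₀ (by
      rw [← Submodule.mem_bot F, ← h]; exact Module.End.mem_eigenspace_iff.2 (hd i₀)), le_rfl,
      fun z hz u hu => by
        rw [Module.End.mem_eigenspace_iff] at hu ⊢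
        rw [← Module.End.mul_apply, ← map_mul, hA a₀ ha₀ z hz, map_mul,
          Module.End.mul_apply, hu, map_smul]⟩
  haveI : Nontrivial U := Submodule.nontrivial_iff_ne_bot.2 hU0
  have hsc : ∀ z ∈ A, ∃ c : F, ∀ u ∈ U, ρ z u = c • u := by
    intro z hz
    obtain ⟨c, hc⟩ := Module.End.exists_eigenvalue ((ρ z).restrict (hUinv z hz))
    obtain ⟨u₀, hu₀, hu₀0⟩ := hc.exists_hasEigenvector
    refine ⟨c, fun u hu => ?_⟩
    have heq : U ⊓ Module.End.eigenspace (ρ z) c = U := by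
      by_contra hne
      refine hUmin _ ⟨?_, inf_le_left.trans hUle, ?_⟩ (lt_of_le_of_ne inf_le_left hne)
      · intro h
        refine hu₀0 (Subtype.ext ?_)
        have : (u₀ : M) ∈ U ⊓ Module.End.eigenspace (ρ z) c :=
          ⟨u₀.2, Module.End.mem_eigenspace_iff.2
            (congrArg Subtype.val (Module.End.mem_eigenspace_iff.1 hu₀))⟩
        rw [h, Submodule.mem_bot] at this
        exact this
      · rintro w hw v ⟨hv, hv'⟩
        refine ⟨hUinv w hw v hv, ?_⟩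
        rw [SetLike.mem_coe, Module.End.mem_eigenspace_iff] at hv' ⊢
        rw [← Module.End.mul_apply, ← map_mul, hA z hz w hw, map_mul,
          Module.End.mul_apply, hv', map_smul]
    exact Module.End.mem_eigenspace_iff.1 (heq.ge hu).2
  choose χ₀ hχ₀ using hsc
  obtain ⟨v, hvU, hv0⟩ := (Submodule.ne_bot_iff U).1 hU0
  let χ : A →* F :=
    { toFun := fun z => χ₀ z z.2
      map_one' := by
        have h := hχ₀ 1 A.one_mem v hvU
        rw [map_one, Module.End.one_apply] at h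
        exact smul_left_injective F hv0 (show χ₀ 1 _ • v = (1 : F) • v by rw [← h, one_smul])
      map_mul' := fun z w => smul_left_injective F hv0 (by
        show χ₀ ((z * w : A) : Γ) _ • v = (χ₀ z z.2 * χ₀ w w.2) • v
        rw [← hχ₀ _ _ v hvU, Subgroup.coe_mul, map_mul, Module.End.mul_apply, hχ₀ w w.2 v hvU,
          map_smul, hχ₀ z z.2 v hvU, smul_smul, mul_comm]) }
  refine ⟨χ, v, hv0, fun z => hχ₀ z z.2 v hvU, fun h => hi₀ (smul_left_injective F hv0 ?_)⟩
  show d i₀ • v = (1 : F) • v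
  rw [← h, ← show ρ a₀ v = χ ⟨a₀, ha₀⟩ • v from hχ₀ a₀ ha₀ v hvU]
  exact (Module.End.mem_eigenspace_iff.1 (hUle hvU)).symm

section Orbit

variable {A : Subgroup Γ} {x : normalizer (A : Set Γ)} {r : ℕ}

/-- The translates of a moved character are distinct. -/
theorem translate_injective (hr : r.Prime) (hxr : x ^ r = 1) {χ : A →* F}
    (hχ : χ.comp (conjHom A x) ≠ χ) :
    Function.Injective (fun i : Fin r => χ.comp (conjHom A (x ^ (i : ℕ))⁻¹)) := by
  suffices H : ∀ i j : Fin r, (i : ℕ) < j →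
      χ.comp (conjHom A (x ^ (i : ℕ))⁻¹) ≠ χ.comp (conjHom A (x ^ (j : ℕ))⁻¹) by
    intro i j hij
    rcases lt_trichotomy (i : ℕ) j with h | h | h
    · exact absurd hij (H i j h)
    · exact Fin.ext h
    · exact absurd hij.symm (H j i h)
  intro i j hij heq
  apply hχ
  set m := (j : ℕ) - i with hm
  have hfix : χ.comp (conjHom A (x ^ m)) = χ := by
    have h1 := congrArg (fun f : A →* F => f.comp (conjHom A (x ^ (j : ℕ)))) heq
    simp only [MonoidHom.comp_assoc, ← conjHom_mul, inv_mul_cancel, conjHom_one, MonoidHom.comp_id]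
      at h1
    rwa [show (x ^ (i : ℕ))⁻¹ * x ^ (j : ℕ) = x ^ m by
      rw [hm, inv_mul_eq_iff_eq_mul, ← pow_add, Nat.add_sub_cancel' hij.le]] at h1
  have hpow : ∀ e : ℕ, χ.comp (conjHom A ((x ^ m) ^ e)) = χ := by
    intro e
    induction e with
    | zero => rw [pow_zero, conjHom_one, MonoidHom.comp_id]
    | succ e ih => rw [pow_succ, conjHom_mul, ← MonoidHom.comp_assoc, ih, hfix]
  obtain ⟨e, he⟩ := Nat.exists_mul_mod_eq_one_of_coprime
    (hr.coprime_iff_not_dvd.2 (Nat.not_dvd_of_pos_of_lt (Nat.sub_pos_of_lt hij)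
      (lt_of_le_of_lt (Nat.sub_le _ _) j.2))).symm hr.one_lt
  have := hpow e
  rwa [← pow_mul, pow_eq_pow_mod (m * e) hxr, he.2, pow_one] at this

variable (ρ : Γ →* Module.End F M) {u : M}

theorem exists_sum_eq (hr : r.Prime) (hxr : x ^ r = 1)
    (hfix : ∀ v, ρ x v = v → ∃ c : F, v = c • u) (v : M) :
    ∃ c : F, ∑ i : Fin r, ρ ((x : Γ) ^ (i : ℕ)) v = c • u := by
  refine hfix _ ?_
  have hx : (x : Γ) ^ r = 1 := by rw [← SubmonoidClass.coe_pow, hxr]; rfl
  rw [map_sum]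
  simp only [← Module.End.mul_apply, ← map_mul, ← pow_succ']
  rw [Fin.sum_univ_eq_sum_range (fun i => ρ ((x : Γ) ^ (i + 1)) v) r,
    Fin.sum_univ_eq_sum_range (fun i => ρ ((x : Γ) ^ i) v) r]
  obtain ⟨s, rfl⟩ : ∃ s, r = s + 1 := ⟨r - 1, by have := hr.pos; omega⟩
  rw [Finset.sum_range_succ, Finset.sum_range_succ' (fun i => ρ ((x : Γ) ^ i) v), hx, pow_zero]

theorem sum_ne_zero (hr : r.Prime) (hxr : x ^ r = 1) {χ : A →* F} {v : M} (hv0 : v ≠ 0)
    (hv : IsWeightVec ρ A χ v) (hχ : χ.comp (conjHom A x) ≠ χ) :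
    ∑ i : Fin r, ρ ((x : Γ) ^ (i : ℕ)) v ≠ 0 := fun h =>
  hv0 (by
    have h0 := eq_zero_of_sum_weightVec ρ _ (translate_injective hr hxr hχ)
      (fun i : Fin r => ρ ((x : Γ) ^ (i : ℕ)) v) (fun i => by
        have := isWeightVec_apply ρ hv (x ^ (i : ℕ))
        rwa [SubmonoidClass.coe_pow] at this) h ⟨0, hr.pos⟩
    simpa using h0)

/-- The weight space of a moved character is a line. -/
theorem weightVec_proportional (hr : r.Prime) (hxr : x ^ r = 1)
    (hfix : ∀ v, ρ x v = v → ∃ c : F, v = c • u) {χ : A →* F} {v w : M} (hv0 : v ≠ 0)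
    (hv : IsWeightVec ρ A χ v) (hw : IsWeightVec ρ A χ w) (hχ : χ.comp (conjHom A x) ≠ χ) :
    ∃ c : F, w = c • v := by
  obtain ⟨a, ha⟩ := exists_sum_eq ρ hr hxr hfix v
  obtain ⟨b, hb⟩ := exists_sum_eq ρ hr hxr hfix w
  have ha0 : a ≠ 0 := fun h => sum_ne_zero ρ hr hxr hv0 hv hχ (by rw [ha, h, zero_smul])
  refine ⟨b / a, ?_⟩
  by_contra hne
  refine sum_ne_zero ρ hr hxr (v := w - (b / a) • v) (sub_ne_zero.2 hne) (fun c => ?_) hχ ?_
  · rw [map_sub, map_smul, hv c, hw c, smul_sub, smul_comm]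
  · simp only [map_sub, map_smul, Finset.sum_sub_distrib, ← Finset.smul_sum, ha, hb, smul_smul,
      div_mul_cancel₀ b ha0, sub_self]

/-- Any two moved weights are translates of one another. -/
theorem exists_translate (hr : r.Prime) (hxr : x ^ r = 1)
    (hfix : ∀ v, ρ x v = v → ∃ c : F, v = c • u) {χ ψ : A →* F} {v w : M} (hv0 : v ≠ 0)
    (hv : IsWeightVec ρ A χ v) (hw0 : w ≠ 0) (hw : IsWeightVec ρ A ψ w)
    (hχ : χ.comp (conjHom A x) ≠ χ) (hψ : ψ.comp (conjHom A x) ≠ ψ) :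
    ∃ i : Fin r, ψ = χ.comp (conjHom A (x ^ (i : ℕ))⁻¹) := by
  by_contra hall
  push Not at hall
  obtain ⟨a, ha⟩ := exists_sum_eq ρ hr hxr hfix v
  obtain ⟨b, hb⟩ := exists_sum_eq ρ hr hxr hfix w
  have ha0 : a ≠ 0 := fun h => sum_ne_zero ρ hr hxr hv0 hv hχ (by rw [ha, h, zero_smul])
  have hinj : Function.Injective (Sum.elim
      (fun i : Fin r => χ.comp (conjHom A (x ^ (i : ℕ))⁻¹))
      (fun i : Fin r => ψ.comp (conjHom A (x ^ (i : ℕ))⁻¹))) := by
    refine (translate_injective hr hxr hχ).sumElim (translate_injective hr hxr hψ) fun i j h => ?_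
    have h1 := congrArg (fun f : A →* F => f.comp (conjHom A (x ^ (j : ℕ)))) h
    simp only [MonoidHom.comp_assoc, ← conjHom_mul, inv_mul_cancel, conjHom_one, MonoidHom.comp_id]
      at h1
    obtain ⟨k, hk⟩ : ∃ k : Fin r, (x ^ (i : ℕ))⁻¹ * x ^ (j : ℕ) = (x ^ (k : ℕ))⁻¹ := by
      refine ⟨⟨((i : ℕ) + (r - j)) % r, Nat.mod_lt _ hr.pos⟩, ?_⟩
      rw [← pow_eq_pow_mod _ hxr, eq_inv_iff_mul_eq_one, mul_assoc, ← pow_add,
        show (j : ℕ) + ((i : ℕ) + (r - j)) = r + i by have := j.2; omega, pow_add, hxr, one_mul,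
        inv_mul_cancel]
    rw [hk] at h1
    exact hall k h1.symm
  have h0 := eq_zero_of_sum_weightVec ρ _ hinj
    (Sum.elim (fun i : Fin r => ρ ((x : Γ) ^ (i : ℕ)) (b • v))
      (fun i : Fin r => ρ ((x : Γ) ^ (i : ℕ)) (-(a • w)))) ?_ ?_ (Sum.inr ⟨0, hr.pos⟩)
  · rw [Sum.elim_inr] at h0
    simp only [pow_zero, map_one, Module.End.one_apply, neg_eq_zero, smul_eq_zero] at h0
    exact h0.elim ha0 hw0
  · intro i
    rcases i with i | i <;> simp only [Sum.elim_inl, Sum.elim_inr]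
    · have := isWeightVec_apply ρ (show IsWeightVec ρ A χ (b • v) from fun c => by
        rw [map_smul, hv c, smul_comm]) (x ^ (i : ℕ))
      rwa [SubmonoidClass.coe_pow] at this
    · have := isWeightVec_apply ρ (show IsWeightVec ρ A ψ (-(a • w)) from fun c => by
        rw [map_neg, map_smul, hw c, smul_comm, smul_neg]) (x ^ (i : ℕ))
      rwa [SubmonoidClass.coe_pow] at this
  · rw [Fintype.sum_sum_type]
    simp only [Sum.elim_inl, Sum.elim_inr, map_smul, map_neg, Finset.sum_neg_distrib,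
      ← Finset.smul_sum, ha, hb, smul_smul, mul_comm b a, add_neg_cancel]

/-- If `x` moves every nontrivial character of `A` and `A` consists of commutators of a group `Q`
centralizing it, then `A` acts trivially. -/
theorem rep_eq_one_of_free_central [IsAlgClosed F] [FiniteDimensional F M] [Finite A]
    (hr : r.Prime) (hxr : x ^ r = 1) (hfix : ∀ v, ρ x v = v → ∃ c : F, v = c • u)
    {Q : Subgroup Γ} (hQA : A = ⁅Q, Q⁆) (hcent : Q ≤ centralizer (A : Set Γ))
    (hfree : ∀ a : A, conjHom A x a = a → a = 1) (hcharF : (Nat.card A : F) ≠ 0)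
    {a : Γ} (ha : a ∈ A) : ρ a = 1 := by
  by_contra hne
  have hcomm : ∀ b ∈ A, ∀ c ∈ A, b * c = c * b := fun b hb c hc => by
    have hbQ : b ∈ Q := Subgroup.commutator_le_self Q (hQA ▸ hb)
    exact (mem_centralizer_iff.1 (hcent hbQ) c hc).symm
  obtain ⟨χ, v, hv0, hv, hχa⟩ := exists_weight ρ hcomm hcharF ha hne
  have hχ : χ.comp (conjHom A x) ≠ χ := by
    intro h
    refine hχa ?_
    have hinj : Function.Injective (fun b : A => b⁻¹ * conjHom A x b) := fun b c hbc => by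
      have h1 : conjHom A x (c * b⁻¹) = c * b⁻¹ := by
        have hb' : conjHom A x b = b * (b⁻¹ * conjHom A x b) := by group
        have hc' : conjHom A x c = c * (c⁻¹ * conjHom A x c) := by group
        rw [map_mul, map_inv, hb', hc', show b⁻¹ * conjHom A x b = c⁻¹ * conjHom A x c from hbc]
        group
      exact (mul_inv_eq_one.1 (hfree _ h1)).symm
    obtain ⟨b, hb⟩ := Finite.surjective_of_injective hinj ⟨a, ha⟩
    rw [← hb]
    show χ (b⁻¹ * conjHom A x b) = 1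
    rw [map_mul, show χ (conjHom A x b) = χ b from DFunLike.congr_fun h b, ← map_mul,
      inv_mul_cancel, map_one]
  have hline : ∀ q ∈ Q, ∃ c : F, ρ q v = c • v := fun q hq =>
    weightVec_proportional ρ hr hxr hfix hv0 hv (fun b => by
      rw [← Module.End.mul_apply, ← map_mul, mem_centralizer_iff.1 (hcent hq) b b.2, map_mul,
        Module.End.mul_apply, hv, map_smul]) hχ
  have hle : A ≤ ((MulAction.stabilizer (Module.End F M)ˣ v).comap ρ.toHomUnits) := by
    rw [hQA, commutator_le]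
    intro p hp q hq
    rw [mem_comap, MulAction.mem_stabilizer_iff]
    show ρ ⁅p, q⁆ v = v
    obtain ⟨c, hc⟩ := hline _ (Q.inv_mem hp)
    obtain ⟨d, hd⟩ := hline _ (Q.inv_mem hq)
    obtain ⟨c', hc'⟩ := hline _ hp
    obtain ⟨d', hd'⟩ := hline _ hq
    have hcc : (c' * c) • v = (1 : F) • v := by
      rw [one_smul, mul_comm, mul_smul, ← hc', ← map_smul, ← hc, ← Module.End.mul_apply, ← map_mul,
        mul_inv_cancel, map_one, Module.End.one_apply]
    have hdd : (d' * d) • v = (1 : F) • v := by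
      rw [one_smul, mul_comm, mul_smul, ← hd', ← map_smul, ← hd, ← Module.End.mul_apply, ← map_mul,
        mul_inv_cancel, map_one, Module.End.one_apply]
    rw [commutatorElement_def, map_mul, map_mul, map_mul]
    simp only [Module.End.mul_apply, hd, map_smul, hc, hd', hc', smul_smul]
    rw [show d * (c * (d' * c')) = (c' * c) * (d' * d) by ring, smul_left_injective F hv0 hcc,
      smul_left_injective F hv0 hdd, mul_one, one_smul]
  refine hχa (smul_left_injective F hv0 ?_)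
  show χ ⟨a, ha⟩ • v = (1 : F) • v
  rw [one_smul, ← hv ⟨a, ha⟩]
  exact hle ha

/-- `P` fixes every weight. -/
theorem rep_conj_eq_of_fpf [IsAlgClosed F] [FiniteDimensional F M] [Finite A]
    (hr : r.Prime) (hr2 : r ≠ 2) (hxr : x ^ r = 1)
    (hfix : ∀ v, ρ x v = v → ∃ c : F, v = c • u) (hA : ∀ a ∈ A, ∀ b ∈ A, a * b = b * a)
    (hcharF : (Nat.card A : F) ≠ 0) {P : Subgroup (normalizer (A : Set Γ))} [Finite P]
    (hxP : ∀ g ∈ P, x * g * x⁻¹ ∈ P) (hfpf : ∀ g ∈ P, x * g = g * x → g = 1)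
    (hPodd : Odd (Nat.card P)) (hPr : (Nat.card P).Coprime r)
    {a : Γ} (ha : a ∈ A) {g : normalizer (A : Set Γ)} (hg : g ∈ P) :
    ρ (a⁻¹ * ((g : Γ) * a * (g : Γ)⁻¹)) = 1 := by
  classical
  by_contra hne
  obtain ⟨χ, v, hv0, hv, hχ⟩ := exists_weight ρ hA hcharF
    (A.mul_mem (A.inv_mem ha) ((mem_normalizer_iff.1 g.2 a).1 ha)) hne
  -- the action on characters
  letI : MulAction (normalizer (A : Set Γ)) (A →* F) :=
    { smul := fun h ψ => ψ.comp (conjHom A h⁻¹)
      one_smul := fun ψ => by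
        show ψ.comp (conjHom A 1⁻¹) = ψ
        rw [inv_one, conjHom_one, MonoidHom.comp_id]
      mul_smul := fun h k ψ => by
        show ψ.comp (conjHom A (h * k)⁻¹) = (ψ.comp (conjHom A k⁻¹)).comp (conjHom A h⁻¹)
        rw [mul_inv_rev, conjHom_mul, MonoidHom.comp_assoc] }
  have hsmul : ∀ (h : normalizer (A : Set Γ)) (ψ : A →* F), h • ψ = ψ.comp (conjHom A h⁻¹) :=
    fun _ _ => rfl
  have hgχ : g • χ ≠ χ := by
    intro h
    refine hχ ?_
    have h1 := DFunLike.congr_fun h (conjHom A g ⟨a, ha⟩)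
    rw [hsmul, MonoidHom.comp_apply, ← MonoidHom.comp_apply (conjHom A g⁻¹), ← conjHom_mul,
      inv_mul_cancel, conjHom_one, MonoidHom.id_apply] at h1
    have e : (⟨a⁻¹ * ((g : Γ) * a * (g : Γ)⁻¹),
        A.mul_mem (A.inv_mem ha) ((mem_normalizer_iff.1 g.2 a).1 ha)⟩ : A) =
          ⟨a, ha⟩⁻¹ * conjHom A g ⟨a, ha⟩ := rfl
    rw [e, map_mul, ← h1, ← map_mul, inv_mul_cancel, map_one]
  -- weights and moved weights
  have hmoved : ∀ ψ : A →* F, x • ψ ≠ ψ → ψ.comp (conjHom A x) ≠ ψ := fun ψ h he => h (by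
    rw [hsmul]
    conv_lhs => rw [← he]
    rw [MonoidHom.comp_assoc, ← conjHom_mul, mul_inv_cancel, conjHom_one, MonoidHom.comp_id])
  have hwt : ∀ (h : normalizer (A : Set Γ)) (ψ : A →* F), (∃ w, w ≠ 0 ∧ IsWeightVec ρ A ψ w) →
      ∃ w, w ≠ 0 ∧ IsWeightVec ρ A (h • ψ) w := fun h ψ ⟨w, hw0, hw⟩ =>
    ⟨ρ h w, apply_ne_zero hw0 _, by rw [hsmul]; exact isWeightVec_apply ρ hw h⟩
  let W : Set (A →* F) := {ψ | (∃ w, w ≠ 0 ∧ IsWeightVec ρ A ψ w) ∧ x • ψ ≠ ψ}
  have hW : ∀ ψ ∈ W, ∀ φ ∈ W, ∃ i : Fin r, φ = x ^ (i : ℕ) • ψ := by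
    rintro ψ ⟨⟨w, hw0, hw⟩, hψ⟩ φ ⟨⟨z, hz0, hz⟩, hφ⟩
    obtain ⟨i, hi⟩ := exists_translate ρ hr hxr hfix hw0 hw hz0 hz (hmoved ψ hψ) (hmoved φ hφ)
    exact ⟨i, hi.trans (hsmul _ _).symm⟩
  have hW' : ∀ ψ ∈ W, W = Set.range (fun i : Fin r => x ^ (i : ℕ) • ψ) := by
    intro ψ hψ
    refine Set.Subset.antisymm (fun φ hφ => (hW ψ hψ φ hφ).imp fun i hi => hi.symm) ?_
    rintro _ ⟨i, rfl⟩
    refine ⟨hwt _ ψ hψ.1, fun h => hψ.2 (smul_left_cancel (x ^ (i : ℕ)) ?_)⟩
    rwa [← mul_smul, ← (Commute.self_pow x (i : ℕ)).eq, mul_smul]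
  have hWfin : W.Finite := by
    rcases W.eq_empty_or_nonempty with h | ⟨ψ, hψ⟩
    · rw [h]; exact Set.finite_empty
    · rw [hW' ψ hψ]; exact Set.finite_range _
  have hWcard : W.Nonempty → W.ncard = r := by
    rintro ⟨ψ, hψ⟩
    have hinj : Function.Injective (fun i : Fin r => x ^ (i : ℕ) • ψ) := by
      have : (fun i : Fin r => x ^ (i : ℕ) • ψ) =
          fun i : Fin r => ψ.comp (conjHom A (x ^ (i : ℕ))⁻¹) := funext fun i => hsmul _ _
      rw [this]
      exact translate_injective hr hxr (hmoved ψ hψ.2)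
    rw [hW' ψ hψ, Set.ncard_range_of_injective hinj, Nat.card_fin]
  have horb : ∀ ψ : A →* F, Odd (MulAction.orbit P ψ).ncard ∧
      (MulAction.orbit P ψ).ncard ∣ Nat.card P ∧ (MulAction.orbit P ψ).Finite := by
    intro ψ
    have h1 : (MulAction.orbit P ψ).ncard = (MulAction.stabilizer P ψ).index := by
      rw [← Nat.card_coe_set_eq, Nat.card_congr (MulAction.orbitEquivQuotientStabilizer P ψ)]
      rfl
    have hd : (MulAction.orbit P ψ).ncard ∣ Nat.card P := h1 ▸ Subgroup.index_dvd_card _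
    exact ⟨hPodd.of_dvd_nat hd, hd, Set.finite_range _⟩
  have hxorb : ∀ y : normalizer (A : Set Γ), (∀ k ∈ P, y * k * y⁻¹ ∈ P) → ∀ ψ φ : A →* F,
      y • ψ ∈ MulAction.orbit P ψ → φ ∈ MulAction.orbit P ψ → y • φ ∈ MulAction.orbit P ψ := by
    rintro y hy ψ _ ⟨h, hh⟩ ⟨k, rfl⟩
    refine ⟨⟨y * k * y⁻¹, hy k k.2⟩ * h, ?_⟩
    show ((y * (k : normalizer (A : Set Γ)) * y⁻¹) * h) • ψ = y • ((k : normalizer (A : Set Γ)) • ψ)
    rw [mul_smul, show ((h : normalizer (A : Set Γ)) • ψ) = y • ψ from hh, ← mul_smul,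
      inv_mul_cancel_right, mul_smul]
  have hpowP : ∀ m : ℕ, ∀ k ∈ P, x ^ m * k * (x ^ m)⁻¹ ∈ P := by
    intro m
    induction m with
    | zero => intro k hk; simpa using hk
    | succ m ih =>
      intro k hk
      have := hxP _ (ih k hk)
      rw [pow_succ']
      simpa [mul_assoc] using this
  -- fixed weights are fixed by `P`
  have hfixed : ∀ ψ : A →* F, (∃ w, w ≠ 0 ∧ IsWeightVec ρ A ψ w) → x • ψ = ψ →
      ∀ h ∈ P, h • ψ = ψ := by
    intro ψ hψw hψ h hh
    set O := MulAction.orbit P ψ with hO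
    have huniq : ∀ φ ∈ O, x • φ = φ → φ = ψ := by
      rintro _ ⟨k, rfl⟩ hk
      -- `k` differs from an element commuting with `x` by an element fixing `ψ`
      let S : Subgroup P := MulAction.stabilizer P ψ
      let c : P → P := fun s => ⟨x * s * x⁻¹, hxP s s.2⟩
      have hcS : ∀ s ∈ S, c s ∈ S := by
        intro s hs
        show (x * (s : normalizer (A : Set Γ)) * x⁻¹) • ψ = ψ
        rw [mul_smul, mul_smul, show x⁻¹ • ψ = ψ from inv_smul_eq_iff.2 hψ.symm,
          show (s : normalizer (A : Set Γ)) • ψ = ψ from hs, hψ]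
      have hinj : Function.Injective (fun s : S => (⟨(s : P)⁻¹ * c s,
          S.mul_mem (S.inv_mem s.2) (hcS s s.2)⟩ : S)) := by
        intro s t hst
        have h1 : ((s : P) : normalizer (A : Set Γ))⁻¹ * (x * ((s : P) : normalizer (A : Set Γ)) * x⁻¹) =
            ((t : P) : normalizer (A : Set Γ))⁻¹ * (x * ((t : P) : normalizer (A : Set Γ)) * x⁻¹) :=
          congrArg (fun y : S => ((y : P) : normalizer (A : Set Γ))) hst
        set s' := ((s : P) : normalizer (A : Set Γ))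
        set t' := ((t : P) : normalizer (A : Set Γ))
        have h2 : x * (t' * s'⁻¹) = (t' * s'⁻¹) * x := by
          calc x * (t' * s'⁻¹) = t' * (t'⁻¹ * (x * t' * x⁻¹)) * (x * s'⁻¹) := by group
            _ = t' * (s'⁻¹ * (x * s' * x⁻¹)) * (x * s'⁻¹) := by rw [h1]
            _ = (t' * s'⁻¹) * x := by group
        have h3 := hfpf _ (P.mul_mem (t : P).2 (P.inv_mem (s : P).2)) h2
        exact Subtype.ext (Subtype.ext (mul_inv_eq_one.1 h3).symm)
      have hkS : k⁻¹ * c k ∈ S := by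
        show ((k : normalizer (A : Set Γ))⁻¹ * (x * (k : normalizer (A : Set Γ)) * x⁻¹)) • ψ = ψ
        rw [mul_smul, mul_smul, mul_smul, show x⁻¹ • ψ = ψ from inv_smul_eq_iff.2 hψ.symm,
          show x • ((k : normalizer (A : Set Γ)) • ψ) = (k : normalizer (A : Set Γ)) • ψ from hk,
          inv_smul_smul]
      obtain ⟨s, hs⟩ := Finite.surjective_of_injective hinj ⟨_, hkS⟩
      have h1 : ((s : P) : normalizer (A : Set Γ))⁻¹ * (x * ((s : P) : normalizer (A : Set Γ)) * x⁻¹) =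
          (k : normalizer (A : Set Γ))⁻¹ * (x * (k : normalizer (A : Set Γ)) * x⁻¹) :=
        congrArg (fun y : S => ((y : P) : normalizer (A : Set Γ))) hs
      set s' := ((s : P) : normalizer (A : Set Γ))
      set k' := (k : normalizer (A : Set Γ))
      have h2 : x * (k' * s'⁻¹) = (k' * s'⁻¹) * x := by
        calc x * (k' * s'⁻¹) = k' * (k'⁻¹ * (x * k' * x⁻¹)) * (x * s'⁻¹) := by group
          _ = k' * (s'⁻¹ * (x * s' * x⁻¹)) * (x * s'⁻¹) := by rw [h1]
          _ = (k' * s'⁻¹) * x := by group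
      have h3 := mul_inv_eq_one.1 (hfpf _ (P.mul_mem k.2 (P.inv_mem (s : P).2)) h2)
      show k' • ψ = ψ
      rw [show k' = s' from h3]
      exact s.2
    by_contra hne'
    obtain ⟨hodd, -, hOfin⟩ := horb ψ
    have hψO : ψ ∈ O := MulAction.mem_orbit_self ψ
    have hhO : h • ψ ∈ O := ⟨⟨h, hh⟩, rfl⟩
    have hxψ : x • ψ ∈ O := by rw [hψ]; exact hψO
    have hOW : O \ {ψ} ⊆ W := by
      rintro φ ⟨⟨k, rfl⟩, hφ⟩
      exact ⟨hwt _ ψ hψw, fun he => hφ (huniq _ ⟨k, rfl⟩ he)⟩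
    have hWO : W ⊆ O \ {ψ} := by
      intro φ hφ
      obtain ⟨i, rfl⟩ := hW (h • ψ) (hOW ⟨hhO, hne'⟩) φ hφ
      refine ⟨?_, fun he => hφ.2 (by rw [Set.mem_singleton_iff.1 he, hψ])⟩
      have hpow : ∀ m : ℕ, x ^ m • (h • ψ) ∈ O := by
        intro m
        induction m with
        | zero => rw [pow_zero, one_smul]; exact hhO
        | succ m ih => rw [pow_succ', mul_smul]; exact hxorb x hxP ψ _ hxψ ih
      exact hpow i
    have hc := hWcard ⟨_, hOW ⟨hhO, hne'⟩⟩
    rw [Set.Subset.antisymm hWO hOW, Set.ncard_diff_singleton_of_mem hψO] at hc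
    have hpos : 0 < O.ncard := (Set.ncard_pos hOfin).2 ⟨ψ, hψO⟩
    obtain ⟨t, ht⟩ := hr.odd_of_ne_two hr2
    obtain ⟨t', ht'⟩ := hodd
    change O.ncard = 2 * t' + 1 at ht'
    omega
  -- the orbit of `χ`
  by_cases hxχ : x • χ = χ
  · exact hgχ (hfixed χ ⟨v, hv0, hv⟩ hxχ g hg)
  have hχW : χ ∈ W := ⟨⟨v, hv0, hv⟩, hxχ⟩
  set O := MulAction.orbit P χ with hO
  have hOW : O ⊆ W := by
    rintro _ ⟨k, rfl⟩
    refine ⟨hwt _ χ ⟨v, hv0, hv⟩, fun hk => ?_⟩
    change x • ((k : normalizer (A : Set Γ)) • χ) = (k : normalizer (A : Set Γ)) • χ at hk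
    have h1 := hfixed _ (hwt (k : normalizer (A : Set Γ)) χ ⟨v, hv0, hv⟩) hk _ (P.inv_mem k.2)
    rw [inv_smul_smul] at h1
    exact hxχ (by rw [h1]; exact hk)
  have hgO : g • χ ∈ O := ⟨⟨g, hg⟩, rfl⟩
  obtain ⟨i, hi⟩ := hW χ hχW _ (hOW hgO)
  have hi0 : 0 < (i : ℕ) := Nat.pos_of_ne_zero fun h => hgχ (by rw [hi, h, pow_zero, one_smul])
  obtain ⟨e, he⟩ := Nat.exists_mul_mod_eq_one_of_coprime
    (hr.coprime_iff_not_dvd.2 (Nat.not_dvd_of_pos_of_lt hi0 i.2)).symm hr.one_lt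
  have hiO : x ^ (i : ℕ) • χ ∈ O := hi ▸ hgO
  have hxO : x • χ ∈ O := by
    have hp : ∀ m : ℕ, (x ^ (i : ℕ)) ^ m • χ ∈ O := by
      intro m
      induction m with
      | zero => rw [pow_zero, one_smul]; exact MulAction.mem_orbit_self χ
      | succ m ih => rw [pow_succ', mul_smul]; exact hxorb _ (hpowP i) χ _ hiO ih
    have h2 := hp e
    rwa [← pow_mul, pow_eq_pow_mod _ hxr, he.2, pow_one] at h2
  have hWO : W ⊆ O := by
    intro φ hφ
    obtain ⟨j, rfl⟩ := hW χ hχW φ hφ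
    have hp : ∀ m : ℕ, x ^ m • χ ∈ O := by
      intro m
      induction m with
      | zero => rw [pow_zero, one_smul]; exact MulAction.mem_orbit_self χ
      | succ m ih => rw [pow_succ', mul_smul]; exact hxorb x hxP χ _ hxO ih
    exact hp j
  have hc := hWcard ⟨χ, hχW⟩
  rw [Set.Subset.antisymm hWO hOW] at hc
  obtain ⟨-, hd, -⟩ := horb χ
  rw [hc] at hd
  exact hr.not_dvd_one (hPr ▸ Nat.dvd_gcd hd dvd_rfl)

end Orbit

end CfsgLib.OddOrder
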