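import Cfsg.Agent.OddOrder.BG3.Prop38
import Cfsg.Agent.OddOrder.BG3.WeightLemmas
import Cfsg.Agent.OddOrder.BG3.FixedLine

/-!
# BG 3.6: the two configurations of a minimal counterexample

`V` is the elementary abelian `p`-core, `Q` a `p'`-group acting faithfully on it, `P` a `p`-group
acting on `Q`, and `R₀` of prime order acts on all of them with small fixed points.
-/

set_option autoImplicit false
set_option linter.style.haveILetI false

namespace CfsgLib.OddOrder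

open Subgroup Cfsg
open scoped commutatorElement

universe u

variable {X : Type u} [Group X] [Finite X]

/-- A cyclic `p`-group has at most one subgroup of order `p`. -/
theorem eq_bot_or_eq_bot_of_isCyclic {p : ℕ} [Fact p.Prime] {A B C : Subgroup X} [IsCyclic C]
    (hC : IsPGroup p C) (hA : A ≤ C) (hB : B ≤ C) (h : A ⊓ B = ⊥) : A = ⊥ ∨ B = ⊥ := by
  by_contra hne
  push Not at hne
  have key : ∀ D : Subgroup X, D ≤ C → D ≠ ⊥ → ∃ d ∈ D, d ≠ 1 ∧ d ^ p = 1 := by
    intro D hD hD1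
    have hd : p ∣ Nat.card D := by
      obtain ⟨n, hn⟩ := IsPGroup.iff_card.1 (hC.to_le hD)
      rw [hn]
      exact dvd_pow_self p fun h0 => hD1 (Subgroup.card_eq_one.1 (by rw [hn, h0, pow_zero]))
    obtain ⟨d, hd⟩ := exists_prime_orderOf_dvd_card' (G := D) p hd
    rw [← Subgroup.orderOf_coe] at hd
    exact ⟨d, d.2, fun h1 => by rw [h1, orderOf_one] at hd; exact (Fact.out : p.Prime).one_lt.ne hd,
      hd ▸ pow_orderOf_eq_one _⟩
  obtain ⟨a, ha, ha1, hap⟩ := key A hA hne.1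
  obtain ⟨b, hb, hb1, hbp⟩ := key B hB hne.2
  have hdis : zpowers a ⊓ zpowers b = ⊥ :=
    le_bot_iff.1 ((inf_le_inf (zpowers_le.2 ha) (zpowers_le.2 hb)).trans h.le)
  have hcomm : ∀ x ∈ C, ∀ y ∈ C, Commute x y := by
    intro x hx y hy
    obtain ⟨g, hg⟩ := IsCyclic.exists_generator (α := C)
    obtain ⟨i, hi⟩ := mem_zpowers_iff.1 (hg ⟨x, hx⟩)
    obtain ⟨j, hj⟩ := mem_zpowers_iff.1 (hg ⟨y, hy⟩)
    have h1 : (⟨x, hx⟩ : C) * ⟨y, hy⟩ = ⟨y, hy⟩ * ⟨x, hx⟩ := by
      rw [← hi, ← hj, ← zpow_add, ← zpow_add, add_comm]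
    exact congrArg Subtype.val h1
  let S : Subgroup X :=
    { carrier := {z | z ∈ C ∧ z ^ p = 1}
      one_mem' := ⟨one_mem C, one_pow p⟩
      mul_mem' := fun {x y} hx hy => ⟨C.mul_mem hx.1 hy.1, by
        rw [(hcomm x hx.1 y hy.1).mul_pow, hx.2, hy.2, one_mul]⟩
      inv_mem' := fun {x} hx => ⟨C.inv_mem hx.1, by rw [inv_pow, hx.2, inv_one]⟩ }
  haveI : IsCyclic S := Subgroup.isCyclic_of_le (fun x hx => hx.1 : S ≤ C)
  have hS : Nat.card S ≤ p :=
    card_le_of_isCyclic_of_pow (Fact.out : p.Prime).pos fun g => Subtype.ext g.2.2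
  have ha' : zpowers a = S := eq_of_le_of_card_ge (zpowers_le.2 ⟨hA ha, hap⟩)
    (by rw [Nat.card_zpowers, orderOf_eq_prime hap ha1]; exact hS)
  have hb' : zpowers b = S := eq_of_le_of_card_ge (zpowers_le.2 ⟨hB hb, hbp⟩)
    (by rw [Nat.card_zpowers, orderOf_eq_prime hbp hb1]; exact hS)
  rw [ha', hb', inf_idem] at hdis
  exact ha1 (zpowers_eq_bot.1 (ha'.trans hdis))

/-- Automorphisms of a cyclic group commute. -/
theorem mulAut_commute_of_isCyclic {C : Type*} [Group C] [IsCyclic C] (σ τ : MulAut C) :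
    σ * τ = τ * σ := by
  obtain ⟨i, hi⟩ := MonoidHom.map_cyclic σ.toMonoidHom
  obtain ⟨j, hj⟩ := MonoidHom.map_cyclic τ.toMonoidHom
  refine MulEquiv.ext fun c => ?_
  show σ.toMonoidHom (τ.toMonoidHom c) = τ.toMonoidHom (σ.toMonoidHom c)
  rw [hj c, hi (c ^ j), hi c, hj (c ^ i), ← zpow_mul, ← zpow_mul, mul_comm]

/-- BG 3.6, the configuration `C_V(R₀) = 1`. -/
theorem false_of_fixed_trivial {p : ℕ} [Fact p.Prime] {V Q P N H R R₀ : Subgroup X} [V.Normal]
    (hVc : IsMulCommutative V) (hVp : ∀ v ∈ V, v ^ p = 1) (hH : Group.IsSolvable H)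
    (hQN : Q ≤ N) (hPN : P ≤ N) (hNH : N ≤ H) (hHodd : Odd (Nat.card H))
    (hQp : (Nat.card Q).Coprime p) (hPp : IsPGroup p P) (hPQ : P ≤ normalizer (Q : Set X))
    (hNL : N ≤ normalizer ((Q ⊔ P : Subgroup X) : Set X))
    (hRL : R ≤ normalizer ((Q ⊔ P : Subgroup X) : Set X))
    (hNR : ⁅N, R⁆ = N) (hR₀R : R₀ ≤ R) (hR₀Q : R₀ ≤ normalizer (Q : Set X))
    (hR₀P : R₀ ≤ normalizer (P : Set X)) (hr : (Nat.card R₀).Prime) (hr2 : Nat.card R₀ ≠ 2)
    (hrp : Nat.card R₀ ≠ p) (hrH : (Nat.card R₀).Coprime (Nat.card H))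
    (hfaith : Q ⊓ centralizer (V : Set X) = ⊥) (hP1 : P ≠ ⊥)
    (hPC : P ⊓ centralizer (Q : Set X) = ⊥) (hfix : V ⊓ centralizer (R₀ : Set X) = ⊥)
    (hZ : IsZGroup ↥(H ⊓ centralizer (R₀ : Set X))) : False := by
  haveI := hH
  haveI : Group.IsSolvable Q := Coprime.isSolvable_of_le (hQN.trans hNH)
  have hQR : ⁅Q, R₀⁆ = ⊥ := by
    have hnV : ∀ A : Subgroup X, A ≤ normalizer (V : Set X) := fun A => by
      rw [normalizer_eq_top]; exact le_top
    refine le_bot_iff.1 ((le_inf (Coprime.commutator_le_of_le_normalizer hR₀Q) ?_).trans hfaith.le)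
    exact commutator_le_centralizer_of_rfix0 p ⟨hVc, hVp⟩ inferInstance hR₀Q (hnV Q) (hnV R₀) hr
      hr2 hrp (hHodd.of_dvd_nat (card_dvd_of_le (hQN.trans hNH))) hQp
      (hrH.coprime_dvd_right (card_dvd_of_le (hQN.trans hNH))) hfix
  have hPR : ⁅P, R₀⁆ = ⊥ := by
    refine le_bot_iff.1 ((le_inf (Coprime.commutator_le_of_le_normalizer hR₀P) ?_).trans hPC.le)
    rw [← commutator_eq_bot_iff_le_centralizer]
    refine commutator_commutator_eq_bot_of_rotate ?_ ?_
    · rw [commutator_comm R₀, hQR, commutator_bot_left]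
    · exact le_bot_iff.1 ((commutator_mono
        (Coprime.commutator_le_of_le_normalizer hPQ) le_rfl).trans hQR.le)
  set L := Q ⊔ P with hL
  have hLH : L ≤ H := sup_le (hQN.trans hNH) (hPN.trans hNH)
  have hLC : L ≤ H ⊓ centralizer (R₀ : Set X) := le_inf hLH (sup_le
    (commutator_eq_bot_iff_le_centralizer.1 hQR) (commutator_eq_bot_iff_le_centralizer.1 hPR))
  haveI := hZ
  haveI hLZ : IsZGroup L := IsZGroup.of_injective (Subgroup.inclusion_injective hLC)
  set F := Cfsg.fittingOf L with hF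
  haveI : Group.IsNilpotent F := isNilpotent_fittingOf L
  haveI : IsZGroup F := IsZGroup.of_injective (Subgroup.inclusion_injective (fittingOf_le L))
  have hnF : N ⊔ R ≤ normalizer (F : Set X) :=
    (sup_le hNL hRL).trans (normalizer_le_normalizer_fittingOf L)
  let φ : ↥(N ⊔ R) →* MulAut F := (normalizerMonoidHom F).comp (Subgroup.inclusion hnF)
  have hNF : ⁅N, R⁆ ≤ centralizer (F : Set X) := by
    refine commutator_le.2 fun n hn r hr => mem_centralizer_iff.2 fun c hc => ?_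
    have h1 : φ ⁅(⟨n, (le_sup_left : N ≤ N ⊔ R) hn⟩ : ↥(N ⊔ R)),
        ⟨r, (le_sup_right : R ≤ N ⊔ R) hr⟩⁆ = 1 := by
      rw [map_commutatorElement, commutatorElement_eq_one_iff_mul_comm]
      exact mulAut_commute_of_isCyclic _ _
    have h2 := congrArg Subtype.val (DFunLike.congr_fun h1 ⟨c, hc⟩)
    exact (mul_inv_eq_iff_eq_mul.1 h2).symm
  rw [hNR] at hNF
  have hLF : L ≤ F := (le_inf le_rfl ((sup_le hQN hPN).trans hNF)).trans
    (inf_centralizer_fittingOf_le (Coprime.isSolvable_of_le hLH))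
  have hPQ' : P ≤ centralizer (Q : Set X) :=
    ((nilpotent_le_piCoreOf (π := ({p} : Set ℕ)) (inferInstance : Group.IsNilpotent F)
      (le_sup_right.trans hLF) (isPiSubgroup_of_isPGroup hPp rfl)).trans
      (piCoreOf_le_centralizer_piCoreOf F (ρ := {q | q ≠ p})
        (Set.disjoint_left.2 fun q hq hq' => hq' hq))).trans
      (centralizer_le (SetLike.coe_subset_coe.2 (nilpotent_le_piCoreOf
        (inferInstance : Group.IsNilpotent F) (le_sup_left.trans hLF) fun q hq hd => ?_)))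
  · exact hP1 ((le_inf le_rfl hPQ').trans hPC.le |> le_bot_iff.1)
  · exact fun he => (Fact.out : p.Prime).not_dvd_one (hQp ▸ Nat.dvd_gcd (he ▸ hd) dvd_rfl)

/-- BG 3.6, the configuration `C_P(R₀) = 1`, `#C_V(R₀) ≤ p`. -/
theorem false_of_fixed_line {p : ℕ} [Fact p.Prime] {V Q P R₀ : Subgroup X} [V.Normal]
    (hVc : IsMulCommutative V) (hVp : ∀ v ∈ V, v ^ p = 1) (hQs : Group.IsSolvable Q)
    (hQodd : Odd (Nat.card Q)) (hQp : (Nat.card Q).Coprime p) (hPp : IsPGroup p P)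
    (hPodd : Odd (Nat.card P)) (hPQ : P ≤ normalizer (Q : Set X))
    (hR₀Q : R₀ ≤ normalizer (Q : Set X)) (hR₀P : R₀ ≤ normalizer (P : Set X))
    (hr : (Nat.card R₀).Prime) (hr2 : Nat.card R₀ ≠ 2) (hrp : Nat.card R₀ ≠ p)
    (hrQ : (Nat.card R₀).Coprime (Nat.card Q))
    (hfaith : Q ⊓ centralizer (V : Set X) = ⊥) (hP1 : P ≠ ⊥)
    (hPC : P ⊓ centralizer (Q : Set X) = ⊥) (hfixP : P ⊓ centralizer (R₀ : Set X) = ⊥)
    (hfix : Nat.card ↥(V ⊓ centralizer (R₀ : Set X)) ≤ p)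
    (hZ : IsZGroup ↥(Q ⊓ centralizer (R₀ : Set X))) : False := by
  classical
  haveI := hQs
  haveI := hZ
  set r := Nat.card R₀
  obtain ⟨nP, hnP⟩ := IsPGroup.iff_card.1 hPp
  have hrp' : r.Coprime p := (Nat.coprime_primes hr Fact.out).2 hrp
  have hPrc : (Nat.card P).Coprime r := hnP ▸ hrp'.symm.pow_left _
  have hdisj : P ⊓ R₀ = ⊥ := Coprime.inf_eq_bot_of_coprime hPrc
  have hAcop : (Nat.card ↥(P ⊔ R₀)).Coprime (Nat.card Q) := by
    rw [Coprime.card_sup_eq hR₀P hdisj, hnP]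
    exact (hQp.symm.pow_left _).mul_left hrQ
  -- some invariant Sylow subgroup of `Q` is moved by `P`
  obtain ⟨q, hq, S, hSA, hSP⟩ : ∃ (q : ℕ) (_ : Fact q.Prime) (S : Sylow q Q),
      P ⊔ R₀ ≤ normalizer (((S : Subgroup Q).map Q.subtype : Subgroup X) : Set X) ∧
      ¬ P ≤ centralizer (((S : Subgroup Q).map Q.subtype : Subgroup X) : Set X) := by
    by_contra hall
    push Not at hall
    refine hP1 (le_bot_iff.1 ((le_inf le_rfl (le_centralizer_of_forall_sylow fun q hq => ?_)).trans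
      hPC.le))
    obtain ⟨S, hS⟩ := Coprime.exists_invariant_sylow (sup_le hPQ hR₀Q) hAcop (Or.inr hQs) q
    exact ⟨S, hall q hq S hS⟩
  -- a minimal one
  obtain ⟨Y, ⟨hYQ, hYq, hYA, hYP⟩, hmin⟩ := (wellFounded_lt (α := Subgroup X)).has_min
    {Y | Y ≤ Q ∧ IsPGroup q Y ∧ P ⊔ R₀ ≤ normalizer (Y : Set X) ∧ ¬ P ≤ centralizer (Y : Set X)}
    ⟨_, map_subtype_le _, S.2.map _, hSA, hSP⟩
  have hsmall : ∀ Z : Subgroup X, Z < Y → P ⊔ R₀ ≤ normalizer (Z : Set X) →
      P ≤ centralizer (Z : Set X) := fun Z hZ hZA => by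
    by_contra hne
    exact hmin Z ⟨hZ.le.trans hYQ, hYq.to_le hZ.le, hZA, hne⟩ hZ
  have hPY : P ≤ normalizer (Y : Set X) := le_sup_left.trans hYA
  have hR₀Y : R₀ ≤ normalizer (Y : Set X) := le_sup_right.trans hYA
  have hYd : Nat.card Y ∣ Nat.card Q := card_dvd_of_le hYQ
  have hPYc : (Nat.card P).Coprime (Nat.card Y) :=
    (hAcop.coprime_dvd_left (card_dvd_of_le le_sup_left)).coprime_dvd_right hYd
  have heq : ⁅Y, P⁆ = Y := by
    by_contra hne
    refine hYP (Coprime.le_centralizer_of_commutator_commutator_eq_bot hPY hPYc ?_)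
    rw [commutator_eq_bot_iff_le_centralizer, le_centralizer_iff]
    refine hsmall _ (lt_of_le_of_ne (Coprime.commutator_le_of_le_normalizer hPY) hne)
      (sup_le (le_sup_right.trans (Coprime.sup_le_normalizer_commutator Y P)) fun g hg => ?_)
    rw [mem_normalizer_iff_map_conj_eq, map_commutator,
      mem_normalizer_iff_map_conj_eq.1 (hR₀Y hg), mem_normalizer_iff_map_conj_eq.1 (hR₀P hg)]
  haveI := hYq.isNilpotent
  have hY1 : Y ≠ ⊥ := fun h => hYP (by
    intro g _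
    exact mem_centralizer_iff.2 fun y hy => by rw [h] at hy; simp [mem_bot.1 hy])
  haveI : Nontrivial Y := (Subgroup.nontrivial_iff_ne_bot Y).2 hY1
  have hfr := Stab.frattini_facts hYq
  set D := (frattini Y).map Y.subtype with hD
  have hDY : D < Y := by
    refine lt_of_le_of_ne (map_subtype_le _) fun h => hfr.2.2 inferInstance ?_
    refine map_injective Y.subtype_injective ?_
    rw [← hD, h, ← MonoidHom.range_eq_map, range_subtype]
  have hDn : ∀ g ∈ normalizer (Y : Set X), ∀ z ∈ D, g * z * g⁻¹ ∈ D := fun g hg z hz =>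
    Stab.map_subtype_conj_mem (frattini Y) hg hz
  have hDA : P ⊔ R₀ ≤ normalizer (D : Set X) := fun g hg => mem_normalizer_iff.2 fun z =>
    ⟨hDn g (hYA hg) z, fun hz => by
      have := hDn g⁻¹ (inv_mem (hYA hg)) _ hz
      simpa [mul_assoc] using this⟩
  have hPD : P ≤ centralizer (D : Set X) := hsmall D hDY hDA
  have hYD : Y ≤ centralizer (D : Set X) := by
    rw [← commutator_eq_bot_iff_le_centralizer]
    conv_lhs => rw [← heq]
    refine commutator_commutator_eq_bot_of_rotate ?_ ?_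
    · rw [commutator_eq_bot_iff_le_centralizer.2 hPD, commutator_bot_left]
    · refine le_bot_iff.1 ((commutator_mono (show ⁅D, Y⁆ ≤ D from ?_) le_rfl).trans
        (commutator_eq_bot_iff_le_centralizer.2 (le_centralizer_iff.1 hPD)).le)
      refine commutator_le.2 fun z hz y hy => ?_
      rw [commutatorElement_def, show z * y * z⁻¹ * y⁻¹ = z * (y * z⁻¹ * y⁻¹) by group]
      exact D.mul_mem hz (hDn y (le_normalizer hy) _ (D.inv_mem hz))
  -- exponent `q`
  have hcenD : ∀ d : Y, (d : X) ∈ D → ∀ z : Y, Commute d z := fun d hd z =>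
    Subtype.ext ((mem_centralizer_iff.1 (hYD z.2) d hd))
  have hcd : ∀ a b : Y, ((⁅a, b⁆ : Y) : X) ∈ D := fun a b => mem_map_of_mem _ (hfr.1 a b)
  have hpd : ∀ a : Y, ((a ^ q : Y) : X) ∈ D := fun a => mem_map_of_mem _ (hfr.2.1 a)
  have hq2 : q ≠ 2 := fun h => by
    obtain ⟨n, hn⟩ := IsPGroup.iff_card.1 hYq
    have h1 := hQodd.of_dvd_nat hYd
    rw [hn, h, Nat.odd_pow_iff (fun h0 => hY1 (Subgroup.card_eq_one.1 (by rw [hn, h0, pow_zero])))] at h1
    exact absurd h1 (by decide)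
  have hmulq : ∀ a b : Y, (a * b) ^ q = a ^ q * b ^ q := by
    intro a b
    rw [Stab.mul_pow_of_commutator_central (fun z => hcenD _ (hcd b a) z) q]
    have h1 : ⁅b, a⁆ ^ q = 1 := by
      rw [← Stab.commutatorElement_pow_left (hcenD _ (hcd b a) b).symm,
        commutatorElement_eq_one_iff_mul_comm]
      exact (hcenD _ (hpd b) a).eq
    obtain ⟨k, hk⟩ : q ∣ q.choose 2 :=
      (Fact.out : q.Prime).dvd_choose_self two_ne_zero
        (lt_of_le_of_ne (Fact.out : q.Prime).two_le (Ne.symm hq2))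
    rw [hk, pow_mul, h1, one_pow, mul_one]
  let T : Subgroup X := Subgroup.map Y.subtype
    { carrier := {y : Y | y ^ q = 1}
      one_mem' := one_pow q
      mul_mem' := fun {a b} (ha : a ^ q = 1) (hb : b ^ q = 1) => by
        show (a * b) ^ q = 1
        rw [hmulq, ha, hb, one_mul]
      inv_mem' := fun {a} (ha : a ^ q = 1) => by
        show a⁻¹ ^ q = 1
        rw [inv_pow, ha, inv_one] }
  have hexp : ∀ y : Y, y ^ q = 1 := by
    have hle : Y ≤ T := by
      conv_lhs => rw [← heq]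
      refine commutator_le.2 fun y hy g hg => ?_
      have hu : g * y⁻¹ * g⁻¹ ∈ Y := (mem_normalizer_iff.1 (hPY hg) _).1 (Y.inv_mem hy)
      refine ⟨⟨y, hy⟩ * ⟨_, hu⟩, ?_, by simp [commutatorElement_def, mul_assoc]⟩
      show (⟨y, hy⟩ * ⟨_, hu⟩ : Y) ^ q = 1
      rw [hmulq]
      refine Subtype.ext ?_
      have h1 : Commute g (y ^ q) :=
        ((mem_centralizer_iff.1 (hPD hg) (y ^ q) (by simpa using hpd ⟨y, hy⟩))).symm
      show y ^ q * (g * y⁻¹ * g⁻¹) ^ q = 1
      rw [conj_pow, inv_pow, (h1.inv_right).eq, mul_inv_cancel_right, mul_inv_cancel]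
    intro y
    obtain ⟨z, hz, hzy⟩ := hle y.2
    rw [← show z = y from Subtype.ext hzy]
    exact hz
  -- the fixed points of `R₀` avoid the derived group
  obtain ⟨⟨x, hxR⟩, hx1⟩ : ∃ x : R₀, x ≠ 1 := by
    haveI : Nontrivial R₀ := Finite.one_lt_card_iff_nontrivial.1 hr.one_lt
    exact exists_ne 1
  have hx1' : x ≠ 1 := fun h => hx1 (Subtype.ext h)
  have hgen : zpowers x = R₀ := zpowers_eq_of_card_prime hr hxR hx1'
  have hxr : x ^ r = 1 := congrArg Subtype.val (pow_card_eq_one' (G := R₀) (x := ⟨x, hxR⟩))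
  have hCx : ∀ g : X, x * g = g * x → g ∈ centralizer (R₀ : Set X) := fun g h => by
    refine mem_centralizer_iff.2 fun y hy => ?_
    rw [← hgen] at hy
    obtain ⟨m, rfl⟩ := mem_zpowers_iff.1 hy
    exact Commute.zpow_left (show Commute x g from h) m
  have hfpfP : ∀ e ∈ R₀, e ≠ 1 → ∀ u ∈ P, e * u = u * e → u = 1 := fun e he he1 u hu h => by
    rw [← mem_bot, ← hfixP]
    refine ⟨hu, mem_centralizer_iff.2 fun y hy => ?_⟩
    rw [← zpowers_eq_of_card_prime hr he he1] at hy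
    obtain ⟨m, rfl⟩ := mem_zpowers_iff.1 hy
    exact Commute.zpow_left (show Commute e u from h) m
  have hAD : ⁅Y, Y⁆ ≤ D := commutator_le.2 fun a ha b hb => hcd ⟨a, ha⟩ ⟨b, hb⟩
  have hAC : ⁅Y, Y⁆ ⊓ centralizer (R₀ : Set X) = ⊥ := by
    by_contra hne
    apply hYP
    -- then `C_Y(R₀)` lies in the derived group
    set C := Y ⊓ centralizer (R₀ : Set X) with hC
    haveI : IsZGroup C :=
      IsZGroup.of_injective (Subgroup.inclusion_injective (inf_le_inf_right _ hYQ))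
    haveI : IsCyclic C := by
      haveI := (hYq.to_le (inf_le_left : C ≤ Y)).isNilpotent
      infer_instance
    have hCq : Nat.card C ≤ q := card_le_of_isCyclic_of_pow (Fact.out : q.Prime).pos fun c =>
      Subtype.ext (congrArg Subtype.val (hexp ⟨c, c.2.1⟩) : ((c : X)) ^ q = 1)
    have hCA : ⁅Y, Y⁆ ⊓ centralizer (R₀ : Set X) = C := by
      have hle : ⁅Y, Y⁆ ⊓ centralizer (R₀ : Set X) ≤ C :=
        inf_le_inf_right _ (Subgroup.commutator_le_self Y)
      refine eq_of_le_of_card_ge hle (hCq.trans ?_)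
      obtain ⟨n, hn⟩ := IsPGroup.iff_card.1 (hYq.to_le (hle.trans inf_le_left))
      rw [hn]
      exact Nat.le_self_pow (fun h0 => hne (Subgroup.card_eq_one.1 (by rw [hn, h0, pow_zero]))) q
    have hCP : C ≤ centralizer (P : Set X) :=
      hCA.ge.trans (inf_le_left.trans (hAD.trans (le_centralizer_iff.1 hPD)))
    have hW := frobenius_fixed_point_formula hdisj hR₀P hfpfP hYA
      (inferInstance : Group.IsSolvable Y) (hAcop.coprime_dvd_right hYd)
    have h1 : Y ⊓ centralizer ((P ⊔ R₀ : Subgroup X) : Set X) = C := by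
      refine le_antisymm (inf_le_inf_left _ (centralizer_le (SetLike.coe_subset_coe.2 le_sup_right)))
        (le_inf inf_le_left (le_centralizer_iff.1 (sup_le ?_ ?_)))
      · exact le_centralizer_iff.1 hCP
      · exact le_centralizer_iff.1 inf_le_right
    rw [h1, ← hC] at hW
    have h2 := Nat.eq_of_mul_eq_mul_left (pow_pos Nat.card_pos r) hW
    have h3 : Y ⊓ centralizer (P : Set X) = Y := eq_of_le_of_card_ge inf_le_left h2.le
    exact le_centralizer_iff.1 (inf_eq_left.1 h3)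
  -- the representation on `V`
  obtain ⟨n, ρ, u, hρ, hline⟩ := exists_rep_fixed_line hVc hVp hr.pos hxr hrp'
    (by rw [← inf_centralizer_zpowers, hgen]; exact hfix)
  have hker : ∀ g ∈ Q, ρ g = 1 → g = 1 := fun g hg h => by
    rw [← mem_bot, ← hfaith]; exact ⟨hg, hρ g h⟩
  have hcharF : ∀ B : Subgroup X, B ≤ Y → ((Nat.card B : ℕ) : AlgebraicClosure (ZMod p)) ≠ 0 := by
    intro B hB
    rw [Ne, CharP.cast_eq_zero_iff _ p]
    exact fun h => (Fact.out : p.Prime).not_dvd_one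
      (hQp ▸ Nat.dvd_gcd (h.trans (card_dvd_of_le (hB.trans hYQ))) dvd_rfl)
  have hxY : x ∈ normalizer (Y : Set X) := hR₀Y hxR
  have hYab : ⁅Y, Y⁆ = ⊥ := by
    have hxA : x ∈ normalizer ((⁅Y, Y⁆ : Subgroup X) : Set X) := by
      rw [mem_normalizer_iff_map_conj_eq, map_commutator, mem_normalizer_iff_map_conj_eq.1 hxY]
    refine eq_bot_iff.2 fun a ha => mem_bot.2 (hker a ((Subgroup.commutator_le_self Y).trans hYQ ha)
      (rep_eq_one_of_free_central (A := ⁅Y, Y⁆) (x := ⟨x, hxA⟩) ρ hr (Subtype.ext hxr) hline rfl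
        (hYD.trans (centralizer_le (SetLike.coe_subset_coe.2 hAD))) (fun b hb => ?_)
        (hcharF _ (Subgroup.commutator_le_self Y)) ha))
    have hmem : (b : X) ∈ ⁅Y, Y⁆ ⊓ centralizer (R₀ : Set X) :=
      ⟨b.2, hCx _ (mul_inv_eq_iff_eq_mul.1 (congrArg Subtype.val hb))⟩
    rw [hAC, mem_bot] at hmem
    exact Subtype.ext hmem
  apply hYP
  set M := normalizer (Y : Set X) with hM
  intro g hg
  refine mem_centralizer_iff.2 fun a ha => ?_
  have hfin : ρ (a⁻¹ * (g * a * g⁻¹)) = 1 :=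
    rep_conj_eq_of_fpf (A := Y) (x := ⟨x, hxY⟩) ρ hr hr2 (Subtype.ext hxr) hline
      (fun b hb c hc => (mem_centralizer_iff.1 (commutator_eq_bot_iff_le_centralizer.1 hYab hb) c hc).symm)
      (hcharF Y le_rfl) (P := P.subgroupOf M)
      (fun k hk => mem_subgroupOf.2 ((mem_normalizer_iff.1 (hR₀P hxR) _).1 (mem_subgroupOf.1 hk)))
      (fun k hk h => Subtype.ext (hfpfP x hxR hx1' _ (mem_subgroupOf.1 hk)
        (congrArg Subtype.val h)))
      (by rw [Nat.card_congr (subgroupOfEquivOfLe hPY).toEquiv]; exact hPodd)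
      (by rw [Nat.card_congr (subgroupOfEquivOfLe hPY).toEquiv]; exact hPrc)
      ha (g := ⟨g, hPY hg⟩) (mem_subgroupOf.2 hg)
  have h1 := hker _ (Q.mul_mem (Q.inv_mem (hYQ ha))
    (hYQ ((mem_normalizer_iff.1 (hPY hg) a).1 ha))) hfin
  rw [inv_mul_eq_one, eq_mul_inv_iff_mul_eq] at h1
  exact h1

end CfsgLib.OddOrder
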