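import Mathlib.LinearAlgebra.Dimension.Finrank
import Mathlib.LinearAlgebra.FiniteDimensional.Lemmas
import Mathlib.LinearAlgebra.Eigenspace.Basic
import Mathlib.GroupTheory.Perm.Cycle.Basic
import Mathlib.Algebra.BigOperators.Group.Finset.Basic
import Mathlib.Tactic

/-!
# Two counting lemmas for BG 2.5

* A map with no gap pattern `P(1) = P(θ) + 1` on ratios has a full image in odd situations.
* Eigenspace dimensions of a monomial operator with one fixed basis vector and free orbits.
-/

set_option autoImplicit false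
set_option linter.style.haveILetI false

namespace CfsgLib.OddOrder

open Finset in
/-- The multiplicity argument of BG 2.5: if the number of pairs with ratio `θ ≠ 1` is one less than
that of the pairs with equal values and some value is missed, then the parities clash. -/
theorem false_of_ratio_count {Γ : Type*} [CommGroup Γ] [Fintype Γ] [DecidableEq Γ] {ι : Type*}
    [Fintype ι] [DecidableEq ι] (d : ι → Γ) (u₀ : Γ) (hu : ∀ i, d i ≠ u₀)
    (hG : Odd (Fintype.card Γ)) (hι : Odd (Fintype.card ι)) (h1 : 1 < Fintype.card ι)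
    (h : ∀ θ : Γ, θ ≠ 1 → #{x : ι × ι | d x.1 = d x.2} = #{x : ι × ι | d x.1 = θ * d x.2} + 1) :
    False := by
  let m : Γ → ℕ := fun u => #{i : ι | d i = u}
  have hP : ∀ θ : Γ, #{x : ι × ι | d x.1 = θ * d x.2} = ∑ u : Γ, m (θ * u) * m u := by
    intro θ
    rw [Finset.card_eq_sum_card_fiberwise (f := fun x : ι × ι => d x.2) (t := Finset.univ)
      (fun _ _ => Finset.mem_univ _)]
    refine Finset.sum_congr rfl fun u _ => ?_
    rw [← Finset.card_product]
    congr 1
    ext ⟨i, j⟩
    simp only [mem_filter, mem_univ, true_and, mem_product]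
    constructor
    · rintro ⟨h1, h2⟩; exact ⟨h2 ▸ h1, h2⟩
    · rintro ⟨h1, h2⟩; exact ⟨h2.symm ▸ h1, h2⟩
  have hP1 : #{x : ι × ι | d x.1 = d x.2} = ∑ u : Γ, m u * m u := by
    have := hP 1
    simpa using this
  have hm0 : m u₀ = 0 := by
    simp only [m, Finset.card_eq_zero, Finset.filter_eq_empty_iff]
    exact fun i _ => hu i
  have hinj : Function.Injective d := by
    intro i j hij
    by_contra hne
    have hm : 2 ≤ m (d i) := Finset.one_lt_card.2 ⟨i, by simp, j, by simp [hij], hne⟩
    set θ : Γ := d i * u₀⁻¹ with hθdef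
    have hθ : θ ≠ 1 := fun h => hu i (mul_inv_eq_one.1 h)
    have key : ∑ u : Γ, ((m (θ * u) : ℤ) - m u) ^ 2 = 2 := by
      have e1 : ∑ u : Γ, (m (θ * u) : ℤ) * m (θ * u) = ∑ u : Γ, (m u : ℤ) * m u :=
        Fintype.sum_equiv (Equiv.mulLeft θ) _ _ fun _ => rfl
      have e2 := h θ hθ
      rw [hP1, hP] at e2
      zify at e2
      have e3 : ∀ u : Γ, ((m (θ * u) : ℤ) - m u) ^ 2 =
          (m (θ * u) : ℤ) * m (θ * u) - 2 * ((m (θ * u) : ℤ) * m u) + (m u : ℤ) * m u :=
        fun u => by ring
      simp only [e3, Finset.sum_add_distrib, Finset.sum_sub_distrib, ← Finset.mul_sum, e1]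
      linarith
    have hle : ((m (θ * u₀) : ℤ) - m u₀) ^ 2 ≤ 2 := key ▸
      Finset.single_le_sum (f := fun u : Γ => ((m (θ * u) : ℤ) - m u) ^ 2)
        (fun u _ => sq_nonneg _) (Finset.mem_univ u₀)
    rw [hm0, hθdef, inv_mul_cancel_right] at hle
    push_cast at hle
    rw [sub_zero] at hle
    have h2 : (2 : ℤ) ≤ m (d i) := by exact_mod_cast hm
    nlinarith
  have hdiag : #{x : ι × ι | d x.1 = d x.2} = Fintype.card ι := by
    rw [← Finset.card_univ (α := ι)]
    refine Finset.card_bij (fun x _ => x.1) (by simp) ?_ fun i _ => ⟨(i, i), by simp, rfl⟩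
    rintro ⟨a, b⟩ hab ⟨c, e⟩ hce (hac : a = c)
    simp only [mem_filter, mem_univ, true_and] at hab hce
    have h1 := hinj hab
    have h2 := hinj hce
    subst h1 h2 hac
    rfl
  have htot : Fintype.card ι * Fintype.card ι =
      ∑ θ : Γ, #{x : ι × ι | d x.1 = θ * d x.2} := by
    rw [← Fintype.card_prod, ← Finset.card_univ,
      Finset.card_eq_sum_card_fiberwise (f := fun x : ι × ι => d x.1 * (d x.2)⁻¹) (t := Finset.univ)
        (fun _ _ => Finset.mem_univ _)]
    exact Finset.sum_congr rfl fun θ _ => by simp [mul_inv_eq_iff_eq_mul]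
  obtain ⟨n, hn⟩ : ∃ n, Fintype.card ι = n + 2 := ⟨Fintype.card ι - 2, by omega⟩
  rw [← Finset.add_sum_erase _ _ (Finset.mem_univ (1 : Γ))] at htot
  simp only [one_mul] at htot
  rw [hdiag, Finset.sum_congr rfl (g := fun _ => n + 1) fun θ hθ => by
    have := h θ (Finset.ne_of_mem_erase hθ); omega,
    Finset.sum_const, Finset.card_erase_of_mem (Finset.mem_univ _), Finset.card_univ, hn,
    smul_eq_mul] at htot
  have hG' : Fintype.card Γ - 1 = n + 2 :=
    Nat.eq_of_mul_eq_mul_right (Nat.succ_pos n) (by linarith [htot])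
  obtain ⟨a, ha⟩ := hι
  obtain ⟨b, hb⟩ := hG
  omega

variable {F V : Type*} [Field F] [AddCommGroup V] [Module F V]

/-- The dimension of an eigenspace of an operator which is diagonal in a basis. -/
theorem finrank_eigenspace_of_basis_eigen {ι : Type*} [Fintype ι] [DecidableEq F]
    (b : Module.Basis ι F V) (f : Module.End F V) (a : ι → F) (hf : ∀ i, f (b i) = a i • b i)
    (θ : F) :
    Module.finrank F (Module.End.eigenspace f θ) = Fintype.card {i // a i = θ} := by
  classical
  have heq : Module.End.eigenspace f θ =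
      Submodule.span F (Set.range fun i : {i // a i = θ} => b i.1) := by
    refine le_antisymm (fun v hv => ?_) (Submodule.span_le.2 ?_)
    · rw [Module.End.mem_eigenspace_iff] at hv
      rw [← b.sum_repr v]
      refine Submodule.sum_mem _ fun i _ => ?_
      by_cases hi : a i = θ
      · exact Submodule.smul_mem _ _ (Submodule.subset_span ⟨⟨i, hi⟩, rfl⟩)
      · have h := congrArg (fun w => b.repr w i) hv
        conv at h => lhs; rw [← b.sum_repr v]
        simp only [map_sum, map_smul, hf, b.repr_self, Finsupp.coe_finsetSum, Finset.sum_apply,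
          Finsupp.smul_apply, smul_eq_mul, Finsupp.single_apply, mul_ite, mul_one, mul_zero,
          Finset.sum_ite_eq', Finset.mem_univ, if_true] at h
        have h0 : b.repr v i = 0 := by
          by_contra h0
          exact hi (mul_right_cancel₀ h0 (by rw [mul_comm]; exact h))
        rw [h0, zero_smul]
        exact zero_mem _
    · rintro _ ⟨⟨i, rfl⟩, rfl⟩
      exact Module.End.mem_eigenspace_iff.2 (hf i)
  rw [heq, finrank_span_eq_card]
  exact b.linearIndependent.comp _ Subtype.val_injective

/-- An operator permuting a basis up to scalars, with exactly one fixed basis vector (eigenvalue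
`1`) and all other orbits of prime length `r`: the eigenspace of `1` has dimension one more than
that of any other `r`-th root of unity. -/
theorem finrank_eigenspace_one_of_monomial {T : Type*} [Fintype T] (b : Module.Basis T F V)
    (f : Module.End F V) (π : Equiv.Perm T) (α : T → F) (hf : ∀ t, f (b t) = α t • b (π t))
    (t₀ : T) (hfix : ∀ t, π t = t ↔ t = t₀) (h₀ : α t₀ = 1) {r : ℕ} (hr : r.Prime)
    (hπ : π ^ r = 1) {θ : F} (hθr : θ ^ r = 1) (hθ : θ ≠ 1) :
    Module.finrank F (Module.End.eigenspace f 1) =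
      Module.finrank F (Module.End.eigenspace f θ) + 1 := by
  classical
  haveI : Fact r.Prime := ⟨hr⟩
  haveI : FiniteDimensional F V := b.finiteDimensional_of_finite
  have hfix' : π t₀ = t₀ := (hfix t₀).2 rfl
  have hper : ∀ t, t ≠ t₀ → ∀ n : ℕ, (π ^ n) t = t → r ∣ n := by
    intro t ht n hn
    by_contra hd
    have h1 : Function.IsPeriodicPt π r t := by
      show π^[r] t = t
      rw [← Equiv.Perm.coe_pow, hπ, Equiv.Perm.one_apply]
    have h2 : Function.IsPeriodicPt π n t := by
      show π^[n] t = t
      rw [← Equiv.Perm.coe_pow, hn]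
    have h3 := h1.gcd h2
    rw [(hr.coprime_iff_not_dvd.2 hd).gcd_eq_one] at h3
    exact ht ((hfix t).1 (by simpa [Function.IsPeriodicPt, Function.IsFixedPt] using h3))
  have hne : ∀ t, t ≠ t₀ → π t ≠ t₀ := fun t ht h => ht (π.injective (h.trans hfix'.symm))
  letI : Setoid T := Equiv.Perm.SameCycle.setoid π
  let rep : T → T := fun t => (Quotient.mk _ t : Quotient (Equiv.Perm.SameCycle.setoid π)).out
  have hrep : ∀ t, π.SameCycle (rep t) t := fun t => Quotient.mk_out t
  have hrepπ : ∀ t, rep (π t) = rep t := fun t =>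
    congrArg Quotient.out (Quotient.sound
      (Equiv.Perm.sameCycle_apply_left.2 (Equiv.Perm.SameCycle.refl π t)))
  choose pos hpos using fun t => (hrep t).exists_nat_pow_eq
  have hstep : ∀ t, t ≠ t₀ → θ ^ pos (π t) = θ * θ ^ pos t := by
    intro t ht
    have hrne : rep t ≠ t₀ := fun h => ht (by
      have := hpos t
      rw [h] at this
      have hfixn : ∀ n : ℕ, (π ^ n) t₀ = t₀ := fun n => by
        induction n with
        | zero => simp
        | succ n ih => rw [pow_succ, Equiv.Perm.mul_apply, hfix', ih]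
      rw [hfixn] at this
      exact this.symm)
    have e1 : (π ^ pos (π t)) (rep t) = (π ^ (pos t + 1)) (rep t) := by
      rw [pow_succ', Equiv.Perm.mul_apply, hpos, ← hrepπ, hpos]
    have hmod : pos (π t) ≡ pos t + 1 [MOD r] := by
      rcases le_total (pos (π t)) (pos t + 1) with hle | hle
      · refine (Nat.modEq_iff_dvd' hle).2 (hper _ hrne _ ((π ^ pos (π t)).injective ?_))
        rw [← Equiv.Perm.mul_apply, ← pow_add, Nat.add_sub_cancel' hle, e1]
      · refine ((Nat.modEq_iff_dvd' hle).2 (hper _ hrne _ ((π ^ (pos t + 1)).injective ?_))).symm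
        rw [← Equiv.Perm.mul_apply, ← pow_add, Nat.add_sub_cancel' hle, e1]
    rw [← pow_succ', pow_eq_pow_mod (pos (π t)) hθr, pow_eq_pow_mod (pos t + 1) hθr, hmod]
  have hθ0 : θ ≠ 0 := fun h => by simp [h, hr.ne_zero] at hθr
  let D : V →ₗ[F] V := b.constr F fun t => if t = t₀ then 0 else (θ ^ pos t)⁻¹ • b t
  let D' : V →ₗ[F] V := b.constr F fun t => if t = t₀ then 0 else θ ^ pos t • b t
  have hDb : ∀ t, D (b t) = if t = t₀ then 0 else (θ ^ pos t)⁻¹ • b t := b.constr_basis F _
  have hD'b : ∀ t, D' (b t) = if t = t₀ then 0 else θ ^ pos t • b t := b.constr_basis F _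
  have hfD : f ∘ₗ D = θ • (D ∘ₗ f) := b.ext fun t => by
    rw [LinearMap.comp_apply, LinearMap.smul_apply, LinearMap.comp_apply, hDb, hf, map_smul]
    by_cases ht : t = t₀
    · subst ht; simp [hfix', hDb]
    · rw [if_neg ht, map_smul, hf, hDb, if_neg (hne t ht), hstep t ht, mul_inv_rev, smul_smul,
        smul_smul, smul_smul]
      congr 1
      field_simp
  have hfD' : f ∘ₗ D' = θ⁻¹ • (D' ∘ₗ f) := b.ext fun t => by
    rw [LinearMap.comp_apply, LinearMap.smul_apply, LinearMap.comp_apply, hD'b, hf, map_smul]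
    by_cases ht : t = t₀
    · subst ht; simp [hfix', hD'b]
    · rw [if_neg ht, map_smul, hf, hD'b, if_neg (hne t ht), hstep t ht, smul_smul, smul_smul,
        smul_smul]
      congr 1
      field_simp
  have hcoord : ∀ v, b.repr (f v) t₀ = b.repr v t₀ := by
    intro v
    conv_lhs => rw [← b.sum_repr v]
    simp only [map_sum, map_smul, hf, b.repr_self, Finsupp.coe_finsetSum, Finset.sum_apply,
      Finsupp.smul_apply, smul_eq_mul, Finsupp.single_apply]
    rw [Finset.sum_eq_single t₀]
    · simp [hfix', h₀]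
    · intro t _ ht; simp [hne t ht]
    · simp
  let L : Module.End.eigenspace f 1 →ₗ[F] Module.End.eigenspace f θ :=
    LinearMap.codRestrict _ (D.comp (Submodule.subtype _)) fun v => by
      rw [Module.End.mem_eigenspace_iff]
      have hv := Module.End.mem_eigenspace_iff.1 v.2
      rw [one_smul] at hv
      show (f ∘ₗ D) v = θ • D v
      rw [hfD, LinearMap.smul_apply, LinearMap.comp_apply, hv]
  have hid : ∀ v, b.repr v t₀ = 0 → D (D' v) = v := by
    intro v hv
    conv_lhs => rw [← b.sum_repr v]
    conv_rhs => rw [← b.sum_repr v]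
    simp only [map_sum, map_smul]
    refine Finset.sum_congr rfl fun t _ => ?_
    by_cases ht : t = t₀
    · subst ht; simp [hv]
    · rw [hD'b, if_neg ht, map_smul, hDb, if_neg ht, smul_smul (θ ^ pos t),
        mul_inv_cancel₀ (pow_ne_zero _ hθ0), one_smul]
  have hsurj : Function.Surjective L := fun w => by
    have hw := Module.End.mem_eigenspace_iff.1 w.2
    have h0 : b.repr (w : V) t₀ = 0 := by
      have h1 := hcoord w
      rw [hw, map_smul, Finsupp.smul_apply, smul_eq_mul] at h1
      by_contra hne0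
      exact hθ (mul_right_cancel₀ hne0 (h1.trans (one_mul _).symm))
    refine ⟨⟨D' w, ?_⟩, Subtype.ext (hid _ h0)⟩
    rw [Module.End.mem_eigenspace_iff, one_smul]
    show (f ∘ₗ D') w = D' w
    rw [hfD', LinearMap.smul_apply, LinearMap.comp_apply, hw, map_smul, smul_smul,
      inv_mul_cancel₀ hθ0, one_smul]
  have hmem : b t₀ ∈ Module.End.eigenspace f 1 := by
    rw [Module.End.mem_eigenspace_iff, hf, hfix', h₀]
  have hker : LinearMap.ker L = Submodule.span F {(⟨b t₀, hmem⟩ : Module.End.eigenspace f 1)} := by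
    refine le_antisymm (fun v hv => ?_) ?_
    · have hv0 : D (v : V) = 0 := congrArg Subtype.val (LinearMap.mem_ker.1 hv)
      refine Submodule.mem_span_singleton.2 ⟨b.repr (v : V) t₀, Subtype.ext ?_⟩
      show b.repr (v : V) t₀ • b t₀ = v
      refine b.ext_elem fun t => ?_
      by_cases ht : t = t₀
      · subst ht; simp
      · have h1 : b.repr (D (v : V)) t = (θ ^ pos t)⁻¹ * b.repr (v : V) t := by
          conv_lhs => rw [← b.sum_repr (v : V)]
          simp only [map_sum, map_smul, hDb, apply_ite (⇑b.repr), map_zero, b.repr_self,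
            Finsupp.coe_finsetSum, Finset.sum_apply, Finsupp.smul_apply, smul_eq_mul]
          rw [Finset.sum_eq_single t]
          · simp [ht, mul_comm]
          · intro u _ hu; split <;> simp [hu]
          · simp
        rw [hv0, map_zero, Finsupp.zero_apply, zero_eq_mul] at h1
        simp [h1.resolve_left (inv_ne_zero (pow_ne_zero _ hθ0)), Ne.symm ht]
    · rw [Submodule.span_singleton_le_iff_mem, LinearMap.mem_ker]
      exact Subtype.ext (show D (b t₀) = 0 by simp [hDb])
  have hrn := LinearMap.finrank_range_add_finrank_ker L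
  rw [LinearMap.range_eq_top.2 hsurj, finrank_top, hker,
    finrank_span_singleton (by simpa [Subtype.ext_iff] using b.ne_zero t₀)] at hrn
  exact hrn.symm

end CfsgLib.OddOrder
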