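import Cfsg.Agent.OddOrder.BG3.Rfix0
import Cfsg.Agent.OddOrder.BG3.Wielandt
import Cfsg.Agent.Coprime.Abelian
import Cfsg.Agent.Solvable.Nilpotent
import Mathlib.GroupTheory.Nilpotent

/-!
# BG 3.5: a Frobenius group with cyclic fixed points on a coprime module

`K R` with `#R = r` prime and `C_K(R) = 1` acts coprimely on the elementary abelian group `V` and
`#C_V(R) ≤ ℓ`: then `K'` centralizes `V`.
-/

set_option autoImplicit false
set_option linter.style.haveILetI false

namespace CfsgLib.OddOrder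

open Subgroup
open scoped commutatorElement

/-- A representation over the algebraic closure afforded by an elementary abelian subgroup. -/
theorem exists_rep_of_le_normalizer {X : Type*} [Group X] [Finite X] {ℓ : ℕ} [Fact ℓ.Prime]
    {N W : Subgroup X} (hWc : IsMulCommutative W) (hWl : ∀ w ∈ W, w ^ ℓ = 1)
    (hNW : N ≤ normalizer (W : Set X)) :
    ∃ (n : ℕ) (ρ : N →* Module.End (AlgebraicClosure (ZMod ℓ)) (Fin n → AlgebraicClosure (ZMod ℓ))),
      Nat.card W = ℓ ^ n ∧ ∀ g : N, ρ g = 1 → (g : X) ∈ centralizer (W : Set X) := by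
  letI : CommGroup W :=
    { (inferInstance : Group W) with mul_comm := fun x y => hWc.is_comm.comm x y }
  haveI : Finite (Additive W) := Finite.of_equiv W Additive.ofMul
  let φ : N →* MulAut W := (normalizerMonoidHom W).comp (Subgroup.inclusion hNW)
  let f : N →* AddMonoid.End (Additive W) :=
    { toFun := fun g => MonoidHom.toAdditive (φ g).toMonoidHom
      map_one' := AddMonoidHom.ext fun v => congrArg Additive.ofMul (by
        show φ 1 (Additive.toMul v) = Additive.toMul v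
        rw [map_one]; rfl)
      map_mul' := fun g g' => AddMonoidHom.ext fun v => congrArg Additive.ofMul (by
        show φ (g * g') (Additive.toMul v) = φ g (φ g' (Additive.toMul v))
        rw [map_mul]; rfl) }
  obtain ⟨n, ρ, hn, hρ, -⟩ := exists_rep_algClosure_of_addEnd (A := Additive W) ℓ
    (fun x => Subtype.ext (hWl _ (Additive.toMul x).2)) f
  refine ⟨n, ρ, by rw [← hn]; exact Nat.card_congr Additive.ofMul, fun g hg => ?_⟩
  have hf : f g = 1 := by rw [hρ g 1 (by rw [hg, map_one]), map_one]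
  refine mem_centralizer_iff.2 fun w hw => ?_
  have h1 := congrArg (fun y : Additive W => ((Additive.toMul y : W) : X))
    (DFunLike.congr_fun hf (Additive.ofMul ⟨w, hw⟩))
  exact (mul_inv_eq_iff_eq_mul.1 h1).symm

/-- If `x` of prime order `r` acts freely on a central subgroup `Z` of `K` that is not in the kernel,
a representation of degree at most `r` has abelian image of `K`. -/
theorem commute_of_free_central {F : Type*} [Field F] [IsAlgClosed F] {M : Type*} [AddCommGroup M]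
    [Module F M] [FiniteDimensional F M] {Γ : Type*} [Group Γ] (ρ : Γ →* Module.End F M)
    {K Z : Subgroup Γ} [Finite Z] (hcent : ∀ k ∈ K, ∀ z ∈ Z, k * z = z * k) (hZK : Z ≤ K)
    {x : Γ} {r : ℕ} (hr : r.Prime) (hxr : x ^ r = 1)
    (hxZ : ∀ z ∈ Z, x * z * x⁻¹ ∈ Z) (hfree : ∀ z ∈ Z, x * z = z * x → z = 1)
    (hdim : Module.finrank F M ≤ r) (hcharF : (Nat.card Z : F) ≠ 0) (hnt : ∃ z ∈ Z, ρ z ≠ 1)
    {a b : Γ} (ha : a ∈ K) (hb : b ∈ K) : ρ a * ρ b = ρ b * ρ a := by
  classical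
  obtain ⟨z₀, hz₀, hz₀1⟩ := hnt
  have hz₀o : z₀ ^ Nat.card Z = 1 := by
    have := pow_card_eq_one' (G := Z) (x := ⟨z₀, hz₀⟩)
    exact congrArg Subtype.val this
  haveI : NeZero (Nat.card Z) := ⟨Nat.card_pos.ne'⟩
  obtain ⟨ι, hι, bs, d, hd, -⟩ := exists_eigen_basis_of_pow_eq_one (s := ρ z₀) hcharF
    (by rw [← map_pow, hz₀o, map_one])
  obtain ⟨i₀, hi₀⟩ : ∃ i, d i ≠ 1 := by
    by_contra hall
    push Not at hall
    exact hz₀1 (bs.ext fun i => by simp [hd, hall])
  -- a common eigenvector of `Z`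
  obtain ⟨U, ⟨hU0, hUle, hUinv⟩, hUmin⟩ := (wellFounded_lt (α := Submodule F M)).has_min
    {U | U ≠ ⊥ ∧ U ≤ Module.End.eigenspace (ρ z₀) (d i₀) ∧ ∀ z ∈ Z, ∀ u ∈ U, ρ z u ∈ U}
    ⟨Module.End.eigenspace (ρ z₀) (d i₀), fun h => bs.ne_zero i₀ (by
      rw [← Submodule.mem_bot F, ← h]; exact Module.End.mem_eigenspace_iff.2 (hd i₀)), le_rfl,
      fun z hz u hu => by
        rw [Module.End.mem_eigenspace_iff] at hu ⊢
        rw [← Module.End.mul_apply, ← map_mul, ← hcent z (hZK hz) z₀ hz₀, map_mul,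
          Module.End.mul_apply, hu, map_smul]⟩
  haveI : Nontrivial U := Submodule.nontrivial_iff_ne_bot.2 hU0
  have hsc : ∀ z ∈ Z, ∃ c : F, ∀ u ∈ U, ρ z u = c • u := by
    intro z hz
    obtain ⟨c, hc⟩ := Module.End.exists_eigenvalue ((ρ z).restrict (hUinv z hz))
    obtain ⟨u₀, hu₀, hu₀0⟩ := hc.exists_hasEigenvector
    refine ⟨c, fun u hu => ?_⟩
    have heq : U ⊓ Module.End.eigenspace (ρ z) c = U := by
      by_contra hne
      refine hUmin _ ⟨?_, inf_le_left.trans hUle, ?_⟩ (lt_of_le_of_ne inf_le_left hne)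
      · intro h
        refine hu₀0 (Subtype.ext ?_)
        have : (u₀ : M) ∈ U ⊓ Module.End.eigenspace (ρ z) c :=
          ⟨u₀.2, Module.End.mem_eigenspace_iff.2
            (congrArg Subtype.val (Module.End.mem_eigenspace_iff.1 hu₀))⟩
        rw [h, Submodule.mem_bot] at this
        exact this
      · rintro w hw v ⟨hv, hv'⟩
        refine ⟨hUinv w hw v hv, ?_⟩
        rw [SetLike.mem_coe, Module.End.mem_eigenspace_iff] at hv' ⊢
        rw [← Module.End.mul_apply, ← map_mul, ← hcent w (hZK hw) z hz, map_mul,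
          Module.End.mul_apply, hv', map_smul]
    exact Module.End.mem_eigenspace_iff.1 (heq.ge hu).2
  choose χ₀ hχ₀ using hsc
  obtain ⟨v, hvU, hv0⟩ := (Submodule.ne_bot_iff U).1 hU0
  let χ : Z →* F :=
    { toFun := fun z => χ₀ z z.2
      map_one' := by
        have h := hχ₀ 1 Z.one_mem v hvU
        rw [map_one, Module.End.one_apply] at h
        exact smul_left_injective F hv0 (show χ₀ 1 _ • v = (1 : F) • v by rw [← h, one_smul])
      map_mul' := fun z w => smul_left_injective F hv0 (by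
        show χ₀ ((z * w : Z) : Γ) _ • v = (χ₀ z z.2 * χ₀ w w.2) • v
        rw [← hχ₀ _ _ v hvU, Subgroup.coe_mul, map_mul, Module.End.mul_apply, hχ₀ w w.2 v hvU,
          map_smul, hχ₀ z z.2 v hvU, smul_smul, mul_comm]) }
  have hχv : ∀ z : Z, ρ z v = χ z • v := fun z => hχ₀ z z.2 v hvU
  have hχ1 : χ ⟨z₀, hz₀⟩ ≠ 1 := fun h => hi₀ (smul_left_injective F hv0 (by
    show d i₀ • v = (1 : F) • v
    rw [← h, ← hχv]; exact (Module.End.mem_eigenspace_iff.1 (hUle hvU)).symm))
  -- conjugates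
  have hxm : ∀ m : ℕ, ∀ z ∈ Z, x ^ m * z * (x ^ m)⁻¹ ∈ Z := by
    intro m
    induction m with
    | zero => intro z hz; simpa using hz
    | succ m ih =>
      intro z hz
      have := hxZ _ (ih z hz)
      rw [pow_succ']
      simpa [mul_assoc] using this
  have hxi : x⁻¹ = x ^ (r - 1) := by
    rw [inv_eq_iff_mul_eq_one, ← pow_succ', Nat.sub_add_cancel hr.one_le, hxr]
  let c : ℕ → (Z →* Z) := fun m =>
    { toFun := fun z => ⟨(x ^ m)⁻¹ * z * x ^ m, by
        have e : (x ^ m)⁻¹ = x ^ ((r - 1) * m) := by rw [← inv_pow, hxi, ← pow_mul]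
        have h := hxm ((r - 1) * m) z z.2
        rwa [← e, inv_inv] at h⟩
      map_one' := Subtype.ext (by simp)
      map_mul' := fun z w => Subtype.ext (by simp [mul_assoc]) }
  let χs : Fin r → (Z →* F) := fun i => χ.comp (c i)
  let vs : Fin r → M := fun i => ρ (x ^ (i : ℕ)) v
  have hvs : ∀ (i : Fin r) (z : Z), ρ z (vs i) = χs i z • vs i := by
    intro i z
    show ρ z (ρ (x ^ (i : ℕ)) v) = _
    rw [← Module.End.mul_apply, ← map_mul,
      show (z : Γ) * x ^ (i : ℕ) = x ^ (i : ℕ) * ((c i z : Z) : Γ) by simp [c, mul_assoc],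
      map_mul, Module.End.mul_apply, hχv, map_smul]
    rfl
  have hvs0 : ∀ i, vs i ≠ 0 := fun i h => hv0 (by
    have : ρ ((x ^ (i : ℕ))⁻¹ * x ^ (i : ℕ)) v = 0 := by
      rw [map_mul, Module.End.mul_apply, show ρ (x ^ (i : ℕ)) v = 0 from h, map_zero]
    simpa using this)
  have hχs : Function.Injective χs := by
    -- otherwise `χ` is invariant under a generator
    suffices H : ∀ i j : Fin r, (i : ℕ) < j → χs i ≠ χs j by
      intro i j hij
      rcases lt_trichotomy (i : ℕ) j with h | h | h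
      · exact absurd hij (H i j h)
      · exact Fin.ext h
      · exact absurd hij.symm (H j i h)
    intro i j hij heq
    have hk : ∀ z ∈ Z, ∀ (hz' : x ^ ((j : ℕ) - i) * z * (x ^ ((j : ℕ) - i))⁻¹ ∈ Z) (hz : z ∈ Z),
        χ ⟨x ^ ((j : ℕ) - i) * z * (x ^ ((j : ℕ) - i))⁻¹, hz'⟩ = χ ⟨z, hz⟩ := by
      intro z _ hz' hz
      have h1 := DFunLike.congr_fun heq ⟨x ^ (j : ℕ) * z * (x ^ (j : ℕ))⁻¹, hxm _ z hz⟩
      simp only [χs, MonoidHom.comp_apply] at h1
      refine Eq.trans ?_ (h1.trans ?_)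
      · congr 1
        refine Subtype.ext ?_
        show _ = (x ^ (i : ℕ))⁻¹ * (x ^ (j : ℕ) * z * (x ^ (j : ℕ))⁻¹) * x ^ (i : ℕ)
        rw [show x ^ (j : ℕ) = x ^ (i : ℕ) * x ^ ((j : ℕ) - i) by
          rw [← pow_add, Nat.add_sub_cancel' hij.le]]
        group
      · congr 1
        refine Subtype.ext ?_
        show (x ^ (j : ℕ))⁻¹ * (x ^ (j : ℕ) * z * (x ^ (j : ℕ))⁻¹) * x ^ (j : ℕ) = z
        group
    set m := (j : ℕ) - i with hm
    have hm0 : 0 < m := Nat.sub_pos_of_lt hij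
    have hmr : m < r := lt_of_le_of_lt (Nat.sub_le _ _) j.2
    -- `z ↦ z⁻¹ (x^m z x^-m)` is onto `Z`
    have hinj : Function.Injective (fun z : Z =>
        (⟨(z : Γ)⁻¹ * (x ^ m * z * (x ^ m)⁻¹), Z.mul_mem (Z.inv_mem z.2) (hxm m z z.2)⟩ : Z)) := by
      intro z w h
      have h' : (z : Γ)⁻¹ * (x ^ m * z * (x ^ m)⁻¹) = (w : Γ)⁻¹ * (x ^ m * w * (x ^ m)⁻¹) :=
        congrArg Subtype.val h
      have hzw : (w : Γ) * (z : Γ)⁻¹ ∈ Z := Z.mul_mem w.2 (Z.inv_mem z.2)
      have hcomm : Commute (x ^ m) ((w : Γ) * (z : Γ)⁻¹) := by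
        have : x ^ m * ((w : Γ) * (z : Γ)⁻¹) * (x ^ m)⁻¹ = (w : Γ) * (z : Γ)⁻¹ := by
          calc x ^ m * ((w : Γ) * (z : Γ)⁻¹) * (x ^ m)⁻¹
              = (x ^ m * w * (x ^ m)⁻¹) * (x ^ m * z * (x ^ m)⁻¹)⁻¹ := by group
            _ = (w : Γ) * ((w : Γ)⁻¹ * (x ^ m * w * (x ^ m)⁻¹)) *
                ((z : Γ) * ((z : Γ)⁻¹ * (x ^ m * z * (x ^ m)⁻¹)))⁻¹ := by group
            _ = (w : Γ) * (z : Γ)⁻¹ := by rw [h']; group
        exact mul_inv_eq_iff_eq_mul.1 this
      have hco : m.Coprime r :=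
        (hr.coprime_iff_not_dvd.2 (Nat.not_dvd_of_pos_of_lt hm0 hmr)).symm
      obtain ⟨e, he⟩ := Nat.exists_mul_mod_eq_one_of_coprime hco hr.one_lt
      have hx : (x ^ m) ^ e = x := by
        rw [← pow_mul, pow_eq_pow_mod (m * e) hxr, he.2, pow_one]
      have := hfree _ hzw (hx ▸ hcomm.pow_left e)
      exact Subtype.ext (mul_inv_eq_one.1 this).symm
    obtain ⟨z, hz⟩ := Finite.surjective_of_injective hinj ⟨z₀, hz₀⟩
    refine hχ1 ?_
    have hne : χ z ≠ 0 := fun h => by
      have := map_mul χ z z⁻¹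
      rw [mul_inv_cancel, map_one, h, zero_mul] at this
      exact one_ne_zero this
    rw [← hz]
    refine (congrArg χ (show (⟨(z : Γ)⁻¹ * (x ^ m * z * (x ^ m)⁻¹),
      Z.mul_mem (Z.inv_mem z.2) (hxm m z z.2)⟩ : Z) =
        z⁻¹ * ⟨x ^ m * z * (x ^ m)⁻¹, hxm m z z.2⟩ from rfl)).trans ?_
    rw [map_mul, hk z z.2 (hxm m z z.2) z.2, Subtype.coe_eta, ← map_mul, inv_mul_cancel, map_one]
  have hli : LinearIndependent F vs := by
    rw [Fintype.linearIndependent_iff]
    intro g hg i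
    have hgv : g i • vs i = 0 := by
      refine (Module.forall_dual_apply_eq_zero_iff F _).1 fun φ => ?_
      have hz : ∑ j, (g j * φ (vs j)) • (χs j : Z → F) = 0 := by
        funext z
        rw [Finset.sum_apply]
        have h1 := congrArg (fun w => φ (ρ z w)) hg
        simp only [map_sum, map_smul, hvs, map_zero, smul_eq_mul] at h1
        rw [Pi.zero_apply, ← h1]
        exact Finset.sum_congr rfl fun j _ => by rw [Pi.smul_apply, smul_eq_mul]; ring
      have := Fintype.linearIndependent_iff.1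
        ((linearIndependent_monoidHom Z F).comp χs hχs) _ hz i
      rw [map_smul, smul_eq_mul, this]
    exact (smul_eq_zero.1 hgv).resolve_right (hvs0 i)
  haveI : Nonempty (Fin r) := ⟨⟨0, hr.pos⟩⟩
  have hfr : Fintype.card (Fin r) = Module.finrank F M :=
    le_antisymm hli.fintype_card_le_finrank (by simpa using hdim)
  let B := basisOfLinearIndependentOfCardEqFinrank hli hfr
  have hB : ∀ i, B i = vs i := fun i => by simp [B]
  have hdiag : ∀ k ∈ K, ∀ i, ∃ q : F, ρ k (B i) = q • B i := by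
    intro k hk i
    refine ⟨B.repr (ρ k (B i)) i, ?_⟩
    have hzero : ∀ j, j ≠ i → B.repr (ρ k (B i)) j = 0 := by
      intro j hj
      obtain ⟨z, hz⟩ : ∃ z : Z, χs j z ≠ χs i z := by
        by_contra hall
        push Not at hall
        exact hj (hχs (MonoidHom.ext hall))
      have h1 : ρ z (ρ k (B i)) = χs i z • ρ k (B i) := by
        rw [← Module.End.mul_apply, ← map_mul, ← hcent k hk z z.2, map_mul, Module.End.mul_apply,
          hB, hvs, map_smul]
      have h2 : ρ z (ρ k (B i)) = ∑ l, (B.repr (ρ k (B i)) l * χs l z) • B l := by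
        conv_lhs => rw [← B.sum_repr (ρ k (B i))]
        rw [map_sum]
        exact Finset.sum_congr rfl fun l _ => by rw [map_smul, hB l, hvs, smul_smul]
      have h3 := congrArg (fun w => B.repr w j) (h2.symm.trans h1)
      simp only [map_smul, Finsupp.smul_apply, smul_eq_mul, map_sum, Module.Basis.repr_self,
        Finsupp.coe_finset_sum, Finset.sum_apply, Finsupp.single_apply, mul_ite, mul_one, mul_zero,
        Finset.sum_ite_eq', Finset.mem_univ, if_true] at h3
      by_contra hne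
      exact hz (mul_left_cancel₀ hne (h3.trans (mul_comm _ _)))
    conv_lhs => rw [← B.sum_repr (ρ k (B i))]
    exact Finset.sum_eq_single i (fun j _ hj => by rw [hzero j hj, zero_smul]) (by simp)
  refine B.ext fun i => ?_
  obtain ⟨p, hp⟩ := hdiag a ha i
  obtain ⟨q, hq⟩ := hdiag b hb i
  rw [Module.End.mul_apply, Module.End.mul_apply, hq, map_smul, hp, map_smul, hq, smul_smul,
    smul_smul, mul_comm]

/-- A group of prime order acting without fixed points has order prime to that of the group. -/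
theorem coprime_card_of_prime_fpf {X : Type*} [Group X] [Finite X] {K R : Subgroup X}
    (hRK : R ≤ normalizer (K : Set X)) (hr : (Nat.card R).Prime)
    (hfix : K ⊓ centralizer (R : Set X) = ⊥) : (Nat.card R).Coprime (Nat.card K) := by
  refine hr.coprime_iff_not_dvd.2 fun hd => ?_
  haveI : Fact (Nat.card R).Prime := ⟨hr⟩
  letI : MulAction R K :=
    MulAction.compHom K ((normalizerMonoidHom K).comp (Subgroup.inclusion hRK))
  have hone : (1 : K) ∈ MulAction.fixedPoints R K := fun g => by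
    show ((normalizerMonoidHom K).comp (Subgroup.inclusion hRK) g) 1 = 1
    exact map_one _
  obtain ⟨b, hb, hb1⟩ := (IsPGroup.of_card (n := 1) (pow_one _).symm :
    IsPGroup (Nat.card R) R).exists_fixed_point_of_prime_dvd_card_of_fixed_point K hd hone
  refine hb1 (Subtype.ext ?_)
  have : (b : X) ∈ K ⊓ centralizer (R : Set X) := ⟨b.2, mem_centralizer_iff.2 fun y hy =>
    mul_inv_eq_iff_eq_mul.1 (congrArg Subtype.val (hb ⟨y, hy⟩))⟩
  rw [hfix, mem_bot] at this
  exact this.symm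

/-- BG 3.5: if `K R` (`#R` prime, `C_K(R) = 1`) acts coprimely on an elementary abelian `ℓ`-group
`V` with `#C_V(R) ≤ ℓ`, then `K'` centralizes `V`. -/
theorem commutator_le_centralizer_of_card_fixed_le {X : Type*} [Group X] [Finite X]
    {K R V : Subgroup X} (ℓ : ℕ) [Fact ℓ.Prime] (hVc : IsMulCommutative V)
    (hVl : ∀ v ∈ V, v ^ ℓ = 1) (hsolv : Group.IsSolvable K) (hRK : R ≤ normalizer (K : Set X))
    (hKV : K ≤ normalizer (V : Set X)) (hRV : R ≤ normalizer (V : Set X))
    (hr : (Nat.card R).Prime) (hrl : Nat.card R ≠ ℓ) (hKl : (Nat.card K).Coprime ℓ)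
    (hfixK : K ⊓ centralizer (R : Set X) = ⊥)
    (hfixV : Nat.card ↥(V ⊓ centralizer (R : Set X)) ≤ ℓ) :
    ⁅K, K⁆ ≤ centralizer (V : Set X) := by
  classical
  haveI := hVc
  haveI : Fact (Nat.card R).Prime := ⟨hr⟩
  set r := Nat.card R
  have hVp : IsPGroup ℓ V := fun v => ⟨1, by rw [pow_one]; exact Subtype.ext (hVl v v.2)⟩
  obtain ⟨nV, hnV⟩ := IsPGroup.iff_card.1 hVp
  have hKV' : (Nat.card K).Coprime (Nat.card V) := hnV ▸ hKl.pow_right _
  have hKr := coprime_card_of_prime_fpf hRK hr hfixK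
  set W := ⁅V, K⁆
  have hWV : W ≤ V := Coprime.commutator_le_of_le_normalizer hKV
  have hKW : K ≤ normalizer (W : Set X) :=
    le_sup_right.trans (Coprime.sup_le_normalizer_commutator V K)
  have hRW : R ≤ normalizer (W : Set X) := fun g hg => mem_normalizer_iff_map_conj_eq.2 (by
    rw [map_commutator, mem_normalizer_iff_map_conj_eq.1 (hRV hg),
      mem_normalizer_iff_map_conj_eq.1 (hRK hg)])
  suffices hW : ⁅K, K⁆ ≤ centralizer (W : Set X) by
    intro g hg
    refine mem_centralizer_iff.2 fun v hv => ?_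
    have hsup : V ≤ centralizer ({g} : Set X) := by
      rw [← Coprime.inf_centralizer_sup_commutator_eq hKV hKV', sup_le_iff]
      exact ⟨fun u hu => mem_centralizer_singleton_iff.2
          ((mem_centralizer_iff.1 hu.2) g (Subgroup.commutator_le_self K hg)).symm,
        fun u hu => mem_centralizer_singleton_iff.2 (mem_centralizer_iff.1 (hW hg) u hu)⟩
    exact mem_centralizer_singleton_iff.1 (hsup hv)
  have hWc : IsMulCommutative W :=
    ⟨⟨fun a b => Subtype.ext
      ((congrArg (Subtype.val : V → X) (hVc.is_comm.comm ⟨a, hWV a.2⟩ ⟨b, hWV b.2⟩) :))⟩⟩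
  have hKR : K ⊓ R = ⊥ := Coprime.inf_eq_bot_of_coprime hKr.symm
  have hcW : (Nat.card ↥(K ⊔ R)).Coprime (Nat.card W) := by
    refine Nat.Coprime.coprime_dvd_right (card_dvd_of_le hWV) ?_
    rw [Coprime.card_sup_eq hRK hKR, hnV]
    exact (hKl.mul_left (Nat.Coprime.symm ((Fact.out : ℓ.Prime).coprime_iff_not_dvd.2 fun h =>
      hrl (((Nat.prime_dvd_prime_iff_eq Fact.out hr).1 h).symm)))).pow_right _
  have hxfpf : ∀ e ∈ R, e ≠ 1 → ∀ u ∈ K, e * u = u * e → u = 1 := fun e he he1 u hu h => by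
    rw [← mem_bot, ← hfixK]
    refine ⟨hu, mem_centralizer_iff.2 fun y hy => ?_⟩
    rw [← zpowers_eq_of_card_prime hr he he1] at hy
    obtain ⟨m, rfl⟩ := mem_zpowers_iff.1 hy
    exact (Commute.zpow_left (show Commute e u from h) m)
  have hCWK : W ⊓ centralizer (K : Set X) = ⊥ := le_bot_iff.1
    ((le_inf (inf_le_inf_right _ hWV) inf_le_left).trans
      (Coprime.inf_centralizer_inf_commutator_eq_bot hKV hKV').le)
  have hW := frobenius_fixed_point_formula hKR hRK hxfpf (sup_le hKW hRW)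
    (Group.isSolvable_of_comm fun a b => hWc.is_comm.comm a b) hcW
  have hCKR : W ⊓ centralizer ((K ⊔ R : Subgroup X) : Set X) = ⊥ := le_bot_iff.1 (by
    rw [← hCWK]
    exact inf_le_inf_left _ (centralizer_le (SetLike.coe_subset_coe.2 le_sup_left)))
  rw [hCKR, hCWK, Subgroup.card_bot, one_pow, one_mul, mul_one] at hW
  have hWle : Nat.card W ≤ ℓ ^ r := by
    rw [hW]
    exact Nat.pow_le_pow_left
      ((Nat.le_of_dvd Nat.card_pos (card_dvd_of_le (inf_le_inf_right _ hWV))).trans hfixV) _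
  set Y := K ⊔ R with hY
  obtain ⟨n, ρ, hn, hρ⟩ := exists_rep_of_le_normalizer (N := Y) hWc
    (fun w hw => hVl w (hWV hw)) (sup_le hKW hRW)
  have hnr : n ≤ r := (Nat.pow_le_pow_iff_right (Fact.out : ℓ.Prime).one_lt).1 (hn ▸ hWle)
  obtain ⟨⟨x, hxR⟩, hx1⟩ : ∃ x : R, x ≠ 1 := by
    haveI : Nontrivial R := Finite.one_lt_card_iff_nontrivial.1 hr.one_lt
    exact exists_ne 1
  have hxK := hRK hxR
  set u := ρ.toHomUnits with hu
  set K₁ := (K.subgroupOf Y).map u with hK₁
  haveI : Finite K₁ := Finite.of_surjective _ (u.subgroupMap_surjective _)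
  have hnil : Group.IsNilpotent K := isNilpotent_of_prime_fpf hsolv hRK hr hfixK
  haveI : Group.IsNilpotent (K.subgroupOf Y) :=
    Group.nilpotent_of_mulEquiv (subgroupOfEquivOfLe (le_sup_left : K ≤ Y)).symm
  haveI : Group.IsNilpotent K₁ :=
    Group.nilpotent_of_surjective _ (u.subgroupMap_surjective (K.subgroupOf Y))
  -- it suffices that the image is commutative
  suffices hab : ∀ a ∈ K₁, ∀ b ∈ K₁, a * b = b * a by
    refine commutator_le.2 fun a ha b hb => ?_
    have h : u ⁅(⟨a, (le_sup_left : K ≤ Y) ha⟩ : Y), ⟨b, (le_sup_left : K ≤ Y) hb⟩⁆ = 1 := by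
      rw [map_commutatorElement, commutatorElement_eq_one_iff_mul_comm]
      exact hab _ (mem_map_of_mem u ha) _ (mem_map_of_mem u hb)
    have h' := congrArg Units.val h
    simp only [hu, MonoidHom.coe_toHomUnits, Units.val_one] at h'
    exact hρ _ h'
  intro a ha b hb
  rcases subsingleton_or_nontrivial K₁ with hsub | hnon
  · have h1 : a = 1 := congrArg Subtype.val (Subsingleton.elim (⟨a, ha⟩ : K₁) 1)
    rw [h1, one_mul, mul_one]
  haveI : Nontrivial (center K₁) := (Subgroup.nontrivial_iff_ne_bot _).2 fun h =>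
    Solvable.inf_center_ne_bot (N := (⊤ : Subgroup K₁)) top_ne_bot (by rw [h, inf_bot_eq])
  obtain ⟨⟨zz, hzc⟩, hz1⟩ : ∃ z : center K₁, z ≠ 1 := exists_ne 1
  let Z : Subgroup _ := (center K₁).map K₁.subtype
  have hfix₁ : K₁ ⊓ centralizer (((R.subgroupOf Y).map u : Subgroup _) : Set _) = ⊥ := by
    rw [hK₁, ← Coprime.map_inf_centralizer u ?_ ?_ (Or.inr ?_), ← le_bot_iff]
    · rintro _ ⟨k, hk, rfl⟩
      have hk' : (k : X) ∈ K ⊓ centralizer (R : Set X) := by
        refine ⟨hk.1, mem_centralizer_iff.2 fun y hy => ?_⟩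
        exact congrArg Subtype.val
          (mem_centralizer_iff.1 hk.2 ⟨y, (le_sup_right : R ≤ Y) hy⟩ hy)
      rw [hfixK, mem_bot] at hk'
      rw [mem_bot, show k = 1 from Subtype.ext hk', map_one]
    · intro y hy
      rw [mem_normalizer_iff]
      intro k
      simp only [mem_subgroupOf, Subgroup.coe_mul, Subgroup.coe_inv]
      exact mem_normalizer_iff.1 (hRK hy) k
    · rw [Nat.card_congr (subgroupOfEquivOfLe (le_sup_right : R ≤ Y)).toEquiv]
      refine hKr.coprime_dvd_right ((card_dvd_of_le inf_le_left).trans ?_)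
      rw [Nat.card_congr (subgroupOfEquivOfLe (le_sup_left : K ≤ Y)).toEquiv]
    · exact Coprime.isSolvable_of_le (B := K.subgroupOf Y) inf_le_left
  set x' : Y := ⟨x, (le_sup_right : R ≤ Y) hxR⟩ with hx'
  have hxr : x ^ r = 1 := congrArg Subtype.val (pow_card_eq_one' (G := R) (x := ⟨x, hxR⟩))
  have hxR₁ : ∀ z ∈ K₁, u x' * z = z * u x' → z = 1 := fun z hz h => by
    rw [← mem_bot, ← hfix₁]
    refine ⟨hz, mem_centralizer_iff.2 ?_⟩
    rintro _ ⟨y, hy, rfl⟩
    have hy' : (y : X) ∈ zpowers x := by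
      rw [zpowers_eq_of_card_prime hr hxR fun h => hx1 (Subtype.ext h)]; exact hy
    obtain ⟨m, hm⟩ := mem_zpowers_iff.1 hy'
    rw [show y = x' ^ m from Subtype.ext (by rw [← hm]; rfl), map_zpow]
    exact Commute.zpow_left (show Commute (u x') z from h) m
  have hconj : ∀ z ∈ K₁, u x' * z * (u x')⁻¹ ∈ K₁ := by
    rintro _ ⟨k, hk, rfl⟩
    exact ⟨x' * k * x'⁻¹, (mem_normalizer_iff.1 hxK k).1 hk, by simp⟩
  have hconj' : ∀ z ∈ K₁, (u x')⁻¹ * z * u x' ∈ K₁ := by
    rintro _ ⟨k, hk, rfl⟩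
    refine ⟨x'⁻¹ * k * x', ?_, by simp⟩
    have := (mem_normalizer_iff.1 (inv_mem hxK) k).1 hk
    simpa [hx', mem_subgroupOf] using this
  haveI : Finite Z := Finite.of_surjective _ (K₁.subtype.subgroupMap_surjective _)
  have hmain : ∀ a' ∈ K₁, ∀ b' ∈ K₁,
      (Units.coeHom _) a' * (Units.coeHom _) b' = (Units.coeHom _) b' * (Units.coeHom _) a' :=
    fun a' ha' b' hb' => commute_of_free_central (Units.coeHom _) (K := K₁) (Z := Z)
      (x := u x') (r := r) ?_ ?_ hr ?_ ?_ ?_ ?_ ?_ ?_ ha' hb'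
  · exact Units.ext (hmain a ha b hb)
  · rintro k hk _ ⟨z, hz, rfl⟩
    exact congrArg Subtype.val (mem_center_iff.1 hz ⟨k, hk⟩)
  · rintro _ ⟨z, -, rfl⟩
    exact z.2
  · rw [← map_pow, show x' ^ r = 1 from Subtype.ext hxr, map_one]
  · rintro _ ⟨z, hz, rfl⟩
    refine ⟨⟨_, hconj z z.2⟩, mem_center_iff.2 fun g => Subtype.ext ?_, rfl⟩
    have h1 := congrArg Subtype.val (mem_center_iff.1 hz ⟨_, hconj' g g.2⟩)
    simp only [Subgroup.coe_mul] at h1 ⊢
    calc (g : _) * (u x' * z * (u x')⁻¹) = u x' * ((u x')⁻¹ * g * u x' * z) * (u x')⁻¹ := by group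
      _ = u x' * (z * ((u x')⁻¹ * g * u x')) * (u x')⁻¹ := by rw [h1]
      _ = u x' * z * (u x')⁻¹ * g := by group
  · rintro _ ⟨z, -, rfl⟩ h
    exact hxR₁ _ z.2 h
  · simpa using hnr
  · rw [Ne, CharP.cast_eq_zero_iff _ ℓ]
    intro hd
    have h1 : ℓ ∣ Nat.card K := (hd.trans (card_dvd_of_le (map_subtype_le _))).trans
      ((card_map_dvd (K.subgroupOf Y) u).trans
        (dvd_of_eq (Nat.card_congr (subgroupOfEquivOfLe (le_sup_left : K ≤ Y)).toEquiv)))
    exact (Fact.out : ℓ.Prime).not_dvd_one (hKl ▸ Nat.dvd_gcd h1 dvd_rfl)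
  · exact ⟨_, ⟨zz, hzc, rfl⟩, fun h => hz1 (Subtype.ext (Subtype.ext (Units.ext h)))⟩

end CfsgLib.OddOrder
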